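import Mathlib
import Cfsg.Agent.H48.Crit3

/-!
# Elements of order 3 in a group of type `3^{2+1+2}` with `Ω₁ = 3³`
-/

set_option autoImplicit false

namespace Cfsg.Agent.H102.AAThree

open Subgroup
open scoped commutatorElement
open Cfsg.Agent.H48.Crit

section
variable {X : Type*} [Group X]

/-- two commuting elements generate the products of their powers -/
theorem mem_closure_pair_comm {x y z : X} (h : x * y = y * x) (hz : z ∈ closure ({x, y} : Set X)) :
    ∃ i j : ℤ, z = x ^ i * y ^ j := by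
  obtain ⟨i, w, hw, rfl⟩ := mem_closure_insert_comm (S := {y}) (by rintro w rfl; exact h) hz
  rw [← zpowers_eq_closure] at hw
  obtain ⟨j, rfl⟩ := mem_zpowers_iff.1 hw
  exact ⟨i, j, rfl⟩

/-- modulo a normalized subgroup containing the commutator -/
theorem exists_coset {a b : X} {E : Subgroup X} (ha : ∀ s ∈ E, a * s * a⁻¹ ∈ E) (ha' : ∀ s ∈ E, a⁻¹ * s * a ∈ E)
    (hb : ∀ s ∈ E, b * s * b⁻¹ ∈ E) (hb' : ∀ s ∈ E, b⁻¹ * s * b ∈ E) (hab : ⁅a, b⁆ ∈ E) {x : X}
    (hx : x ∈ closure ({a, b} : Set X)) : ∃ i j : ℤ, ∃ s ∈ E, x = a ^ i * b ^ j * s := by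
  have hN : ∀ {y : X}, (∀ s ∈ E, y * s * y⁻¹ ∈ E) → (∀ s ∈ E, y⁻¹ * s * y ∈ E) → y ∈ normalizer (E : Set X) := by
    intro y h1 h2
    rw [mem_normalizer_iff]
    intro s
    refine ⟨fun hs => h1 s hs, fun hs => ?_⟩
    have h3 := h2 _ hs
    have e : y⁻¹ * (y * s * y⁻¹) * y = s := by group
    rwa [e] at h3
  have haN := hN ha ha'
  have hbN := hN hb hb'
  set N := normalizer (E : Set X) with hNdef
  have hEN : E ≤ N := le_normalizer
  have hnor : (E.subgroupOf N).Normal := by
    rw [hNdef]; infer_instance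
  let π := QuotientGroup.mk' (E.subgroupOf N)
  have hπ : ∀ y : N, π y = 1 ↔ (y : X) ∈ E := fun y => by
    rw [← mem_subgroupOf]
    exact QuotientGroup.eq_one_iff y
  have hcomm : π ⟨a, haN⟩ * π ⟨b, hbN⟩ = π ⟨b, hbN⟩ * π ⟨a, haN⟩ := by
    rw [← commutatorElement_eq_one_iff_mul_comm, ← map_commutatorElement, hπ]
    exact hab
  have h1 : ∃ hxN : x ∈ N, π ⟨x, hxN⟩ ∈ closure ({π ⟨a, haN⟩, π ⟨b, hbN⟩} : Set (N ⧸ E.subgroupOf N)) := by
    induction hx using closure_induction with
    | mem y hy =>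
      rcases hy with rfl | rfl
      · exact ⟨haN, subset_closure (by simp)⟩
      · exact ⟨hbN, subset_closure (by simp)⟩
    | one => exact ⟨one_mem _, by
        have : π ⟨1, one_mem N⟩ = 1 := map_one π
        rw [this]; exact one_mem _⟩
    | mul y z _ _ hy hz =>
      obtain ⟨h1, h2⟩ := hy
      obtain ⟨h3, h4⟩ := hz
      exact ⟨mul_mem h1 h3, by
        have : π ⟨y * z, mul_mem h1 h3⟩ = π ⟨y, h1⟩ * π ⟨z, h3⟩ := rfl
        rw [this]; exact mul_mem h2 h4⟩
    | inv y _ hy =>
      obtain ⟨h1, h2⟩ := hy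
      exact ⟨inv_mem h1, by
        have : π ⟨y⁻¹, inv_mem h1⟩ = (π ⟨y, h1⟩)⁻¹ := rfl
        rw [this]; exact inv_mem h2⟩
  obtain ⟨hxN, h2⟩ := h1
  obtain ⟨i, j, h3⟩ := mem_closure_pair_comm hcomm h2
  refine ⟨i, j, (a ^ i * b ^ j)⁻¹ * x, ?_, by group⟩
  have h4 : π ((⟨a, haN⟩ ^ i * ⟨b, hbN⟩ ^ j)⁻¹ * ⟨x, hxN⟩) = 1 := by
    rw [map_mul, map_inv, map_mul, map_zpow, map_zpow, ← h3, inv_mul_cancel]
  rw [hπ] at h4
  simpa using h4

/-- **The elements of order 3 lie in `⟨c, d, e⟩`.** -/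
theorem mem_of_cube {a b c d e : X} (hc : ⁅a, b⁆ = c) (hd : ⁅c, a⁆ = d)
    (he : ⁅c, b⁆ = e) (hda : d * a = a * d) (hdb : d * b = b * d) (hea : e * a = a * e) (heb : e * b = b * e)
    (hc3 : c ^ 3 = 1) (ha3 : a ^ 3 ∈ closure ({c, d, e} : Set X)) (hb3 : b ^ 3 ∈ closure ({c, d, e} : Set X))
    (hne : ∀ i j : ℕ, i < 3 → j < 3 → ¬ (i = 0 ∧ j = 0) → (a ^ i * b ^ j) ^ 3 ≠ 1) {x : X}
    (hx : x ∈ closure ({a, b} : Set X)) (hx3 : x ^ 3 = 1) : x ∈ closure ({c, d, e} : Set X) := by
  have hcd : c * d = d * c := by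
    rw [← hc, commutatorElement_def]
    have h1 : Commute d a := hda
    have h2 : Commute d b := hdb
    exact (((h1.mul_right h2).mul_right h1.inv_right).mul_right h2.inv_right).symm
  have hce : c * e = e * c := by
    rw [← hc, commutatorElement_def]
    have h1 : Commute e a := hea
    have h2 : Commute e b := heb
    exact (((h1.mul_right h2).mul_right h1.inv_right).mul_right h2.inv_right).symm
  have hde : d * e = e * d := by
    rw [← hd, commutatorElement_def]
    have h1 : Commute e c := hce.symm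
    have h2 : Commute e a := hea
    exact (((h1.mul_right h2).mul_right h1.inv_right).mul_right h2.inv_right).symm
  have hd3 : d ^ 3 = 1 := by
    rw [← comm_zpow_of_comm hd hcd, hc3, commutatorElement_one_left]
  have he3 : e ^ 3 = 1 := by
    rw [← comm_zpow_of_comm he hce, hc3, commutatorElement_one_left]
  set E := closure ({c, d, e} : Set X) with hE
  set Z := closure ({d, e} : Set X) with hZ
  have hcE : c ∈ E := subset_closure (by simp)
  have hdE : d ∈ E := subset_closure (by simp)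
  have heE : e ∈ E := subset_closure (by simp)
  have hdZ : d ∈ Z := subset_closure (by simp)
  have heZ : e ∈ Z := subset_closure (by simp)
  have hZE : Z ≤ E := by
    rw [hZ, closure_le]
    rintro y (rfl | rfl)
    · exact hdE
    · exact heE
  -- `Z` commutes with everything
  have hZc : ∀ z ∈ Z, z * a = a * z ∧ z * b = b * z ∧ z * c = c * z ∧ z ^ 3 = 1 := by
    intro z hz
    obtain ⟨i, j, rfl⟩ := mem_closure_pair_comm hde hz
    refine ⟨?_, ?_, ?_, ?_⟩
    · exact ((show Commute d a from hda).zpow_left i).mul_left ((show Commute e a from hea).zpow_left j)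
    · exact ((show Commute d b from hdb).zpow_left i).mul_left ((show Commute e b from heb).zpow_left j)
    · exact ((show Commute d c from hcd.symm).zpow_left i).mul_left ((show Commute e c from hce.symm).zpow_left j)
    · have h1 : Commute (d ^ i) (e ^ j) := ((show Commute d e from hde).zpow_left i).zpow_right j
      rw [h1.mul_pow, ← zpow_natCast, ← zpow_natCast, ← zpow_mul, ← zpow_mul, mul_comm i, mul_comm j, zpow_mul, zpow_mul,
        zpow_natCast, zpow_natCast, hd3, he3, one_zpow, one_zpow, one_mul]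
  -- the elements of `E`
  have hEf : ∀ s ∈ E, ∃ i : ℤ, ∃ z ∈ Z, s = c ^ i * z := by
    intro s hs
    obtain ⟨i, y, hy, rfl⟩ := mem_closure_insert_comm (S := {d, e}) (by
      rintro y (rfl | rfl)
      · exact hcd
      · exact hce) hs
    exact ⟨i, y, hy, rfl⟩
  -- the action of `P` on `c`
  have hcP : ∀ g ∈ closure ({a, b} : Set X), (∃ w ∈ Z, g * c * g⁻¹ = w * c) ∧ (∀ z ∈ Z, g * z = z * g) := by
    intro g hg
    induction hg using closure_induction with
    | mem y hy =>
      rcases hy with rfl | rfl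
      · exact ⟨⟨d⁻¹, inv_mem hdZ, by rw [← hd, commutatorElement_def]; group⟩, fun z hz => (hZc z hz).1.symm⟩
      · exact ⟨⟨e⁻¹, inv_mem heZ, by rw [← he, commutatorElement_def]; group⟩, fun z hz => (hZc z hz).2.1.symm⟩
    | one => exact ⟨⟨1, one_mem _, by group⟩, fun z _ => by rw [one_mul, mul_one]⟩
    | mul y z _ _ hy hz =>
      obtain ⟨⟨w, hw, hy1⟩, hy2⟩ := hy
      obtain ⟨⟨v, hv, hz1⟩, hz2⟩ := hz
      refine ⟨⟨v * w, mul_mem hv hw, ?_⟩, fun u hu => ?_⟩
      · calc y * z * c * (y * z)⁻¹ = y * (z * c * z⁻¹) * y⁻¹ := by group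
          _ = (y * v) * c * y⁻¹ := by rw [hz1]; group
          _ = v * (y * c * y⁻¹) := by rw [hy2 v hv]; group
          _ = v * w * c := by rw [hy1]; group
      · rw [mul_assoc, hz2 u hu, ← mul_assoc, hy2 u hu, mul_assoc]
    | inv y _ hy =>
      obtain ⟨⟨w, hw, hy1⟩, hy2⟩ := hy
      have h2 : ∀ z ∈ Z, y⁻¹ * z = z * y⁻¹ := fun z hz => ((show Commute y z from hy2 z hz).inv_left).eq
      refine ⟨⟨w⁻¹, inv_mem hw, ?_⟩, h2⟩
      have h3 : y * c = w * c * y := by rw [← hy1]; group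
      calc y⁻¹ * c * y⁻¹⁻¹ = y⁻¹ * w⁻¹ * (w * c * y) := by group
        _ = (y⁻¹ * w⁻¹) * (y * c) := by rw [← h3]
        _ = (w⁻¹ * y⁻¹) * (y * c) := by rw [h2 _ (inv_mem hw)]
        _ = w⁻¹ * c := by group
  -- the action of `P` on `E`
  have hEP : ∀ g ∈ closure ({a, b} : Set X), ∀ s ∈ E, ∃ w ∈ Z, g * s * g⁻¹ = w * s := by
    intro g hg s hs
    obtain ⟨⟨w, hw, h1⟩, h2⟩ := hcP g hg
    obtain ⟨i, z, hz, rfl⟩ := hEf s hs
    refine ⟨w ^ i, zpow_mem hw i, ?_⟩
    have h3 : Commute w c := (hZc w hw).2.2.1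
    calc g * (c ^ i * z) * g⁻¹ = (g * c ^ i * g⁻¹) * (g * z * g⁻¹) := by group
      _ = (g * c * g⁻¹) ^ i * z := by rw [h2 z hz, mul_inv_cancel_right, conj_zpow]
      _ = w ^ i * (c ^ i * z) := by rw [h1, h3.mul_zpow, mul_assoc]
  have hEn : ∀ g ∈ closure ({a, b} : Set X), ∀ s ∈ E, g * s * g⁻¹ ∈ E := by
    intro g hg s hs
    obtain ⟨w, hw, h1⟩ := hEP g hg s hs
    rw [h1]
    exact mul_mem (hZE hw) hs
  have hE3 : ∀ s ∈ E, s ^ 3 = 1 := by
    intro s hs
    obtain ⟨i, z, hz, rfl⟩ := hEf s hs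
    have h1 : Commute (c ^ i) z := ((show Commute z c from (hZc z hz).2.2.1).symm).zpow_left i
    rw [h1.mul_pow, (hZc z hz).2.2.2, mul_one, ← zpow_natCast, ← zpow_mul, mul_comm, zpow_mul, zpow_natCast, hc3,
      one_zpow]
  -- cubes
  have hcube : ∀ g ∈ closure ({a, b} : Set X), ∀ s ∈ E, (g * s) ^ 3 = g ^ 3 := by
    intro g hg s hs
    obtain ⟨w, hw, h1⟩ := hEP g hg s hs
    have h2 := (hcP g hg).2 w hw
    have h3 : w * s = s * w := by
      obtain ⟨i, z, hz, rfl⟩ := hEf s hs
      have h4 : Commute w (c ^ i) := (show Commute w c from (hZc w hw).2.2.1).zpow_right i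
      have h5 : Commute w z := by
        obtain ⟨i, j, rfl⟩ := mem_closure_pair_comm hde hz
        have h6 : Commute w d := by
          obtain ⟨i', j', rfl⟩ := mem_closure_pair_comm hde hw
          exact ((Commute.refl d).zpow_left i').mul_left ((show Commute e d from hde.symm).zpow_left j')
        have h7 : Commute w e := by
          obtain ⟨i', j', rfl⟩ := mem_closure_pair_comm hde hw
          exact ((show Commute d e from hde).zpow_left i').mul_left ((Commute.refl e).zpow_left j')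
        exact (h6.zpow_right i).mul_right (h7.zpow_right j)
      exact h4.mul_right h5
    have h4 : g * s = w * s * g := by rw [← h1]; group
    have hw3 : w * w * w = 1 := by
      have := (hZc w hw).2.2.2
      rwa [pow_succ, pow_two] at this
    have hs3 : s * s * s = 1 := by
      have := hE3 s hs
      rwa [pow_succ, pow_two] at this
    have k2 : g * g * s = w * w * (s * (g * g)) := by
      calc g * g * s = g * (g * s) := by group
        _ = g * (w * s * g) := by rw [h4]
        _ = (g * w) * s * g := by group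
        _ = (w * g) * s * g := by rw [h2]
        _ = w * (g * s) * g := by group
        _ = w * (w * s * g) * g := by rw [h4]
        _ = w * w * (s * (g * g)) := by group
    have k4 : (g * s) * (g * s) = s * s * (g * g) := by
      calc (g * s) * (g * s) = (w * s * g) * (g * s) := congrArg (· * (g * s)) h4
        _ = w * s * (g * g * s) := by group
        _ = w * s * (w * w * (s * (g * g))) := by rw [k2]
        _ = w * (s * w) * w * s * (g * g) := by group
        _ = w * (w * s) * w * s * (g * g) := by rw [← h3]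
        _ = w * w * (s * w) * s * (g * g) := by group
        _ = w * w * (w * s) * s * (g * g) := by rw [← h3]
        _ = (w * w * w) * (s * s * (g * g)) := by group
        _ = s * s * (g * g) := by rw [hw3, one_mul]
    calc (g * s) ^ 3 = (g * s) * (g * s) * (g * s) := by rw [pow_succ, pow_two]
      _ = s * s * (g * g) * (g * s) := by rw [k4]
      _ = s * s * (g * (g * g * s)) := by group
      _ = s * s * (g * (w * w * (s * (g * g)))) := by rw [k2]
      _ = s * s * ((g * w) * w * s * (g * g)) := by group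
      _ = s * s * ((w * g) * w * s * (g * g)) := by rw [h2]
      _ = s * s * (w * (g * w) * s * (g * g)) := by group
      _ = s * s * (w * (w * g) * s * (g * g)) := by rw [h2]
      _ = s * s * (w * w * (g * s) * (g * g)) := by group
      _ = s * s * (w * w * (w * s * g) * (g * g)) := by rw [h4]
      _ = s * s * ((w * w * w) * s * (g * g * g)) := by group
      _ = s * s * s * (g * g * g) := by rw [hw3]; group
      _ = g ^ 3 := by rw [hs3, one_mul, pow_succ, pow_two]
  have haP : a ∈ closure ({a, b} : Set X) := subset_closure (by simp)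
  have hbP : b ∈ closure ({a, b} : Set X) := subset_closure (by simp)
  obtain ⟨i, j, s, hs, hxs⟩ := exists_coset (E := E) (hEn a haP)
    (fun s hs => by simpa using hEn a⁻¹ (inv_mem haP) s hs) (hEn b hbP)
    (fun s hs => by simpa using hEn b⁻¹ (inv_mem hbP) s hs) (by rw [hc]; exact hcE) hx
  obtain ⟨i0, i', hi0, hi⟩ : ∃ i0 : ℕ, ∃ i' : ℤ, i0 < 3 ∧ i = i0 + 3 * i' := by
    refine ⟨(i % 3).toNat, i / 3, ?_, ?_⟩ <;> omega
  obtain ⟨j0, j', hj0, hj⟩ : ∃ j0 : ℕ, ∃ j' : ℤ, j0 < 3 ∧ j = j0 + 3 * j' := by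
    refine ⟨(j % 3).toNat, j / 3, ?_, ?_⟩ <;> omega
  obtain ⟨s', hs', hx'⟩ : ∃ s' ∈ E, x = a ^ i0 * b ^ j0 * s' := by
    refine ⟨(b ^ j0)⁻¹ * (a ^ 3) ^ i' * b ^ j0 * ((b ^ 3) ^ j') * s, ?_, ?_⟩
    · refine mul_mem (mul_mem ?_ (zpow_mem hb3 _)) hs
      have := hEn (b ^ j0)⁻¹ (inv_mem (pow_mem hbP _)) _ (zpow_mem ha3 i')
      rwa [inv_inv] at this
    · rw [hxs, hi, hj, zpow_add, zpow_add, zpow_mul, zpow_mul]
      have e1 : a ^ (3 : ℤ) = a ^ 3 := zpow_natCast a 3
      have e2 : b ^ (3 : ℤ) = b ^ 3 := zpow_natCast b 3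
      rw [e1, e2, zpow_natCast, zpow_natCast]
      group
  have h1 : (a ^ i0 * b ^ j0) ^ 3 = 1 := by
    rw [← hcube _ (mul_mem (pow_mem haP _) (pow_mem hbP _)) s' hs', ← hx', hx3]
  by_cases h0 : i0 = 0 ∧ j0 = 0
  · rw [hx', h0.1, h0.2, pow_zero, pow_zero, one_mul, one_mul]
    exact hs'
  · exact absurd h1 (hne i0 j0 hi0 hj0 h0)

end

end Cfsg.Agent.H102.AAThree
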