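import Cfsg.Agent.H102.AAJtwo
import Cfsg.Agent.H102.AAThree
import Cfsg.Agent.H48.J3Three
import Cfsg.Agent.CpAutJThree.Row
import Cfsg.Agent.H898.J3Cent

/-!
# The `AA` problem for the third Janko group
-/

set_option autoImplicit false

namespace Cfsg.Agent.H102.AAJthree

open Subgroup Cfsg Cfsg.Agent.H459.Rad Cfsg.Agent.H460.AA Cfsg.Agent.H102.AAMath Cfsg.Agent.H102.AAGen
open Cfsg.Agent.H102.AAJtwo Cfsg.Agent.H102.AAThree
open Cfsg.Spor Cfsg.Agent.J3.Core Cfsg.Agent.J3.Tab Cfsg.Agent.J3.Mono Cfsg.Agent.J3.Elts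
open Cfsg.Agent.J3.Order Cfsg.Agent.Lib.BitSet
open Cfsg.Agent.H48.J3Three
open scoped commutatorElement

/-- the word `(a^i b^j)^3` -/
def w3 (i j : ℕ) : List ℕ :=
  (List.replicate i 0 ++ List.replicate j 1) ++ ((List.replicate i 0 ++ List.replicate j 1) ++
    (List.replicate i 0 ++ List.replicate j 1))

theorem k_cube : ((List.range 3).all fun i => (List.range 3).all fun j =>
    (Nat.beq (i + j) 0 || (dif (w3 i j ++ [0]) (0 :: w3 i j) || dif (w3 i j ++ [1]) (1 :: w3 i j)))) = true := by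
  decide +kernel

theorem k_cube' {i j : ℕ} (hi : i < 3) (hj : j < 3) (h : ¬ (i = 0 ∧ j = 0)) :
    (∃ z : F9, (cols (wt (w3 i j ++ [0]))).getD (idx z) 0 ≠ (cols (wt (0 :: w3 i j))).getD (idx z) 0) ∨
    (∃ z : F9, (cols (wt (w3 i j ++ [1]))).getD (idx z) 0 ≠ (cols (wt (1 :: w3 i j))).getD (idx z) 0) := by
  have h1 := List.all_eq_true.1 (List.all_eq_true.1 k_cube i (List.mem_range.2 hi)) j (List.mem_range.2 hj)
  rw [Bool.or_eq_true, Bool.or_eq_true] at h1
  rcases h1 with h1 | h1 | h1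
  · exfalso
    have := Nat.eq_of_beq_eq_true h1
    omega
  · exact Or.inl (exists_of_dif h1)
  · exact Or.inr (exists_of_dif h1)

section model

variable {F : Type*} [Field F] {ω : F} {G : Gens F ω}

theorem cube_ne (H : Good ω) {i j : ℕ} (hi : i < 3) (hj : j < 3) (h : ¬ (i = 0 ∧ j = 0)) :
    (q G 0 ^ i * q G 1 ^ j) ^ 3 ≠ 1 := by
  intro h3
  have h0 : wd G (List.replicate i 0 ++ List.replicate j 1) = lg G 0 ^ i * lg G 1 ^ j := by
    rw [wd_append, wd_replicate, wd_replicate]
  have h1 : wd G (w3 i j) = (lg G 0 ^ i * lg G 1 ^ j) ^ 3 := by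
    have h2 : ∀ l : List ℕ, wd G (l ++ (l ++ l)) = wd G l ^ 3 := fun l => by
      rw [wd_append, wd_append, pow_succ, pow_two, mul_assoc]
    rw [w3, h2, h0]
  have hx : wd G (w3 i j) ∈ center (threeJ3 F ω) := by
    rw [← ker_pr, MonoidHom.mem_ker, h1, map_pow, map_mul, map_pow, map_pow]
    exact h3
  have hcomm := fun x => (mem_center_iff.1 hx (lg G x)).symm
  rcases k_cube' hi hj h with h1 | h1
  · apply wd_ne (G := G) H h1
    rw [wd_append, wd_one, wd_cons]
    exact hcomm 0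
  · apply wd_ne (G := G) H h1
    rw [wd_append, wd_one, wd_cons]
    exact hcomm 1

/-- **A 3-subgroup of index prime to 3 whose elements of order 3 commute.** -/
theorem exists_P [Fintype F] (hF : Fintype.card F = 4) (H : Good ω) : ∃ P : Subgroup (J3 F ω),
    ¬ 3 ∣ P.index ∧ ∀ x ∈ P, ∀ y ∈ P, x ^ 3 = 1 → y ^ 3 = 1 → x * y = y * x := by
  obtain ⟨G⟩ := exists_gens hF H
  have hcard := Cfsg.Agent.J3.Simple.card_J3 hF H
  have hfin : Finite (J3 F ω) := Nat.finite_of_card_ne_zero (by rw [hcard]; norm_num)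
  have hab : ⁅q G 0, q G 1⁆ = q G 3 := by
    have h1 := congrArg (pr F ω) (wd_eq (G := G) H k_comm)
    rw [wd_cons, wd_one, wd_cons, wd_cons, wd_one, map_mul, map_mul, map_mul] at h1
    have h2 : q G 0 * q G 1 = q G 3 * (q G 1 * q G 0) := h1
    rw [commutatorElement_def, h2]; group
  have r3 : ∀ {x y z : ℕ} {s : ℕ} (_ : s < 3)
      (_ : beqL (cols (wt [x, y])) (cols (compT (tS s) (wt [z, y, x]))) = true), ⁅q G x, q G y⁆ = q G z := by
    intro x y z s hs h
    have h1 := pr_eqS (G := G) H hs h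
    rw [wd_cons, wd_one, wd_cons, wd_cons, wd_one, map_mul, map_mul, map_mul] at h1
    have h2 : q G x * q G y = q G z * (q G y * q G x) := h1
    rw [commutatorElement_def, h2]; group
  have cube : ∀ {x : ℕ} {s : ℕ} {l : List ℕ} (_ : s < 3)
      (_ : beqL (cols (wt [x, x, x])) (cols (compT (tS s) (wt l))) = true), q G x ^ 3 = pr F ω (wd G l) := by
    intro x s l hs h
    have h1 := pr_eqS (G := G) H hs h
    rw [← h1, wd_cons, wd_cons, wd_one, map_mul, map_mul, pow_succ, pow_two, mul_assoc]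
    rfl
  have hca := r3 (by norm_num) k_ca
  have hcb := r3 (by norm_num) k_cb
  have hda := q2 (G := G) H (by norm_num) k_da
  have hdb := q2 (G := G) H (by norm_num) k_db
  have hea := q2 (G := G) H (by norm_num) k_ea
  have heb := q2 (G := G) H (by norm_num) k_eb
  have c3 : q G 3 ^ 3 = 1 := by rw [cube (by norm_num) k_c3, wd_nil, map_one]
  have d3 : q G 4 ^ 3 = 1 := by rw [cube (by norm_num) k_d3, wd_nil, map_one]
  have e3 : q G 5 ^ 3 = 1 := by rw [cube (by norm_num) k_e3, wd_nil, map_one]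
  have a3 : q G 0 ^ 3 = q G 5 := by rw [cube (by norm_num) k_a3, wd_one]; rfl
  have b3 : q G 1 ^ 3 = q G 4 * q G 4 := by rw [cube (by norm_num) k_b3, wd_cons, wd_one, map_mul]; rfl
  have ha9 : q G 0 ^ 3 ^ 2 = 1 := by rw [show 3 ^ 2 = 3 * 3 by norm_num, pow_mul, a3, e3]
  have hb9 : q G 1 ^ 3 ^ 2 = 1 := by
    rw [show 3 ^ 2 = 3 * 3 by norm_num, pow_mul, b3, ← pow_two, ← pow_mul, mul_comm, pow_mul, d3, one_pow]
  have hind := independent (G := G) H
  have h35 := Cfsg.Agent.H48.Crit.three_pow_five hab hca hcb hda hdb hea heb c3 ⟨2, ha9⟩ ⟨2, hb9⟩ hind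
  have hidx : ¬ 3 ∣ (closure ({q G 0, q G 1} : Set (J3 F ω))).index :=
    Cfsg.Agent.H48.Crit.index_not_dvd Nat.prime_three h35 (by rw [hcard]; norm_num)
  refine ⟨closure ({q G 0, q G 1} : Set (J3 F ω)), hidx, ?_⟩
  -- the elements of order 3
  have hmem : ∀ x ∈ closure ({q G 0, q G 1} : Set (J3 F ω)), x ^ 3 = 1 →
      x ∈ closure ({q G 3, q G 4, q G 5} : Set (J3 F ω)) := fun x hx hx3 =>
    mem_of_cube hab hca hcb hda hdb hea heb c3 (by rw [a3]; exact subset_closure (by simp))
      (by rw [b3]; exact mul_mem (subset_closure (by simp)) (subset_closure (by simp)))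
      (fun i j hi hj h => cube_ne H hi hj h) hx hx3
  have hcd : Commute (q G 3) (q G 4) := by
    rw [← hab, commutatorElement_def]
    have h1 : Commute (q G 4) (q G 0) := hda
    have h2 : Commute (q G 4) (q G 1) := hdb
    exact (((h1.mul_right h2).mul_right h1.inv_right).mul_right h2.inv_right).symm
  have hce : Commute (q G 3) (q G 5) := by
    rw [← hab, commutatorElement_def]
    have h1 : Commute (q G 5) (q G 0) := hea
    have h2 : Commute (q G 5) (q G 1) := heb
    exact (((h1.mul_right h2).mul_right h1.inv_right).mul_right h2.inv_right).symm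
  have hde : Commute (q G 4) (q G 5) := by
    rw [← hca, commutatorElement_def]
    have h1 : Commute (q G 5) (q G 3) := hce.symm
    have h2 : Commute (q G 5) (q G 0) := hea
    exact (((h1.mul_right h2).mul_right h1.inv_right).mul_right h2.inv_right).symm
  have hcl : closure ({q G 3, q G 4, q G 5} : Set (J3 F ω)) ≤
      centralizer ((closure ({q G 3, q G 4, q G 5} : Set (J3 F ω)) : Subgroup (J3 F ω)) : Set (J3 F ω)) := by
    rw [centralizer_closure, closure_le]
    rintro x hx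
    rw [SetLike.mem_coe, mem_centralizer_iff]
    rintro y hy
    rcases hx with rfl | rfl | rfl <;> rcases hy with rfl | rfl | rfl
    · rfl
    · exact hcd.symm
    · exact hce.symm
    · exact hcd
    · rfl
    · exact hde.symm
    · exact hce
    · exact hde
    · rfl
  intro x hx y hy hx3 hy3
  exact (mem_centralizer_iff.1 (hcl (hmem x hx hx3)) y (hmem y hy hy3)).symm

end model

/-- a conjugate of an element of `p`-power order lies in a subgroup of index prime to `p` -/
theorem exists_conj_mem {K : Type*} [Group K] [Finite K] {p : ℕ} [hp : Fact p.Prime] {H : Subgroup K}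
    (hi : ¬ p ∣ H.index) {a : K} (ha : orderOf a = p) : ∃ g : K, g * a * g⁻¹ ∈ H := by
  have h1 : IsPGroup p (zpowers a) := IsPGroup.of_card (n := 1) (by rw [Nat.card_zpowers, ha, pow_one])
  have h2 : (MulAction.fixedPoints (zpowers a) (K ⧸ H)).Nonempty := by
    refine h1.nonempty_fixed_point_of_prime_not_dvd_card (α := K ⧸ H) ?_
    exact hi
  obtain ⟨y, hy⟩ := h2
  obtain ⟨g, rfl⟩ := QuotientGroup.mk_surjective y
  refine ⟨g⁻¹, ?_⟩
  have h3 := hy ⟨a, mem_zpowers a⟩
  have h4 : ((a * g : K) : K ⧸ H) = (g : K ⧸ H) := h3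
  rw [QuotientGroup.eq] at h4
  have h5 := H.inv_mem h4
  rw [inv_inv]
  have e : ((a * g)⁻¹ * g)⁻¹ = g⁻¹ * a * g := by group
  rwa [e] at h5

theorem orderOf_conj {K : Type*} [Group K] (g a : K) : orderOf (g * a * g⁻¹) = orderOf a :=
  orderOf_injective (MulAut.conj g).toMonoidHom (MulAut.conj g).injective a

open Cfsg.Agent.CpAutJThree in
/-- elements of order 3 of `C(x)`, `x` of order 3 commuting with an involution -/
theorem false_of_three {K : Type*} [Group K] [Finite K] (h : Spor.IsoJ3 K) {x : K} (hx : orderOf x = 3)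
    {t : K} (ht : orderOf t = 2) (htx : t * x = x * t) {a : K} (ha : orderOf a = 3) (hax : a * x = x * a)
    (hR : RC (MulAut.conj a)) : False := by
  obtain ⟨hcard, hM, hone, -⟩ := base h
  have hp2 : Fact (Nat.Prime 2) := ⟨Nat.prime_two⟩
  have hp3 : Fact (Nat.Prime 3) := ⟨Nat.prime_three⟩
  have memC : ∀ a : K, a ∈ centralizer ({x} : Set K) ↔ a * x = x * a := fun a => mem_centralizer_singleton_iff
  obtain ⟨c0, hc0, ⟨s, hs, hsc⟩, hc0c⟩ := exc h
  obtain ⟨g, hg⟩ := conj_three hM hone hc0 hx hs ht hsc htx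
  have hC : Nat.card ↥(centralizer ({x} : Set K)) = 1080 := by
    rw [← card_centralizer_conj g hg]; exact hc0c
  -- the element `a` is not a power of `x`
  have hmodel : ∀ b : K, orderOf b = 3 → b * t = t * b → ¬ RC (MulAut.conj b) := by
    intro b hb hbt hRb
    obtain ⟨-, hct, Q, v, ρ, M⟩ := hM t ht
    obtain ⟨f, hf⟩ := exists_onto M
    have := simple_A5
    refine false_of_mem_onto (S := alternatingGroup (Fin 5)) not_comm_A5 (H := centralizer ({t} : Set K)) ?_ f hf
        (k := 32) ?_ (p := 3) (by norm_num) hb (mem_centralizer_singleton_iff.2 hbt) hRb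
    · intro h5
      rw [h5, Nat.card_congr topEquiv.toEquiv, hcard] at hct
      norm_num at hct
    · rw [hct, card_A5]
  by_cases haz : a ∈ zpowers x
  · obtain ⟨k, hk⟩ := mem_zpowers_iff.1 haz
    refine hmodel a ha ?_ hR
    rw [← hk]
    have h1 : Commute t x := htx
    exact (h1.zpow_right k).symm
  let c : centralizer ({x} : Set K) := ⟨x, (memC x).2 rfl⟩
  have hc3 : orderOf c = 3 := by rw [← hx]; exact orderOf_mk _ _
  have hcc : ∀ a : centralizer ({x} : Set K), a * c = c * a := fun a => Subtype.ext ((memC a).1 a.2)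
  have hZn : (zpowers c).Normal := by
    constructor
    rintro n ⟨k, rfl⟩ g
    refine ⟨k, ?_⟩
    have h1 : Commute g c := hcc g
    have := h1.zpow_right k
    show c ^ k = g * c ^ k * g⁻¹
    rw [this.eq]; group
  have hHD8 := J3Type.Extra.hd8_quotient c hc3 hcc (hD_of_model hM hx)
  have hq : Nat.card (↥(centralizer ({x} : Set K)) ⧸ zpowers c) = 360 := by
    have := card_eq_card_quotient_mul_card_subgroup (zpowers c)
    rw [hC, Nat.card_zpowers, hc3] at this
    omega
  obtain ⟨s', hs'⟩ := exists_prime_orderOf_dvd_card' (G := ↥(centralizer ({x} : Set K)) ⧸ zpowers c) 2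
    (by rw [hq]; norm_num)
  have hsim := J3Type.Extra.isSimple hHD8 hs'
  refine false_of_not_mem hR (H := centralizer ({x} : Set K)) ?_ ((memC a).2 hax) fun hr => haz ?_
  · intro h5
    rw [h5, Nat.card_congr topEquiv.toEquiv, hcard] at hC
    norm_num at hC
  · have h1 := rad_le_ker (S := ↥(centralizer ({x} : Set K)) ⧸ zpowers c)
      (not_comm_of_card (by rw [hq]; norm_num)) (QuotientGroup.mk' (zpowers c)) (QuotientGroup.mk'_surjective _) hr
    rw [QuotientGroup.ker_mk'] at h1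
    obtain ⟨k, hk⟩ := mem_zpowers_iff.1 h1
    exact mem_zpowers_iff.2 ⟨k, congrArg Subtype.val hk⟩

theorem noRC {K : Type*} [Group K] [Finite K] [IsSimpleGroup K] (h : Spor.IsoJ3 K) : NoRC K := by
  obtain ⟨hcard, hM, hone, -⟩ := Cfsg.Agent.CpAutJThree.base h
  have hna : ¬ IsMulCommutative K := not_comm_of_card (by rw [hcard]; norm_num)
  intro p hp hp2 a ha hR hP
  have hpp := hp.out
  have hd : p ∣ 2 ^ 7 * (3 ^ 5 * (5 * (17 * 19))) := by
    have h1 : p ∣ Nat.card K := ha ▸ orderOf_dvd_natCard a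
    rw [hcard] at h1
    norm_num
    exact h1
  rcases (Nat.Prime.dvd_mul hpp).1 hd with h1 | h1
  · exact hp2 ((Nat.prime_dvd_prime_iff_eq hpp Nat.prime_two).1 (hpp.dvd_of_dvd_pow h1))
  rcases (Nat.Prime.dvd_mul hpp).1 h1 with h1 | h1
  · obtain rfl := (Nat.prime_dvd_prime_iff_eq hpp (by norm_num)).1 (hpp.dvd_of_dvd_pow h1)
    obtain ⟨P, hPi, hPc⟩ : ∃ P : Subgroup K, ¬ 3 ∣ P.index ∧ ∀ x ∈ P, ∀ y ∈ P, x ^ 3 = 1 → y ^ 3 = 1 →
        x * y = y * x := by
      obtain ⟨F', _, _, ω, hF, hω, ⟨e⟩⟩ := h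
      have H := Cfsg.Agent.J3.Core.good_of_card hF hω
      obtain ⟨P, h1, h2⟩ := exists_P hF H
      refine ⟨P.comap e.toMonoidHom, ?_, ?_⟩
      · rwa [index_comap_of_surjective P e.surjective]
      · intro x hx y hy hx3 hy3
        apply e.injective
        rw [map_mul, map_mul]
        exact h2 _ hx _ hy (by rw [← map_pow, hx3, map_one]) (by rw [← map_pow, hy3, map_one])
    obtain ⟨c0, hc0, ⟨s, hs, hsc⟩, hc0c⟩ := Cfsg.Agent.CpAutJThree.exc h
    obtain ⟨g, hg⟩ := exists_conj_mem hPi ha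
    obtain ⟨k, hk⟩ := exists_conj_mem hPi hc0
    have pw : ∀ {y : K}, orderOf y = 3 → y ^ 3 = 1 := fun {y} hy => by rw [← hy, pow_orderOf_eq_one]
    have ha' : orderOf (g * a * g⁻¹) = 3 := by rw [orderOf_conj, ha]
    have hc' : orderOf (k * c0 * k⁻¹) = 3 := by rw [orderOf_conj, hc0]
    refine false_of_three h (x := k * c0 * k⁻¹) hc' (t := k * s * k⁻¹) (by rw [orderOf_conj, hs]) ?_ ha'
      (hPc _ hg _ hk (pw ha') (pw hc')) (RC_conj hR g)
    calc k * s * k⁻¹ * (k * c0 * k⁻¹) = k * (s * c0) * k⁻¹ := by group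
      _ = k * (c0 * s) * k⁻¹ := by rw [hsc]
      _ = k * c0 * k⁻¹ * (k * s * k⁻¹) := by group
  rcases (Nat.Prime.dvd_mul hpp).1 h1 with h1 | h1
  · obtain rfl := (Nat.prime_dvd_prime_iff_eq hpp (by norm_num)).1 h1
    obtain ⟨t, ht⟩ := exists_prime_orderOf_dvd_card' (G := K) 2 (by rw [hcard]; norm_num)
    obtain ⟨-, hct, Q, v, ρ, M⟩ := hM t ht
    obtain ⟨f, hf⟩ := exists_onto M
    have := simple_A5
    have hidx : (centralizer ({t} : Set K)).index = 26163 := by
      have h1 := (centralizer ({t} : Set K)).card_mul_index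
      rw [hct, hcard] at h1
      omega
    refine false_of_onto (S := alternatingGroup (Fin 5)) not_comm_A5 (H := centralizer ({t} : Set K)) ?_ ?_ f hf
        (k := 32) ?_ (p := 5) (by norm_num) ha hR
    · intro h5
      rw [h5, index_top] at hidx
      norm_num at hidx
    · rw [hidx]; norm_num
    · rw [hct, card_A5]
  have hpa : (∀ P : Sylow p K, Nat.card P = p) → Nat.card (centralizer ({a} : Set K)) = p → p ≤ 19 → False := by
    intro h2 h3 h4
    obtain ⟨g, hg⟩ := Cfsg.Agent.H491.AA.pa_cyc hna hp2 h2 ha (by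
      rw [h3, hcard]
      calc p ^ 2 ≤ 19 ^ 2 := Nat.pow_le_pow_left h4 2
        _ ≤ 50232960 := by norm_num)
    exact hg (hP g)
  have hsyl : ¬ p ^ 2 ∣ 50232960 → ∀ P : Sylow p K, Nat.card P = p := by
    intro h2 P
    obtain ⟨n, hn⟩ := (IsPGroup.iff_card).1 P.2
    have h3 : p ^ n ∣ 50232960 := by rw [← hn, ← hcard]; exact card_subgroup_dvd_card _
    have h4 : n < 2 := by
      by_contra h4
      exact h2 ((pow_dvd_pow p (by omega)).trans h3)
    have h5 : p ∣ Nat.card P := by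
      apply P.dvd_card_of_dvd_card
      rw [← ha]
      exact orderOf_dvd_natCard a
    have h6 : n ≠ 0 := by
      rintro rfl
      rw [hn, pow_zero, Nat.dvd_one] at h5
      exact hpp.one_lt.ne' h5
    have h7 : n = 1 := by omega
    rw [hn, h7, pow_one]
  rcases (Nat.Prime.dvd_mul hpp).1 h1 with h1 | h1
  · obtain rfl := (Nat.prime_dvd_prime_iff_eq hpp (by norm_num)).1 h1
    exact hpa (hsyl (by norm_num)) (Cfsg.Agent.H898.J3Cent.seventeen h ha).1 (by norm_num)
  · obtain rfl := (Nat.prime_dvd_prime_iff_eq hpp (by norm_num)).1 h1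
    exact hpa (hsyl (by norm_num)) (Cfsg.Agent.H898.J3Cent.card_nineteen h ha) (by norm_num)

end Cfsg.Agent.H102.AAJthree
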