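import Cfsg.Agent.H102.AAJone
import Cfsg.Agent.H102.AAJthree
import Cfsg.Agent.H505.OddInn

/-!
# `Core` for the Mathieu groups and the Janko groups `J₁`, `J₂`, `J₃` (task 574, AA-SPOR-A)
-/

set_option autoImplicit false

namespace Cfsg.Agent.H102.AACore

open Subgroup Cfsg Cfsg.Agent.H459.Rad Cfsg.Agent.H460.AA Cfsg.Agent.H102.AAMath Cfsg.Agent.H102.AAGen

section
variable {K : Type*} [Group K] [Finite K] [IsSimpleGroup K]

/-- if automorphisms of odd prime order are inner, elements suffice -/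
theorem core_of_noRC (hna : ¬ IsMulCommutative K) (hin : Cfsg.Agent.BpSpor.Inn.OddInn K) (h : NoRC K) : Core K :=
  core_of_inner (Cfsg.Agent.CpAut.center_eq_bot_of_simple hna) (fun p hp hp2 x hx => hin p hp.out hp2 x hx) h

theorem core_m11 (hna : ¬ IsMulCommutative K) (h : Spor.IsoM11 K) : Core K := by
  obtain ⟨e⟩ := h
  exact core_of_noRC hna (Cfsg.Agent.H505.OddInn.m11 ⟨e⟩) (NoRC.of_noEl (noEl_m11.congr e))

theorem core_m12 (hna : ¬ IsMulCommutative K) (h : Spor.IsoM12 K) : Core K := by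
  obtain ⟨e⟩ := h
  exact core_of_noRC hna (Cfsg.Agent.H505.OddInn.m12 ⟨e⟩) (NoRC.of_noEl (noEl_m12.congr e))

theorem core_m22 (hna : ¬ IsMulCommutative K) (h : Spor.IsoM22 K) : Core K := by
  obtain ⟨e⟩ := h
  exact core_of_noRC hna (Cfsg.Agent.H505.OddInn.m22 ⟨e⟩) (NoRC.of_noEl (noEl_m22.congr e))

theorem core_m23 (hna : ¬ IsMulCommutative K) (h : Spor.IsoM23 K) : Core K := by
  obtain ⟨e⟩ := h
  exact core_of_noRC hna (Cfsg.Agent.H505.OddInn.m23 ⟨e⟩) (NoRC.of_noEl (noEl_m23.congr e))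

theorem core_m24 (hna : ¬ IsMulCommutative K) (h : Spor.IsoM24 K) : Core K := by
  obtain ⟨e⟩ := h
  exact core_of_noRC hna (Cfsg.Agent.H505.OddInn.m24 ⟨e⟩) (NoRC.of_noEl (noEl_m24.congr e))

theorem core_j1 (hna : ¬ IsMulCommutative K) (h : Spor.IsoJ1 K) : Core K := by
  obtain ⟨e⟩ := h
  exact core_of_noRC hna (Cfsg.Agent.H505.OddInn.j1 ⟨e⟩) (AAJone.noRC.congr e)

theorem core_j2 (hna : ¬ IsMulCommutative K) (h : Spor.IsoJ2 K) : Core K :=
  core_of_noRC hna (Cfsg.Agent.BpSpor.Inn.j2 h) (AAJtwo.noRC h)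

theorem core_j3 (hna : ¬ IsMulCommutative K) (h : Spor.IsoJ3 K) : Core K :=
  core_of_noRC hna (Cfsg.Agent.H505.OddInn.j3 h) (AAJthree.noRC h)

end

end Cfsg.Agent.H102.AACore
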