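import Mathlib
import Cfsg.Prelude.Def_Spor_Mathieu
import Cfsg.Agent.H460.AADef
import Cfsg.Agent.S5600
import Cfsg.Agent.S0366
import Cfsg.Agent.S0384
import Cfsg.Agent.SporadicA.M24Trans
import Cfsg.Agent.CpAutTThree.MTwelve

/-!
# The `AA` problem for the Mathieu groups (helper102, task 574)

If `x, a x, y, a y` are distinct and `g` maps them to `a y, x, a x, y` then `a * (g * a * g⁻¹)` interchanges `a x` and
`a y`, so its order is even. The elements `g` come from the 5-transitivity of `M₂₄` on the 24 points (any permutation of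
a 6-set is induced) and of `M₁₂` on 12 points.
-/

set_option autoImplicit false

namespace Cfsg.Agent.H102.AAMath

open Subgroup Cfsg Cfsg.Agent.H460.AA

section Perm

variable {α : Type*}

/-- a permutation with a 2-cycle has even order -/
theorem not_pe_of_swap {p : ℕ} (hp : p.Prime) (hp2 : p ≠ 2) {c : Equiv.Perm α} {u v : α} (huv : u ≠ v)
    (h1 : c u = v) (h2 : c v = u) : ¬ PE p c := by
  rintro ⟨k, hk⟩
  obtain ⟨m, hm⟩ := (hp.odd_of_ne_two hp2).pow (n := k)
  have h3 : ∀ n : ℕ, (c ^ (2 * n)) u = u := by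
    intro n
    induction n with
    | zero => rfl
    | succ n ih =>
      have e : 2 * (n + 1) = 2 * n + 1 + 1 := by ring
      rw [e, pow_succ', pow_succ', Equiv.Perm.mul_apply, Equiv.Perm.mul_apply, ih, h1, h2]
  have h4 : c ^ (p ^ k) = 1 := hk ▸ pow_orderOf_eq_one c
  rw [hm, pow_succ'] at h4
  have h5 := congrArg (fun f : Equiv.Perm α => f u) h4
  simp only [Equiv.Perm.mul_apply, h3, h1, Equiv.Perm.one_apply] at h5
  exact huv h5.symm

theorem swap_aux {a g : Equiv.Perm α} {x y : α} (h1 : g x = a y) (h2 : g (a x) = x) (h3 : g y = a x)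
    (h4 : g (a y) = y) : (a * (g * a * g⁻¹)) (a y) = a x ∧ (a * (g * a * g⁻¹)) (a x) = a y := by
  have e1 : g⁻¹ (a y) = x := by rw [Equiv.Perm.inv_eq_iff_eq, h1]
  have e2 : g⁻¹ (a x) = y := by rw [Equiv.Perm.inv_eq_iff_eq, h3]
  constructor
  · simp only [Equiv.Perm.mul_apply, e1, h2]
  · simp only [Equiv.Perm.mul_apply, e2, h4]

theorem pow_fix {a : Equiv.Perm α} {p : ℕ} (hp : p.Prime) (ha : orderOf a = p) {n : ℕ} (hn : ¬ p ∣ n) {x : α}
    (h : (a ^ n) x = x) : a x = x := by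
  have h1 : a ^ n ∈ MulAction.stabilizer (Equiv.Perm α) x := h
  have h2 : a ∈ MulAction.stabilizer (Equiv.Perm α) x := by
    have hc : (orderOf a).Coprime n := by rw [ha]; exact (Nat.Prime.coprime_iff_not_dvd hp).2 hn
    have h3 : a ∈ zpowers (a ^ n) := by
      have := mem_zpowers_pow_iff.2 hc.symm
      exact this
    exact (zpowers_le.2 h1) h3
  exact h2

/-- the configuration: four distinct points `x, a x, y, a y` -/
structure Cf (a : Equiv.Perm α) (x y : α) : Prop where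
  x1 : a x ≠ x
  y1 : a y ≠ y
  xy : x ≠ y
  xay : x ≠ a y
  axy : a x ≠ y

theorem Cf.axay {a : Equiv.Perm α} {x y : α} (h : Cf a x y) : a x ≠ a y := fun h1 => h.xy (a.injective h1)

theorem cf_of_five {a : Equiv.Perm α} {p : ℕ} (hp : p.Prime) (hp5 : 5 ≤ p) (ha : orderOf a = p) {x : α}
    (hx : a x ≠ x) : Cf a x (a (a x)) := by
  have key : ∀ n : ℕ, 0 < n → n < 5 → (a ^ n) x ≠ x := fun n h0 h5 h =>
    hx (pow_fix hp ha (fun hd => by have := Nat.le_of_dvd h0 hd; omega) h)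
  have k2 := key 2 (by norm_num) (by norm_num)
  have k3 := key 3 (by norm_num) (by norm_num)
  rw [pow_two, Equiv.Perm.mul_apply] at k2
  rw [pow_succ, pow_two, Equiv.Perm.mul_apply, Equiv.Perm.mul_apply] at k3
  refine ⟨hx, fun h => hx (a.injective (a.injective h)), fun h => k2 h.symm, fun h => k3 h.symm, fun h => ?_⟩
  exact hx (a.injective h.symm)

theorem cf_of_three {a : Equiv.Perm α} (ha : orderOf a = 3) {x y : α} (hx : a x ≠ x) (hy : a y ≠ y) (h1 : y ≠ x)
    (h2 : y ≠ a x) (h3 : y ≠ a (a x)) : Cf a x y := by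
  have h4 : a (a (a x)) = x := by
    have h5 : a ^ 3 = 1 := ha ▸ pow_orderOf_eq_one a
    have h6 := congrArg (fun f : Equiv.Perm α => f x) h5
    simpa [pow_succ, Equiv.Perm.mul_apply] using h6
  refine ⟨hx, hy, h1.symm, fun h => ?_, h2.symm⟩
  -- x = a y, so a (a x) = a (a (a y)) = y
  apply h3
  apply a.injective
  rw [h4, ← h]

end Perm

/-! ### `M₂₄`, `M₂₃`, `M₂₂` -/

theorem exists_g {x ax y ay : GolayPt} (h1 : ax ≠ x) (h2 : ay ≠ y) (h3 : x ≠ y) (h4 : x ≠ ay) (h5 : ax ≠ y)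
    (h6 : ax ≠ ay) (F : Finset GolayPt) (hF : F.card ≤ 2) (hx : x ∉ F) (hax : ax ∉ F) (hy : y ∉ F) (hay : ay ∉ F) :
    ∃ g ∈ M24, g x = ay ∧ g ax = x ∧ g y = ax ∧ g ay = y ∧ ∀ z ∈ F, g z = z := by
  classical
  set S : Finset GolayPt := {x, ax, y, ay} ∪ F with hS
  have hc : S.card ≤ 6 := by
    refine (Finset.card_union_le _ _).trans ?_
    have := Finset.card_le_four (a := x) (b := ax) (c := y) (d := ay)
    omega
  have h24 : 6 ≤ (Finset.univ : Finset GolayPt).card := by decide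
  obtain ⟨E, hSE, -, hE⟩ := Finset.exists_subsuperset_card_eq (Finset.subset_univ S) hc h24
  have mx : x ∈ E := hSE (by simp [hS])
  have max' : ax ∈ E := hSE (by simp [hS])
  have my : y ∈ E := hSE (by simp [hS])
  have may : ay ∈ E := hSE (by simp [hS])
  have mF : ∀ z ∈ F, z ∈ E := fun z hz => hSE (by simp [hS, hz])
  let X : ↥E := ⟨x, mx⟩
  let AX : ↥E := ⟨ax, max'⟩
  let Y : ↥E := ⟨y, my⟩
  let AY : ↥E := ⟨ay, may⟩
  have H1 : AX ≠ X := fun h => h1 (congrArg Subtype.val h)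
  have H2 : AY ≠ Y := fun h => h2 (congrArg Subtype.val h)
  have H3 : X ≠ Y := fun h => h3 (congrArg Subtype.val h)
  have H4 : X ≠ AY := fun h => h4 (congrArg Subtype.val h)
  have H5 : AX ≠ Y := fun h => h5 (congrArg Subtype.val h)
  have H6 : AX ≠ AY := fun h => h6 (congrArg Subtype.val h)
  let σ : Equiv.Perm ↥E := Equiv.swap X AY * Equiv.swap AY Y * Equiv.swap Y AX
  obtain ⟨g, hg, hgσ⟩ := (S5600.result E hE).1 σ
  have s1 : σ X = AY := by
    simp only [σ, Equiv.Perm.mul_apply]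
    rw [Equiv.swap_apply_of_ne_of_ne H3 H1.symm, Equiv.swap_apply_of_ne_of_ne H4 H3, Equiv.swap_apply_left]
  have s2 : σ AX = X := by
    simp only [σ, Equiv.Perm.mul_apply]
    rw [Equiv.swap_apply_right, Equiv.swap_apply_right, Equiv.swap_apply_right]
  have s3 : σ Y = AX := by
    simp only [σ, Equiv.Perm.mul_apply]
    rw [Equiv.swap_apply_left, Equiv.swap_apply_of_ne_of_ne H6 H5, Equiv.swap_apply_of_ne_of_ne H1 H6]
  have s4 : σ AY = Y := by
    simp only [σ, Equiv.Perm.mul_apply]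
    rw [Equiv.swap_apply_of_ne_of_ne H2 H6.symm, Equiv.swap_apply_left, Equiv.swap_apply_of_ne_of_ne H3.symm H2.symm]
  refine ⟨g, hg, ?_, ?_, ?_, ?_, ?_⟩
  · rw [← show ((AY : ↥E) : GolayPt) = ay from rfl, ← s1]; exact hgσ X
  · rw [← show ((X : ↥E) : GolayPt) = x from rfl, ← s2]; exact hgσ AX
  · rw [← show ((AX : ↥E) : GolayPt) = ax from rfl, ← s3]; exact hgσ Y
  · rw [← show ((Y : ↥E) : GolayPt) = y from rfl, ← s4]; exact hgσ AY
  · intro z hz
    have h7 := hgσ ⟨z, mF z hz⟩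
    have n1 : (⟨z, mF z hz⟩ : ↥E) ≠ X := fun h => hx (by rw [← show z = x from congrArg Subtype.val h]; exact hz)
    have n2 : (⟨z, mF z hz⟩ : ↥E) ≠ AX := fun h => hax (by rw [← show z = ax from congrArg Subtype.val h]; exact hz)
    have n3 : (⟨z, mF z hz⟩ : ↥E) ≠ Y := fun h => hy (by rw [← show z = y from congrArg Subtype.val h]; exact hz)
    have n4 : (⟨z, mF z hz⟩ : ↥E) ≠ AY := fun h => hay (by rw [← show z = ay from congrArg Subtype.val h]; exact hz)
    have h8 : σ ⟨z, mF z hz⟩ = ⟨z, mF z hz⟩ := by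
      simp only [σ, Equiv.Perm.mul_apply]
      rw [Equiv.swap_apply_of_ne_of_ne n3 n2, Equiv.swap_apply_of_ne_of_ne n4 n3, Equiv.swap_apply_of_ne_of_ne n1 n4]
    rw [h8] at h7
    exact h7

/-- an element of order 3 of `M₂₄` is not a 3-cycle -/
theorem two_orbits {a : Equiv.Perm GolayPt} (ha : a ∈ M24) (h3 : orderOf a = 3) {x : GolayPt} (hx : a x ≠ x) :
    ∃ y, a y ≠ y ∧ y ≠ x ∧ y ≠ a x ∧ y ≠ a (a x) := by
  classical
  by_contra hcon
  push Not at hcon
  have h4 : a (a (a x)) = x := by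
    have h5 : a ^ 3 = 1 := h3 ▸ pow_orderOf_eq_one a
    have h6 := congrArg (fun f : Equiv.Perm GolayPt => f x) h5
    simpa [pow_succ, Equiv.Perm.mul_apply] using h6
  have hsub : a.support ⊆ {x, a x, a (a x)} := by
    intro y hy
    rw [Equiv.Perm.mem_support] at hy
    simp only [Finset.mem_insert, Finset.mem_singleton]
    by_contra h
    push Not at h
    exact h.2.2 (hcon y hy h.1 h.2.1)
  have hsup : ({x, a x, a (a x)} : Finset GolayPt) ⊆ a.support := by
    intro y hy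
    simp only [Finset.mem_insert, Finset.mem_singleton] at hy
    rw [Equiv.Perm.mem_support]
    rcases hy with rfl | rfl | rfl
    · exact hx
    · exact fun h => hx (a.injective h)
    · exact fun h => hx (a.injective (a.injective h))
  have hcard : a.support.card = 3 := by
    rw [Finset.Subset.antisymm hsub hsup]
    rw [Finset.card_eq_three]
    refine ⟨x, a x, a (a x), fun h => hx h.symm, fun h => ?_, fun h => hx (a.injective h).symm, rfl⟩
    apply hx
    have := congrArg a h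
    rw [h4] at this
    exact this
  have hc3 : a.IsThreeCycle := card_support_eq_three_iff.1 hcard
  have h5 := S0366.result
  have hpre : MulAction.IsPreprimitive M24 GolayPt := by
    have h2 : MulAction.IsMultiplyPretransitive M24 GolayPt 2 :=
      MulAction.isMultiplyPretransitive_of_le' (n := 5) (by norm_num) (by
        rw [ENat.card_eq_coe_fintype_card]
        exact_mod_cast (by decide : 5 ≤ Fintype.card GolayPt))
    exact MulAction.isPreprimitive_of_is_two_pretransitive h2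
  have hle := Equiv.Perm.alternatingGroup_le_of_isPreprimitive_of_isThreeCycle_mem hpre hc3 ha
  have h6 := Subgroup.card_le_of_le hle
  rw [SporadicA.M24Trans.card_M24, nat_card_alternatingGroup] at h6
  have h7 : Nat.card GolayPt = 24 := by rw [Nat.card_eq_fintype_card]; decide
  rw [h7] at h6
  have h8 : (24 : ℕ).factorial / 2 > 244823040 := by norm_num [Nat.factorial]
  omega

/-- the second point of the configuration in `M₂₄` -/
theorem exists_cf {a : Equiv.Perm GolayPt} (ha : a ∈ M24) {p : ℕ} (hp : p.Prime) (hp2 : p ≠ 2) (ho : orderOf a = p)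
    {x : GolayPt} (hx : a x ≠ x) : ∃ y, Cf a x y := by
  by_cases h5 : 5 ≤ p
  · exact ⟨_, cf_of_five hp h5 ho hx⟩
  · have h3 : p = 3 := by
      have h1 := hp.two_le
      have h4 : p ≠ 4 := fun h => by rw [h] at hp; norm_num at hp
      omega
    subst h3
    obtain ⟨y, h1, h2, h3, h4⟩ := two_orbits ha ho hx
    exact ⟨y, cf_of_three ho hx h1 h2 h3 h4⟩

/-- `M₂₄`, `M₂₃`, `M₂₂` -/
theorem noPA_perm {M : Subgroup (Equiv.Perm GolayPt)} (F : Finset GolayPt) (hF : F.card ≤ 2)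
    (hMF : ∀ g, g ∈ M ↔ g ∈ M24 ∧ ∀ z ∈ F, g z = z) {p : ℕ} [hp : Fact p.Prime] (hp2 : p ≠ 2) {a : ↥M}
    (ha : orderOf a = p) : ∃ g : ↥M, ¬ PE p (a * (g * a * g⁻¹)) := by
  obtain ⟨b, hb⟩ := a
  have hb24 := ((hMF b).1 hb).1
  have ho : orderOf b = p := by rw [← ha, Subgroup.orderOf_mk]
  have hb1 : b ≠ 1 := fun h => by rw [h, orderOf_one] at ho; exact hp.out.one_lt.ne ho
  obtain ⟨x, hx⟩ : ∃ x, b x ≠ x := by
    by_contra h
    push Not at h
    exact hb1 (Equiv.ext h)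
  obtain ⟨y, hc⟩ := exists_cf hb24 hp.out hp2 ho hx
  have hmv : ∀ u, b u ≠ u → u ∉ F := fun u hu hF' => hu (((hMF b).1 hb).2 u hF')
  obtain ⟨g, hg, h1, h2, h3, h4, h5⟩ := exists_g hc.x1 hc.y1 hc.xy hc.xay hc.axy hc.axay F hF
    (hmv x hc.x1) (hmv _ fun h => hc.x1 (b.injective h)) (hmv y hc.y1) (hmv _ fun h => hc.y1 (b.injective h))
  have hgM : g ∈ M := (hMF g).2 ⟨hg, h5⟩
  obtain ⟨s1, s2⟩ := swap_aux h1 h2 h3 h4
  refine ⟨⟨g, hgM⟩, fun h => ?_⟩
  exact not_pe_of_swap hp.out hp2 hc.axay.symm s1 s2 (PE.coe.2 h)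

/-! ### `M₁₂`, `M₁₁` -/

open Cfsg.Agent.CpAutTThree.MTwelve (dodecad_mem card_dodecad Fix mem_Fix map_mem fix_le)

theorem exists_g12 {x ax y ay z : GolayPt} (h1 : ax ≠ x) (h2 : ay ≠ y) (h3 : x ≠ y) (h4 : x ≠ ay) (h5 : ax ≠ y)
    (h6 : ax ≠ ay) (z1 : z ≠ x) (z2 : z ≠ ax) (z3 : z ≠ y) (z4 : z ≠ ay)
    (m1 : x ∈ Spor.squareDodecad) (m2 : ax ∈ Spor.squareDodecad) (m3 : y ∈ Spor.squareDodecad)
    (m4 : ay ∈ Spor.squareDodecad) (m5 : z ∈ Spor.squareDodecad) :
    ∃ g ∈ Spor.M12, g x = ay ∧ g ax = x ∧ g y = ax ∧ g ay = y ∧ g z = z := by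
  have i1 : Function.Injective ![x, ax, y, ay, z] := by
    intro i j hij
    fin_cases i <;> fin_cases j <;> first | rfl | (exfalso; simp at hij; first | exact h1 hij | exact h1 hij.symm | exact h2 hij | exact h2 hij.symm | exact h3 hij | exact h3 hij.symm | exact h4 hij | exact h4 hij.symm | exact h5 hij | exact h5 hij.symm | exact h6 hij | exact h6 hij.symm | exact z1 hij | exact z1 hij.symm | exact z2 hij | exact z2 hij.symm | exact z3 hij | exact z3 hij.symm | exact z4 hij | exact z4 hij.symm)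
  have i2 : Function.Injective ![ay, x, ax, y, z] := by
    intro i j hij
    fin_cases i <;> fin_cases j <;> first | rfl | (exfalso; simp at hij; first | exact h1 hij | exact h1 hij.symm | exact h2 hij | exact h2 hij.symm | exact h3 hij | exact h3 hij.symm | exact h4 hij | exact h4 hij.symm | exact h5 hij | exact h5 hij.symm | exact h6 hij | exact h6 hij.symm | exact z1 hij | exact z1 hij.symm | exact z2 hij | exact z2 hij.symm | exact z3 hij | exact z3 hij.symm | exact z4 hij | exact z4 hij.symm)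
  obtain ⟨g, hg, -⟩ := S0384.result _ dodecad_mem ⟨_, i1⟩ ⟨_, i2⟩
    (by intro i; fin_cases i <;> assumption) (by intro i; fin_cases i <;> assumption)
  exact ⟨((g : M24) : Equiv.Perm GolayPt), ⟨(g : M24).2, g.2⟩, hg 0, hg 1, hg 2, hg 3, hg 4⟩

/-- `M₁₂`, `M₁₁` -/
theorem noPA_dodecad {M : Subgroup (Equiv.Perm GolayPt)} (F : Finset GolayPt) (hF : F.card ≤ 1)
    (hFD : F ⊆ Spor.squareDodecad) (hMF : ∀ g, g ∈ M ↔ g ∈ Spor.M12 ∧ ∀ z ∈ F, g z = z) {p : ℕ} [hp : Fact p.Prime]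
    (hp2 : p ≠ 2) {a : ↥M} (ha : orderOf a = p) : ∃ g : ↥M, ¬ PE p (a * (g * a * g⁻¹)) := by
  classical
  obtain ⟨b, hb⟩ := a
  have hb12 := ((hMF b).1 hb).1
  have ho : orderOf b = p := by rw [← ha, Subgroup.orderOf_mk]
  have hb1 : b ≠ 1 := fun h => by rw [h, orderOf_one] at ho; exact hp.out.one_lt.ne ho
  have hfix := fix_le hb12 hb1
  -- moved points of the dodecad outside a set of at most three points
  have hex : ∀ T : Finset GolayPt, T.card ≤ 3 → ∃ u ∈ Spor.squareDodecad, u ∉ T ∧ b u ≠ u := by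
    intro T hT
    by_contra h
    push Not at h
    have h1 : Spor.squareDodecad ⊆ T ∪ Fix b := by
      intro u hu
      rw [Finset.mem_union]
      by_cases huT : u ∈ T
      · exact Or.inl huT
      · exact Or.inr (mem_Fix.2 ⟨hu, h u hu huT⟩)
    have h2 := Finset.card_le_card h1
    have h3 := Finset.card_union_le T (Fix b)
    rw [card_dodecad] at h2
    omega
  obtain ⟨x, hxD, -, hx⟩ := hex ∅ (by simp)
  have hmapD : ∀ {u}, u ∈ Spor.squareDodecad → b u ∈ Spor.squareDodecad := fun hu => map_mem hb12 hu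
  obtain ⟨y, hyD, hc⟩ : ∃ y ∈ Spor.squareDodecad, Cf b x y := by
    by_cases h5 : 5 ≤ p
    · exact ⟨_, hmapD (hmapD hxD), cf_of_five hp.out h5 ho hx⟩
    · have h3 : p = 3 := by
        have h1 := hp.out.two_le
        have h4 : p ≠ 4 := fun h => by have := hp.out; rw [h] at this; norm_num at this
        omega
      subst h3
      obtain ⟨y, hyD, h1, h2⟩ := hex {x, b x, b (b x)} Finset.card_le_three
      simp only [Finset.mem_insert, Finset.mem_singleton, not_or] at h1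
      exact ⟨y, hyD, cf_of_three ho hx h2 h1.1 h1.2.1 h1.2.2⟩
  have hmv : ∀ u, b u ≠ u → u ∉ F := fun u hu hF' => hu (((hMF b).1 hb).2 u hF')
  -- the fifth point
  obtain ⟨z, hzD, hz1, hz2, hz3, hz4, hzF⟩ : ∃ z ∈ Spor.squareDodecad, z ≠ x ∧ z ≠ b x ∧ z ≠ y ∧ z ≠ b y ∧
      ∀ w ∈ F, w = z := by
    rcases F.eq_empty_or_nonempty with h0 | ⟨w, hw⟩
    · have h1 : ¬ Spor.squareDodecad ⊆ {x, b x, y, b y} := by
        intro h
        have h2 := Finset.card_le_card h
        have h3 := Finset.card_le_four (a := x) (b := b x) (c := y) (d := b y)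
        rw [card_dodecad] at h2
        omega
      rw [Finset.not_subset] at h1
      obtain ⟨z, hz, hz'⟩ := h1
      simp only [Finset.mem_insert, Finset.mem_singleton, not_or] at hz'
      exact ⟨z, hz, hz'.1, hz'.2.1, hz'.2.2.1, hz'.2.2.2, by rw [h0]; simp⟩
    · refine ⟨w, hFD hw, ?_, ?_, ?_, ?_, fun v hv => Finset.card_le_one.1 hF v hv w hw⟩
      · rintro rfl; exact hmv _ hc.x1 hw
      · rintro rfl; exact hmv _ (fun h => hc.x1 (b.injective h)) hw
      · rintro rfl; exact hmv _ hc.y1 hw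
      · rintro rfl; exact hmv _ (fun h => hc.y1 (b.injective h)) hw
  obtain ⟨g, hg, h1, h2, h3, h4, h5⟩ := exists_g12 hc.x1 hc.y1 hc.xy hc.xay hc.axy hc.axay hz1 hz2 hz3 hz4
    hxD (hmapD hxD) hyD (hmapD hyD) hzD
  have hgM : g ∈ M := (hMF g).2 ⟨hg, fun w hw => by rw [hzF w hw]; exact h5⟩
  obtain ⟨s1, s2⟩ := swap_aux h1 h2 h3 h4
  refine ⟨⟨g, hgM⟩, fun h => ?_⟩
  exact not_pe_of_swap hp.out hp2 hc.axay.symm s1 s2 (PE.coe.2 h)

/-- no element of odd prime order `p` has only products `a * a^g` of `p`-power order -/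
def NoEl (K : Type*) [Group K] : Prop :=
  ∀ (p : ℕ) [Fact p.Prime], p ≠ 2 → ∀ a : K, orderOf a = p → ∃ g : K, ¬ PE p (a * (g * a * g⁻¹))

theorem NoEl.congr {K L : Type*} [Group K] [Group L] (e : K ≃* L) (h : NoEl L) : NoEl K := by
  intro p hp hp2 a ha
  obtain ⟨g, hg⟩ := h p hp2 (e a) (by rw [MulEquiv.orderOf_eq, ha])
  refine ⟨e.symm g, fun h1 => hg ?_⟩
  have h2 := h1.map e.toMonoidHom
  simpa using h2

theorem noEl_m24 : NoEl ↥M24 := fun _ _ hp2 _ ha =>
  noPA_perm ∅ (by simp) (fun g => by simp) hp2 ha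

theorem noEl_m23 : NoEl ↥Spor.M23 := fun _ _ hp2 _ ha =>
  noPA_perm {none} (by simp) (fun g => by
    rw [Spor.M23, Subgroup.mem_inf]
    simp [MulAction.mem_stabilizer_iff]) hp2 ha

theorem noEl_m22 : NoEl ↥Spor.M22 := fun _ _ hp2 _ ha =>
  noPA_perm {none, some 0} Finset.card_le_two (fun g => by
    rw [Spor.M22, Spor.M23, Subgroup.mem_inf, Subgroup.mem_inf]
    simp [MulAction.mem_stabilizer_iff, and_assoc]) hp2 ha

theorem noEl_m12 : NoEl ↥Spor.M12 := fun _ _ hp2 _ ha =>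
  noPA_dodecad ∅ (by simp) (by simp) (fun g => by simp) hp2 ha

theorem noEl_m11 : NoEl ↥Spor.M11 := fun _ _ hp2 _ ha =>
  noPA_dodecad {some 0} (by simp) (by
    intro x hx
    rw [Finset.mem_singleton] at hx
    subst hx
    decide +kernel) (fun g => by
    rw [Spor.M11, Subgroup.mem_inf]
    simp [MulAction.mem_stabilizer_iff]) hp2 ha

end Cfsg.Agent.H102.AAMath
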