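import Mathlib
import Cfsg.Agent.H460.AADef
import Cfsg.Agent.H102.AAMath
import Cfsg.Agent.H491.AA.Cyc

/-!
# The `AA` problem for small sporadic groups: general tools

`NoRC K` : no element of odd prime order with `RC` and all products of two conjugates of `p`-power order.
-/

set_option autoImplicit false

namespace Cfsg.Agent.H102.AAGen

open Subgroup Cfsg Cfsg.Agent.H459.Rad Cfsg.Agent.H460.AA Cfsg.Agent.H102.AAMath

/-- no element of odd prime order is a counterexample -/
def NoRC (K : Type*) [Group K] : Prop :=
  ∀ (p : ℕ) [Fact p.Prime], p ≠ 2 → ∀ a : K, orderOf a = p → RC (MulAut.conj a) →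
    (∀ g : K, PE p (a * (g * a * g⁻¹))) → False

theorem NoRC.of_noEl {K : Type*} [Group K] (h : NoEl K) : NoRC K := by
  intro p hp hp2 a ha _ hP
  obtain ⟨g, hg⟩ := h p hp2 a ha
  exact hg (hP g)

theorem NoRC.congr {K L : Type*} [Group K] [Group L] [Finite K] (e : K ≃* L) (h : NoRC L) : NoRC K := by
  have : Finite L := Finite.of_equiv K e.toEquiv
  intro p hp hp2 a ha hR hP
  have h1 : tr e (MulAut.conj a) = MulAut.conj (e a) := by
    ext l
    rw [tr_apply]
    simp
  refine h p hp2 (e a) ?_ (h1 ▸ hR.tr e) ?_
  · rw [← ha]; exact orderOf_injective e.toMonoidHom e.injective a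
  · intro g
    have h2 := (hP (e.symm g)).map e.toMonoidHom
    simpa using h2

/-- the radical lies in the kernel of an epimorphism onto a nonabelian simple group -/
theorem rad_le_ker {H S : Type*} [Group H] [Group S] [Finite H] [IsSimpleGroup S] (hna : ¬ IsMulCommutative S)
    (f : H →* S) (hf : Function.Surjective f) : solvableRadical H ≤ f.ker := by
  have h0 : ((solvableRadical H).map f).Normal := (rad_normal H).map f hf
  rcases h0.eq_bot_or_eq_top with h1 | h1
  · intro x hx
    rw [MonoidHom.mem_ker]
    have h2 : f x ∈ (solvableRadical H).map f := mem_map_of_mem f hx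
    rw [h1, mem_bot] at h2
    exact h2
  · exfalso
    have h2 : Group.IsSolvable (solvableRadical H) := rad_solvable H
    have h3 : Group.IsSolvable S := by
      refine Group.isSolvable_of_surjective (f := f.comp (solvableRadical H).subtype) fun s => ?_
      have h4 : s ∈ (solvableRadical H).map f := by rw [h1]; exact mem_top s
      obtain ⟨x, hx, hxs⟩ := h4
      exact ⟨⟨x, hx⟩, hxs⟩
    apply hna
    exact ⟨⟨IsSimpleGroup.comm_iff_isSolvable.2 h3⟩⟩

/-- the main tool with an epimorphism onto a simple group -/
theorem false_of_onto {K S : Type*} [Group K] [Group S] [Finite K] [Finite S] [IsSimpleGroup S]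
    (hna : ¬ IsMulCommutative S) {p : ℕ} [hp : Fact p.Prime] {H : Subgroup K} (hH : H ≠ ⊤) (hi : ¬ p ∣ H.index)
    (f : H →* S) (hf : Function.Surjective f) {k : ℕ} (hc : Nat.card H = Nat.card S * k) (hk : ¬ p ∣ k)
    {a : K} (ha : orderOf a = p) (h : RC (MulAut.conj a)) : False := by
  refine false_of_index hH hi (fun hd => hk ?_) ha h
  have h1 : Nat.card (solvableRadical H) ∣ Nat.card f.ker := card_dvd_of_le (rad_le_ker hna f hf)
  have h2 : Nat.card f.ker = k := by
    have h3 : Nat.card H = Nat.card f.range * Nat.card f.ker := by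
      rw [← Nat.card_congr (QuotientGroup.quotientKerEquivRange f).toEquiv]
      exact card_eq_card_quotient_mul_card_subgroup f.ker
    rw [MonoidHom.range_eq_top.2 hf, Nat.card_congr topEquiv.toEquiv, hc] at h3
    exact (Nat.eq_of_mul_eq_mul_left Nat.card_pos h3).symm
  rw [← h2]
  exact hd.trans h1

/-- the element commutes with an element whose centralizer maps onto a simple group with kernel a `p'`-group -/
theorem false_of_mem_onto {K S : Type*} [Group K] [Group S] [Finite K] [Finite S] [IsSimpleGroup S]
    (hna : ¬ IsMulCommutative S) {p : ℕ} [hp : Fact p.Prime] {H : Subgroup K} (hH : H ≠ ⊤)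
    (f : H →* S) (hf : Function.Surjective f) {k : ℕ} (hc : Nat.card H = Nat.card S * k) (hk : ¬ p ∣ k)
    {a : K} (ha : orderOf a = p) (haH : a ∈ H) (h : RC (MulAut.conj a)) : False := by
  refine false_of_not_mem h hH haH fun hr => hk ?_
  have h1 := rad_le_ker hna f hf hr
  have h2 : Nat.card f.ker = k := by
    have h3 : Nat.card H = Nat.card f.range * Nat.card f.ker := by
      rw [← Nat.card_congr (QuotientGroup.quotientKerEquivRange f).toEquiv]
      exact card_eq_card_quotient_mul_card_subgroup f.ker
    rw [MonoidHom.range_eq_top.2 hf, Nat.card_congr topEquiv.toEquiv, hc] at h3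
    exact (Nat.eq_of_mul_eq_mul_left Nat.card_pos h3).symm
  rw [← h2, ← ha]
  have h4 : orderOf (⟨⟨a, haH⟩, h1⟩ : f.ker) = orderOf a := by
    rw [Subgroup.orderOf_mk, Subgroup.orderOf_mk]
  rw [← h4]
  exact orderOf_dvd_natCard _

end Cfsg.Agent.H102.AAGen
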