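import Cfsg.Agent.H102.AAGen
import Cfsg.Agent.S2131
import Cfsg.Agent.H389.JFacts

/-!
# The `AA` problem for the first Janko group
-/

set_option autoImplicit false

namespace Cfsg.Agent.H102.AAJone

open Subgroup Cfsg Cfsg.Agent.H459.Rad Cfsg.Agent.H460.AA Cfsg.Agent.H102.AAMath Cfsg.Agent.H102.AAGen

theorem card_J1 : Nat.card Spor.J1 = 175560 := Cfsg.Agent.SporadicB.J1.Main.isJ1.2

theorem finite_J1 : Finite Spor.J1 := Nat.finite_of_card_ne_zero (by rw [card_J1]; norm_num)

theorem simple_J1 : IsSimpleGroup Spor.J1 := Cfsg.Agent.SporadicB.J1.Main.isJ1.1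

theorem not_comm_of_card {G : Type*} [Group G] [Finite G] [IsSimpleGroup G] (h : ¬ (Nat.card G).Prime) :
    ¬ IsMulCommutative G := by
  intro hm
  let _ : CommGroup G := { (inferInstance : Group G) with mul_comm := hm.is_comm.comm }
  exact h IsSimpleGroup.prime_card

theorem card_A5 : Nat.card (alternatingGroup (Fin 5)) = 60 := by
  rw [nat_card_alternatingGroup, Nat.card_eq_fintype_card, Fintype.card_fin]
  decide

theorem noRC : NoRC Spor.J1 := by
  have hfin := finite_J1
  have hs := simple_J1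
  have hna : ¬ IsMulCommutative Spor.J1 := not_comm_of_card (by rw [card_J1]; norm_num)
  intro p hp hp2 a ha hR hP
  have hd : p ∣ 2 ^ 3 * (3 * (5 * (7 * (11 * 19)))) := by
    have h1 : p ∣ Nat.card Spor.J1 := ha ▸ orderOf_dvd_natCard a
    rw [card_J1] at h1
    norm_num
    exact h1
  have hpp := hp.out
  have key : p = 3 ∨ p = 5 ∨ p = 7 ∨ p = 11 ∨ p = 19 := by
    rcases (Nat.Prime.dvd_mul hpp).1 hd with h | h
    · exact absurd ((Nat.prime_dvd_prime_iff_eq hpp Nat.prime_two).1 (hpp.dvd_of_dvd_pow h)) hp2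
    rcases (Nat.Prime.dvd_mul hpp).1 h with h | h
    · exact Or.inl ((Nat.prime_dvd_prime_iff_eq hpp (by norm_num)).1 h)
    rcases (Nat.Prime.dvd_mul hpp).1 h with h | h
    · exact Or.inr (Or.inl ((Nat.prime_dvd_prime_iff_eq hpp (by norm_num)).1 h))
    rcases (Nat.Prime.dvd_mul hpp).1 h with h | h
    · exact Or.inr (Or.inr (Or.inl ((Nat.prime_dvd_prime_iff_eq hpp (by norm_num)).1 h)))
    rcases (Nat.Prime.dvd_mul hpp).1 h with h | h
    · exact Or.inr (Or.inr (Or.inr (Or.inl ((Nat.prime_dvd_prime_iff_eq hpp (by norm_num)).1 h))))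
    · exact Or.inr (Or.inr (Or.inr (Or.inr ((Nat.prime_dvd_prime_iff_eq hpp (by norm_num)).1 h))))
  rcases key with h | h | h
  · exact small hfin hs hna (by rw [h]; decide) ha hR
  · exact small hfin hs hna (by rw [h]; decide) ha hR
  · exact big hfin hs hna h ha hP
where
  small (_ : Finite Spor.J1) (_ : IsSimpleGroup Spor.J1) (hna : ¬ IsMulCommutative Spor.J1)
      {p : ℕ} [Fact p.Prime] (hp : ¬ p ∣ 2926) {a : Spor.J1} (ha : orderOf a = p) (hR : RC (MulAut.conj a)) : False := by
    obtain ⟨t, ht, ⟨e⟩⟩ := Cfsg.Agent.S2131.result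
    have h5 : IsSimpleGroup (alternatingGroup (Fin 5)) := alternatingGroup.isSimpleGroup_five
    have h5n : ¬ IsMulCommutative (alternatingGroup (Fin 5)) := not_comm_of_card (by rw [card_A5]; norm_num)
    have hcard : Nat.card ↥(centralizer ({t} : Set Spor.J1)) = Nat.card (alternatingGroup (Fin 5)) * 2 := by
      rw [Nat.card_congr e.toEquiv, Nat.card_prod, mul_comm]
      congr 1
      rw [Nat.card_congr (Multiplicative.toAdd (α := ZMod 2)), Nat.card_zmod]
    have hidx : (centralizer ({t} : Set Spor.J1)).index = 1463 := by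
      have h1 := (centralizer ({t} : Set Spor.J1)).card_mul_index
      rw [hcard, card_A5, card_J1] at h1
      omega
    refine false_of_onto (S := alternatingGroup (Fin 5)) h5n (H := centralizer ({t} : Set Spor.J1)) ?_ ?_
      ((MonoidHom.snd _ _).comp e.toMonoidHom) ?_ hcard ?_ ha hR
    · intro h1
      rw [h1, index_top] at hidx
      norm_num at hidx
    · rw [hidx]
      exact fun h => hp (h.trans (by norm_num))
    · intro s
      exact ⟨e.symm (1, s), by simp⟩
    · exact fun h => hp (h.trans (by norm_num))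
  big (_ : Finite Spor.J1) (_ : IsSimpleGroup Spor.J1) (hna : ¬ IsMulCommutative Spor.J1)
      {p : ℕ} [hp : Fact p.Prime] (hp3 : p = 7 ∨ p = 11 ∨ p = 19) {a : Spor.J1} (ha : orderOf a = p)
      (hP : ∀ g : Spor.J1, PE p (a * (g * a * g⁻¹))) : False := by
    have hsq : ∀ P : Subgroup Spor.J1, IsPGroup p P → Nat.card P ∣ p := by
      intro P hP
      obtain ⟨n, hn⟩ := (IsPGroup.iff_card).1 hP
      have h1 : p ^ n ∣ 175560 := by rw [← hn, ← card_J1]; exact card_subgroup_dvd_card _
      have h2 : n < 2 := by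
        by_contra h2
        have h3 : p ^ 2 ∣ 175560 := (pow_dvd_pow p (by omega)).trans h1
        rcases hp3 with rfl | rfl | rfl <;> revert h3 <;> decide
      rw [hn]
      calc p ^ n ∣ p ^ 1 := pow_dvd_pow p (by omega)
        _ = p := pow_one p
    have hp2 : p ≠ 2 := by rcases hp3 with rfl | rfl | rfl <;> decide
    obtain ⟨g, hg⟩ := Cfsg.Agent.H491.AA.pa_cyc hna hp2 (fun P => by
        have h1 := hsq P P.2
        have h2 : p ∣ Nat.card P := by
          apply P.dvd_card_of_dvd_card
          rw [← ha]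
          exact orderOf_dvd_natCard a
        exact Nat.dvd_antisymm h1 h2) ha (by
        have h1 := hsq _ (Cfsg.Agent.H389.JFacts.isPGroup_cent hp3 ha)
        have h2 := Nat.le_of_dvd hp.out.pos h1
        rw [card_J1]
        have h3 : p ≤ 19 := by rcases hp3 with rfl | rfl | rfl <;> decide
        calc Nat.card (centralizer ({a} : Set Spor.J1)) ^ 2 ≤ 19 ^ 2 := Nat.pow_le_pow_left (h2.trans h3) 2
          _ ≤ 175560 := by norm_num)
    exact hg (hP g)

end Cfsg.Agent.H102.AAJone
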