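import Cfsg.Agent.H102.AAGen
import Cfsg.Agent.KFacts.J2.Facts
import Cfsg.Agent.J2Type.FiveFus
import Cfsg.Agent.J2Type.ThreeF

/-!
# The `AA` problem for the Hall-Janko group
-/

set_option autoImplicit false

namespace Cfsg.Agent.H102.AAJtwo

open Subgroup Cfsg Cfsg.Agent.H459.Rad Cfsg.Agent.H460.AA Cfsg.Agent.H102.AAMath Cfsg.Agent.H102.AAGen
open Cfsg.Agent.J2Type.Base Cfsg.Agent.J2Type.Model

/-- nonabelian, by the order -/
theorem not_comm_of_card {G : Type*} [Group G] [Finite G] [IsSimpleGroup G] (h : ¬ (Nat.card G).Prime) :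
    ¬ IsMulCommutative G := by
  intro hm
  let _ : CommGroup G := { (inferInstance : Group G) with mul_comm := hm.is_comm.comm }
  exact h IsSimpleGroup.prime_card

theorem card_A5 : Nat.card (alternatingGroup (Fin 5)) = 60 := by
  rw [nat_card_alternatingGroup, Nat.card_eq_fintype_card, Fintype.card_fin]
  decide

theorem simple_A5 : IsSimpleGroup (alternatingGroup (Fin 5)) := alternatingGroup.isSimpleGroup (by simp)

theorem not_comm_A5 : ¬ IsMulCommutative (alternatingGroup (Fin 5)) := by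
  have h5 := simple_A5
  exact not_comm_of_card (by rw [card_A5]; norm_num)

/-- the radical avoids a nonabelian simple subgroup -/
theorem card_rad_mul_dvd {H : Type*} [Group H] [Finite H] (S : Subgroup H) [IsSimpleGroup S]
    (hna : ¬ IsMulCommutative S) : Nat.card (solvableRadical H) * Nat.card S ∣ Nat.card H := by
  have h2 : (solvableRadical H).Normal := rad_normal H
  have h1 : Disjoint (solvableRadical H) S := by
    have h2 : ((solvableRadical H).subgroupOf S).Normal := (rad_normal H).subgroupOf S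
    rw [disjoint_iff]
    rcases h2.eq_bot_or_eq_top with h3 | h3
    · rwa [subgroupOf_eq_bot, disjoint_iff] at h3
    · exfalso
      rw [subgroupOf_eq_top] at h3
      have h4 : Group.IsSolvable (solvableRadical H) := rad_solvable H
      have h5 : Group.IsSolvable S :=
        Group.isSolvable_of_isSolvable_injective (f := inclusion h3) (inclusion_injective h3)
      exact hna ⟨⟨IsSimpleGroup.comm_iff_isSolvable.2 h5⟩⟩
  have h3 : Nat.card (solvableRadical H) * Nat.card S = Nat.card ↥(solvableRadical H ⊔ S) := by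
    have h4 : Function.Injective (fun x : (solvableRadical H) × S => (x.1 : H) * (x.2 : H)) := by
      exact mul_injective_of_disjoint h1
    rw [← Nat.card_prod]
    refine Nat.card_congr (Equiv.ofBijective (fun x => ⟨(x.1 : H) * (x.2 : H), ?_⟩) ⟨?_, ?_⟩)
    · exact mul_mem (mem_sup_left x.1.2) (mem_sup_right x.2.2)
    · intro x y hxy
      exact h4 (congrArg Subtype.val hxy)
    · rintro ⟨y, hy⟩
      rw [← SetLike.mem_coe, normal_mul, Set.mem_mul] at hy
      obtain ⟨a, ha, b, hb, hab⟩ := hy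
      exact ⟨(⟨a, ha⟩, ⟨b, hb⟩), Subtype.ext hab⟩
  rw [h3]
  exact card_subgroup_dvd_card _

/-- the element lies in a proper subgroup with a nonabelian simple subgroup -/
theorem false_of_mem_sub {K : Type*} [Group K] [Finite K] {p : ℕ} {H : Subgroup K} (hH : H ≠ ⊤)
    (S : Subgroup K) (hS : S ≤ H) [IsSimpleGroup S] (hna : ¬ IsMulCommutative S)
    (hk : ¬ p * Nat.card S ∣ Nat.card H) {a : K} (ha : orderOf a = p) (haH : a ∈ H) (h : RC (MulAut.conj a)) :
    False := by
  refine false_of_not_mem h hH haH fun hr => hk ?_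
  have e := subgroupOfEquivOfLe hS
  have h1 : IsSimpleGroup (S.subgroupOf H) := e.isSimpleGroup
  have h2 : ¬ IsMulCommutative (S.subgroupOf H) := fun hm => hna
    ⟨⟨fun x y => e.symm.injective (by rw [map_mul, map_mul, hm.is_comm.comm])⟩⟩
  have h3 := card_rad_mul_dvd (S.subgroupOf H) h2
  rw [Nat.card_congr e.toEquiv] at h3
  refine (Nat.mul_dvd_mul ?_ dvd_rfl).trans h3
  rw [← ha]
  have h4 : orderOf (⟨⟨a, haH⟩, hr⟩ : solvableRadical H) = orderOf a := by
    rw [Subgroup.orderOf_mk, Subgroup.orderOf_mk]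
  rw [← h4]
  exact orderOf_dvd_natCard _

section fus

variable {G : Type*} [Group G] [Finite G] {z u : G}

omit [Finite G] in
theorem isConj_conj (g x : G) : IsConj x (g * x * g⁻¹) := isConj_iff.2 ⟨g, rfl⟩

open Cfsg.Agent.J2Type.SylowFive in
/-- an element of order 5 has centralizer of even order -/
theorem even_five (h : Fus z u) {x : G} (hx : orderOf x = 5) : 2 ∣ Nat.card (centralizer ({x} : Set G)) := by
  have : Fact (Nat.Prime 5) := ⟨by norm_num⟩
  have hG := Cfsg.Agent.J2Type.Order.card_of_fus h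
  obtain ⟨f, U, V, H0, F⟩ := Cfsg.Agent.J2Type.CentU.main h
  have h60 : Nat.card H0 = 60 := by
    have h1 := Cfsg.Agent.J2Type.Order.card_centralizer_u h
    rw [F.str.card] at h1
    omega
  obtain ⟨w', hw'⟩ := exists_prime_orderOf_dvd_card' (G := H0) 5 (by rw [h60]; norm_num)
  obtain ⟨w, hw⟩ := exists_prime_orderOf_dvd_card' (G := centralizer ({z} : Set G)) 5
    (by rw [h.cardC]; norm_num)
  have hw'5 : orderOf (w' : G) = 5 := by rw [orderOf_coe]; exact hw'
  have hw5 : orderOf (w : G) = 5 := by rw [orderOf_coe]; exact hw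
  have hwz : (w : G) * z = z * w := mem_centralizer_singleton_iff.mp w.2
  have hgood := Cfsg.Agent.J2Type.Cent5.good_of_mem h F h60 w'.2 hw'5
  have hreal := Cfsg.Agent.J2Type.FiveFus.real_of_comm h hw5 hwz
  have h4 := Cfsg.Agent.J2Type.FiveFus.not_four_dvd h hw5 hwz
  have hE : ∀ {x y : G}, IsConj x y → 2 ∣ Nat.card (centralizer ({x} : Set G)) →
      2 ∣ Nat.card (centralizer ({y} : Set G)) := fun {x y} hxy h2 => by
    rwa [← Cfsg.Agent.J2Type.Cent5.card_centralizer_of_isConj hxy]
  obtain ⟨P⟩ : Nonempty (Sylow 5 G) := inferInstance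
  obtain ⟨a, ha⟩ := exists_conj_mem_sylow P (y := (w' : G)) (n := 1) (by rw [hw'5]; norm_num)
  obtain ⟨b, hb⟩ := exists_conj_mem_sylow P (y := (w : G)) (n := 1) (by rw [hw5]; norm_num)
  obtain ⟨g, hg⟩ := exists_conj_mem_sylow P (y := x) (n := 1) (by rw [hx]; norm_num)
  have hwb5 : orderOf (b * w * b⁻¹) = 5 := by
    rw [show b * (w : G) * b⁻¹ = MulAut.conj b (w : G) from rfl, MulEquiv.orderOf_eq]; exact hw5
  have hrealb : IsConj (b * w * b⁻¹) (b * w * b⁻¹)⁻¹ := by
    have h1 : IsConj (w : G) (b * w * b⁻¹) := isConj_conj b _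
    have h2 : IsConj (w : G)⁻¹ (b * w * b⁻¹)⁻¹ := isConj_iff.mpr ⟨b, by group⟩
    exact h1.symm.trans (hreal.trans h2)
  have h4b : ¬ 4 ∣ Nat.card (centralizer ({b * (w : G) * b⁻¹} : Set G)) := by
    rw [← Cfsg.Agent.J2Type.Cent5.card_centralizer_of_isConj (isConj_conj b (w : G))]
    exact h4
  obtain ⟨-, -, hU⟩ := sylow_five_aux hG (hgood.conj a) ha hwb5 hb hrealb h4b
  have hw2 : 2 ∣ Nat.card (centralizer ({(w : G)} : Set G)) := by
    have h1 : orderOf (⟨z, mem_centralizer_singleton_iff.2 hwz.symm⟩ : centralizer ({(w : G)} : Set G)) = 2 := by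
      rw [Subgroup.orderOf_mk]; exact h.hz
    rw [← h1]
    exact orderOf_dvd_natCard _
  have hw'2 : 2 ∣ Nat.card (centralizer ({(w' : G)} : Set G)) := by
    rw [Cfsg.Agent.J2Type.Cent5.card_centralizer_five h F h60 hG w'.2 hw'5]
    norm_num
  have hmem : g * x * g⁻¹ ∈ T P (a * w' * a⁻¹) ∪ T P (b * w * b⁻¹) := by
    rw [hU]
    refine ⟨hg, ?_⟩
    intro h
    have h1 : g * x * g⁻¹ = 1 := h
    have h2 : x = 1 := by
      have : x = g⁻¹ * (g * x * g⁻¹) * g := by group
      rw [this, h1]; group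
    rw [h2, orderOf_one] at hx; norm_num at hx
  have key : ∀ y : G, orderOf y = 5 → 2 ∣ Nat.card (centralizer ({y} : Set G)) → g * x * g⁻¹ ∈ T P y →
      2 ∣ Nat.card (centralizer ({x} : Set G)) := by
    rintro y hy h2 (⟨-, h3⟩ | ⟨-, h3⟩)
    · exact hE (h3.trans (isConj_conj g x).symm) h2
    · exact hE (h3.trans (isConj_conj g x).symm) (by rw [centralizer_sq hy]; exact h2)
  rcases hmem with h1 | h1
  · exact key _ (hgood.conj a).1 (hE (isConj_conj a _) hw'2) h1
  · exact key _ hwb5 (hE (isConj_conj b _) hw2) h1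

theorem even_three (h : Fus z u) {x : G} (hx : orderOf x = 3) : 2 ∣ Nat.card (centralizer ({x} : Set G)) := by
  obtain ⟨a, b, -, -, hca, hcb, hcl, -⟩ := Cfsg.Agent.J2Type.ThreeF.main h
  rcases hcl x hx with h1 | h1
  · rw [Cfsg.Agent.J2Type.Cent5.card_centralizer_of_isConj h1, hca]; norm_num
  · rw [Cfsg.Agent.J2Type.Cent5.card_centralizer_of_isConj h1, hcb]; norm_num

/-- the centralizer of `u` contains a subgroup `A₅` of index 4 -/
theorem exists_sub (h : Fus z u) : ∃ S : Subgroup G, S ≤ centralizer ({u} : Set G) ∧ IsSimpleGroup S ∧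
    ¬ IsMulCommutative S ∧ Nat.card S = 60 := by
  obtain ⟨f, U, V, H0, F⟩ := Cfsg.Agent.J2Type.CentU.main h
  have h60 : Nat.card H0 = 60 := by
    have h1 := Cfsg.Agent.J2Type.Order.card_centralizer_u h
    rw [F.str.card] at h1
    omega
  obtain ⟨e⟩ := Cfsg.Agent.J2Type.Cent5.exists_equiv h F h60
  have := simple_A5
  have h1 : IsSimpleGroup H0 := e.isSimpleGroup
  exact ⟨H0, F.str.le, h1, not_comm_of_card (by rw [h60]; norm_num), h60⟩

end fus

/-- the epimorphism of `C(t)` onto `A₅` -/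
theorem exists_onto {C : Type*} [Group C] {Q : Subgroup C} {z : C} {v : Fin 5 → C} {ρ : C →* SP}
    (M : IsModel Q z v ρ) : ∃ f : C →* alternatingGroup (Fin 5), Function.Surjective f := by
  have h1 := Cfsg.Agent.KFacts.QMinus.range_permHom M
  refine ⟨(Cfsg.Agent.KFacts.QMinus.permHom ρ).codRestrict (alternatingGroup (Fin 5))
    (fun c => by rw [← h1]; exact ⟨c, rfl⟩), ?_⟩
  rintro ⟨s, hs⟩
  rw [← h1] at hs
  obtain ⟨c, hc⟩ := hs
  exact ⟨c, Subtype.ext hc⟩

theorem mem_cent_conj {G : Type*} [Group G] {g z t a : G} (h : g * z * g⁻¹ = t) (ha : a * t = t * a) :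
    g⁻¹ * a * g⁻¹⁻¹ ∈ centralizer ({z} : Set G) := by
  rw [mem_centralizer_singleton_iff]
  have h1 : z = g⁻¹ * t * g := by rw [← h]; group
  rw [h1]
  calc g⁻¹ * a * g⁻¹⁻¹ * (g⁻¹ * t * g) = g⁻¹ * (a * t) * g := by group
    _ = g⁻¹ * (t * a) * g := by rw [ha]
    _ = g⁻¹ * t * g * (g⁻¹ * a * g⁻¹⁻¹) := by group

theorem noRC {G : Type*} [Group G] [Finite G] (h : Spor.IsoJ2 G) [IsSimpleGroup G] : NoRC G := by
  obtain ⟨z, u, Q, v, ρ, D⟩ := Cfsg.Agent.KFacts.J2.Facts.exists_dat_of h
  have F := D.F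
  have hcard := Cfsg.Agent.J2Type.Order.card_of_fus F
  have hna : ¬ IsMulCommutative G := not_comm_of_card (by rw [hcard]; norm_num)
  intro p hp hp2 a ha hR hP
  have hpp := hp.out
  have hd : p ∣ 2 ^ 7 * (3 ^ 3 * (5 ^ 2 * 7)) := by
    have h1 : p ∣ Nat.card G := ha ▸ orderOf_dvd_natCard a
    rw [hcard] at h1
    norm_num
    exact h1
  have small : (p = 3 ∨ p = 5) → 2 ∣ Nat.card (centralizer ({a} : Set G)) → False := by
    intro hp35 h2
    obtain ⟨⟨t, ht⟩, ht2⟩ := exists_prime_orderOf_dvd_card' (G := centralizer ({a} : Set G)) 2 h2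
    rw [Subgroup.orderOf_mk] at ht2
    have hat : a * t = t * a := (mem_centralizer_singleton_iff.1 ht).symm
    rcases F.cover t ht2 with h1 | h1
    · obtain ⟨g, hg⟩ := isConj_iff.1 h1
      have h3 := mem_cent_conj hg hat
      have h4 : orderOf (g⁻¹ * a * g⁻¹⁻¹) = p := by
        rw [← ha]; exact orderOf_injective (MulAut.conj g⁻¹).toMonoidHom (MulAut.conj g⁻¹).injective a
      obtain ⟨f, hf⟩ := exists_onto D.M
      have := simple_A5
      refine false_of_mem_onto (S := alternatingGroup (Fin 5)) not_comm_A5 (H := centralizer ({z} : Set G)) ?_ f hf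
        (k := 32) ?_ ?_ h4 h3 (RC_conj hR g⁻¹)
      · intro h5
        have h6 := F.cardC
        rw [h5, Nat.card_congr topEquiv.toEquiv, hcard] at h6
        norm_num at h6
      · rw [F.cardC, card_A5]
      · rcases hp35 with rfl | rfl <;> norm_num
    · obtain ⟨g, hg⟩ := isConj_iff.1 h1
      have h3 := mem_cent_conj hg hat
      have h4 : orderOf (g⁻¹ * a * g⁻¹⁻¹) = p := by
        rw [← ha]; exact orderOf_injective (MulAut.conj g⁻¹).toMonoidHom (MulAut.conj g⁻¹).injective a
      obtain ⟨S, hS, hSs, hSn, h60⟩ := exists_sub F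
      have hu := Cfsg.Agent.J2Type.Order.card_centralizer_u F
      refine false_of_mem_sub (H := centralizer ({u} : Set G)) ?_ S hS hSn ?_ h4 h3 (RC_conj hR g⁻¹)
      · intro h5
        rw [h5, Nat.card_congr topEquiv.toEquiv, hcard] at hu
        norm_num at hu
      · rw [h60, hu]
        rcases hp35 with rfl | rfl <;> norm_num
  rcases (Nat.Prime.dvd_mul hpp).1 hd with h | h
  · exact hp2 ((Nat.prime_dvd_prime_iff_eq hpp Nat.prime_two).1 (hpp.dvd_of_dvd_pow h))
  rcases (Nat.Prime.dvd_mul hpp).1 h with h | h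
  · obtain rfl := (Nat.prime_dvd_prime_iff_eq hpp (by norm_num)).1 (hpp.dvd_of_dvd_pow h)
    exact small (Or.inl rfl) (even_three F ha)
  rcases (Nat.Prime.dvd_mul hpp).1 h with h | h
  · obtain rfl := (Nat.prime_dvd_prime_iff_eq hpp (by norm_num)).1 (hpp.dvd_of_dvd_pow h)
    exact small (Or.inr rfl) (even_five F ha)
  · obtain rfl := (Nat.prime_dvd_prime_iff_eq hpp (by norm_num)).1 h
    have h7 : ∀ P : Sylow 7 G, Nat.card P = 7 := by
      intro P
      rw [P.card_eq_multiplicity, hcard]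
      have : (604800 : ℕ).factorization 7 = 1 := by
        rw [show (604800 : ℕ) = 7 ^ 1 * 86400 by norm_num]
        rw [Nat.factorization_mul (by norm_num) (by norm_num), Nat.Prime.factorization_pow (by norm_num)]
        simp [Nat.factorization_eq_zero_of_not_dvd (show ¬ 7 ∣ 86400 by norm_num)]
      rw [this]
      rfl
    obtain ⟨g, hg⟩ := Cfsg.Agent.H491.AA.pa_cyc hna hp2 h7 ha (by
      have h8 : IsPGroup 7 (zpowers a) := IsPGroup.of_card (n := 1) (by rw [Nat.card_zpowers, ha, pow_one])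
      obtain ⟨P, hPa⟩ := h8.exists_le_sylow
      have h9 : (P : Subgroup G) = zpowers a :=
        (eq_of_le_of_card_ge hPa (by rw [Nat.card_zpowers, ha]; exact (h7 P).le)).symm
      have h10 := (Cfsg.Agent.J2Type.ThreeF.sylow_seven F P).1
      have h11 : Nat.card (centralizer ({a} : Set G)) ≤ 7 := by
        rw [← h7 P]
        refine Subgroup.card_le_of_le ?_
        intro y hy
        have h12 : y ∈ centralizer ((P : Subgroup G) : Set G) := by
          rw [h9, mem_centralizer_iff]
          rintro x ⟨k, rfl⟩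
          rw [mem_centralizer_singleton_iff] at hy
          have h13 : Commute y a := hy
          exact (h13.zpow_right k).eq.symm
        rw [h10] at h12
        exact h12
      rw [hcard]
      calc Nat.card (centralizer ({a} : Set G)) ^ 2 ≤ 7 ^ 2 := Nat.pow_le_pow_left h11 2
        _ ≤ 604800 := by norm_num)
    exact hg (hP g)

end Cfsg.Agent.H102.AAJtwo
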