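import Cfsg.Agent.H357.Sp.Spec

/-!
# Centralizer induction for groups with the spectrum of `Alt n` / `Sym n` (task 2058, D1 of helper357)

`exists_x`, `exists_centralizer`, `step`, `centralizer_quotient`; reusable: `W_mul`, `W_prime`, `le_W_of_dvd`,
`conj_of_orderOf`, `exists_complement`, `lift_centralizer`, `centralizer_mk`, `disjoint_mk`, `card_centralizer_of`,
`Std.card`, `Std.normal`, `Std.congr`, `card_centralizer_perm`, `card_centralizer_alt`, `card_centralizer_congr`,
`not_sq_dvd_factorial`, `index_subgroupOf`.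
-/

set_option autoImplicit false

namespace Cfsg.Agent.H102.SpCent

open Cfsg.Agent.H357.Sp

/-- the standard group of degree `n` -/
def Std (ε n : ℕ) (H : Type*) [Group H] : Prop :=
  (ε = 2 → Nonempty (H ≃* alternatingGroup (Fin n))) ∧ (ε = 0 → Nonempty (H ≃* Equiv.Perm (Fin n)))

/-! ### arithmetic of `W` -/

theorem W_mul {a b : ℕ} (h : a.Coprime b) : W (a * b) = W a + W b := by
  unfold W
  rw [h.primeFactors_mul, Finset.sum_union h.disjoint_primeFactors]
  rw [Nat.factorization_mul_of_coprime h]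
  congr 1
  · refine Finset.sum_congr rfl fun p hp => ?_
    have : b.factorization p = 0 := by
      apply Nat.factorization_eq_zero_of_not_dvd
      intro hb'
      exact (Nat.prime_of_mem_primeFactors hp).one_lt.ne'
        (Nat.eq_one_of_dvd_coprimes h (Nat.dvd_of_mem_primeFactors hp) hb')
    simp [this]
  · refine Finset.sum_congr rfl fun p hp => ?_
    have : a.factorization p = 0 := by
      apply Nat.factorization_eq_zero_of_not_dvd
      intro hb'
      exact (Nat.prime_of_mem_primeFactors hp).one_lt.ne'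
        (Nat.eq_one_of_dvd_coprimes h hb' (Nat.dvd_of_mem_primeFactors hp))
    simp [this]

theorem W_prime {r : ℕ} (hr : r.Prime) : W r = r := by
  unfold W
  rw [hr.primeFactors]
  simp [hr.factorization_self]

theorem le_W_of_dvd {r k : ℕ} (hr : r.Prime) (hk : k ≠ 0) (h : r ∣ k) : r ≤ W k := by
  unfold W
  have h1 : r ^ k.factorization r ≤ ∑ p ∈ k.primeFactors, p ^ k.factorization p :=
    Finset.single_le_sum (f := fun p => p ^ k.factorization p) (fun _ _ => Nat.zero_le _)
      (Nat.mem_primeFactors.2 ⟨hr, h, hk⟩)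
  refine le_trans ?_ h1
  have h2 : 0 < k.factorization r := hr.factorization_pos_of_dvd hk h
  exact Nat.le_self_pow h2.ne' r

theorem exists_x {ε n r : ℕ} {G : Type} [Group G] [Finite G] (hS : Spec ε n G) (hr : r.Prime) (h2 : 2 < r) (hrn : r ≤ n) :
    ∃ x : G, orderOf x = r := by
  have hodd : ¬ Even r := by
    rw [Nat.not_even_iff_odd]
    exact hr.odd_of_ne_two h2.ne'
  refine hS.down r hr.pos ?_
  rw [W_prime hr, if_neg hodd]
  simpa using hrn

/-- subgroups of order `r` are conjugate when `r ^ 2` does not divide the order -/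
theorem conj_of_orderOf {G : Type*} [Group G] [Finite G] {r : ℕ} (hr : r.Prime) (hsq : ¬ r ^ 2 ∣ Nat.card G) {x y : G}
    (hx : orderOf x = r) (hy : orderOf y = r) : ∃ (g : G) (j : ℕ), x = (g * y * g⁻¹) ^ j := by
  have : Fact r.Prime := ⟨hr⟩
  have hdvd : r ∣ Nat.card G := hx ▸ orderOf_dvd_natCard x
  have hfac : (Nat.card G).factorization r = 1 := by
    have h1 : 0 < (Nat.card G).factorization r := hr.factorization_pos_of_dvd Nat.card_pos.ne' hdvd
    have h2 : ¬ 2 ≤ (Nat.card G).factorization r := by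
      intro h
      exact hsq ((hr.pow_dvd_iff_le_factorization Nat.card_pos.ne').2 h)
    omega
  let P : Sylow r G := Sylow.ofCard (Subgroup.zpowers x) (by rw [Nat.card_zpowers, hx, hfac, pow_one])
  let Q : Sylow r G := Sylow.ofCard (Subgroup.zpowers y) (by rw [Nat.card_zpowers, hy, hfac, pow_one])
  obtain ⟨g, hg⟩ := MulAction.exists_smul_eq G Q P
  have h1 : x ∈ (P : Subgroup G) := Subgroup.mem_zpowers x
  rw [← hg, Sylow.coe_subgroup_smul] at h1
  obtain ⟨z, hz, hz'⟩ := Subgroup.mem_smul_pointwise_iff_exists _ _ _ |>.1 h1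
  have hz2 : z ∈ Subgroup.zpowers y := hz
  obtain ⟨j, hj⟩ := (mem_powers_iff_mem_zpowers.2 hz2)
  refine ⟨g, j, ?_⟩
  rw [conj_pow, ← hz', ← hj]
  simp [MulAut.smul_def, MulAut.conj_apply]


/-- the normal complement of a central Sylow subgroup of prime order in the centralizer -/
theorem exists_complement {G : Type*} [Group G] [Finite G] {r : ℕ} (hr : r.Prime) (hsq : ¬ r ^ 2 ∣ Nat.card G) (x : G)
    (hx : orderOf x = r) :
    ∃ C' : Subgroup G, Disjoint (Subgroup.zpowers x) C' ∧ Subgroup.centralizer {x} = Subgroup.zpowers x ⊔ C' ∧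
      ¬ r ∣ Nat.card ↥C' ∧ (∀ g : G, g ∈ C' ↔ x * g = g * x ∧ ¬ r ∣ orderOf g) := by
  set C := Subgroup.centralizer {x} with hC
  have hxC : x ∈ C := by
    rw [hC, Subgroup.mem_centralizer_iff]
    rintro y rfl
    rfl
  have hmemC : ∀ g : G, g ∈ C ↔ x * g = g * x := by
    intro g
    rw [hC, Subgroup.mem_centralizer_iff]
    constructor
    · intro h
      exact h x rfl
    · rintro h y rfl
      exact h
  set P : Subgroup C := Subgroup.zpowers ⟨x, hxC⟩ with hP
  have hPcard : Nat.card P = r := by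
    rw [hP, Nat.card_zpowers, ← hx, ← Subgroup.orderOf_coe]
  have hcen : ∀ p ∈ P, ∀ c : C, p * c = c * p := by
    rintro p hp c
    obtain ⟨k, rfl⟩ := Subgroup.mem_zpowers_iff.1 hp
    have : Commute (⟨x, hxC⟩ : C) c := by
      apply Subtype.ext
      exact (hmemC c).1 c.2
    exact (this.zpow_left k)
  have : P.Normal := ⟨fun p hp g => by
    have := hcen p hp g
    rw [← this, mul_assoc, mul_inv_cancel, mul_one]
    exact hp⟩
  have hcop : (Nat.card P).Coprime P.index := by
    rw [hPcard]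
    refine (Nat.Prime.coprime_iff_not_dvd hr).2 fun h => hsq ?_
    have h1 : Nat.card P * P.index = Nat.card C := P.card_mul_index
    rw [hPcard] at h1
    have h2 : r ^ 2 ∣ Nat.card C := by
      rw [← h1, pow_two]
      exact Nat.mul_dvd_mul_left r h
    exact h2.trans (Subgroup.card_subgroup_dvd_card C)
  obtain ⟨H, hH⟩ := Subgroup.exists_right_complement'_of_coprime hcop
  have hHcard : ¬ r ∣ Nat.card H := by
    intro h
    have h1 : Nat.card P * Nat.card H = Nat.card C := hH.card_mul_card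
    have h3 : Nat.card P * P.index = Nat.card C := P.card_mul_index
    have h4 : Nat.card H = P.index := by
      have h5 : 0 < Nat.card P := Nat.card_pos
      exact Nat.eq_of_mul_eq_mul_left h5 (h1.trans h3.symm)
    rw [h4] at h
    rw [hPcard] at hcop
    exact (Nat.Prime.coprime_iff_not_dvd hr).1 hcop h
  have hmem : ∀ c : C, c ∈ H ↔ ¬ r ∣ orderOf c := by
    intro c
    constructor
    · intro hc h
      exact hHcard (h.trans (by
        have := orderOf_dvd_natCard (⟨c, hc⟩ : H)
        rwa [← Subgroup.orderOf_coe] at this))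
    · intro hc
      obtain ⟨⟨p, h⟩, hph⟩ := hH.2 c
      have hph' : (p : C) * (h : C) = c := hph
      have hcomm : Commute (p : C) (h : C) := hcen _ p.2 _
      have hordp : orderOf (p : C) ∣ r := by
        rw [Subgroup.orderOf_coe, ← hPcard]
        exact orderOf_dvd_natCard _
      have hordh : ¬ r ∣ orderOf (h : C) := by
        intro h'
        rw [Subgroup.orderOf_coe] at h'
        exact hHcard (h'.trans (orderOf_dvd_natCard _))
      rcases (Nat.dvd_prime hr).1 hordp with h1 | h1
      · have : (p : C) = 1 := orderOf_eq_one_iff.1 h1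
        rw [← hph', this, one_mul]
        exact h.2
      · exfalso
        apply hc
        rw [← hph', hcomm.orderOf_mul_eq_mul_orderOf_of_coprime (by
          rw [h1]; exact (Nat.Prime.coprime_iff_not_dvd hr).2 hordh), h1]
        exact dvd_mul_right _ _
  refine ⟨H.map C.subtype, ?_, ?_, ?_, ?_⟩
  · rw [Subgroup.disjoint_def]
    intro y hy hy'
    obtain ⟨h, hh, rfl⟩ := Subgroup.mem_map.1 hy'
    have h1 : h ∈ P := by
      obtain ⟨k, hk⟩ := Subgroup.mem_zpowers_iff.1 hy
      refine Subgroup.mem_zpowers_iff.2 ⟨k, ?_⟩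
      apply Subtype.ext
      rw [Subgroup.coe_zpow]
      exact hk
    have h2 : h = 1 := Subgroup.disjoint_def.1 hH.disjoint h1 hh
    rw [h2]; rfl
  · have h1 : P.map C.subtype = Subgroup.zpowers x := by
      rw [hP, MonoidHom.map_zpowers]
      rfl
    rw [← h1, ← Subgroup.map_sup, hH.sup_eq_top]
    rw [← MonoidHom.range_eq_map, Subgroup.range_subtype]
  · rw [Subgroup.card_map_of_injective C.subtype_injective]
    exact hHcard
  · intro g
    constructor
    · rintro hg
      obtain ⟨h, hh, rfl⟩ := Subgroup.mem_map.1 hg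
      refine ⟨(hmemC _).1 h.2, ?_⟩
      have := (hmem h).1 hh
      rwa [← Subgroup.orderOf_coe] at this
    · rintro ⟨h1, h2⟩
      refine Subgroup.mem_map.2 ⟨⟨g, (hmemC g).2 h1⟩, (hmem _).2 ?_, rfl⟩
      rwa [← Subgroup.orderOf_coe]

theorem exists_centralizer {ε n r : ℕ} {G : Type} [Group G] [Finite G] (hS : Spec ε n G) (hr : r.Prime) (h2 : 2 < r) (hrn : r ≤ n)
    (hn : n < 2 * r) (hsq : ¬ r ^ 2 ∣ Nat.card G) (x : G) (hx : orderOf x = r) :
    ∃ C' : Subgroup G, Disjoint (Subgroup.zpowers x) C' ∧ Subgroup.centralizer {x} = Subgroup.zpowers x ⊔ C' ∧ ¬ r ∣ Nat.card ↥C' ∧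
      (∀ g : G, g ∈ C' ↔ x * g = g * x ∧ ¬ r ∣ orderOf g) ∧ Spec ε (n - r) ↥C' := by
  obtain ⟨C', h1, hsup, h3, h4⟩ := exists_complement hr hsq x hx
  refine ⟨C', h1, hsup, h3, h4, ?_, ?_⟩
  · intro y
    obtain ⟨hy1, hy2⟩ := (h4 y).1 y.2
    have hcop : (orderOf x).Coprime (orderOf (y : G)) := by
      rw [hx]; exact (Nat.Prime.coprime_iff_not_dvd hr).2 hy2
    have hcomm : Commute x (y : G) := hy1
    have h5 := hS.up (x * y)
    rw [hcomm.orderOf_mul_eq_mul_orderOf_of_coprime hcop, W_mul hcop, hx, W_prime hr] at h5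
    rw [← Subgroup.orderOf_coe]
    have hodd : ¬ Even r := by
      rw [Nat.not_even_iff_odd]
      exact hr.odd_of_ne_two h2.ne'
    have h6 : Even (r * orderOf (y : G)) ↔ Even (orderOf (y : G)) := by
      rw [Nat.even_mul]
      constructor
      · rintro (h | h)
        · exact absurd h hodd
        · exact h
      · exact Or.inr
    simp only [h6] at h5
    omega
  · intro k hk hWk
    have hodd : ¬ Even r := by
      rw [Nat.not_even_iff_odd]
      exact hr.odd_of_ne_two h2.ne'
    have hrk : ¬ r ∣ k := by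
      intro h
      have := le_W_of_dvd hr hk.ne' h
      omega
    have hcop : r.Coprime k := (Nat.Prime.coprime_iff_not_dvd hr).2 hrk
    have h6 : Even (r * k) ↔ Even k := by
      rw [Nat.even_mul]
      constructor
      · rintro (h | h)
        · exact absurd h hodd
        · exact h
      · exact Or.inr
    obtain ⟨g, hg⟩ := hS.down (r * k) (Nat.mul_pos hr.pos hk) (by
      rw [W_mul hcop, W_prime hr]
      simp only [h6]
      omega)
    have hgk : orderOf (g ^ k) = r := by
      rw [orderOf_pow_of_dvd hk.ne' (by rw [hg]; exact dvd_mul_left _ _), hg, Nat.mul_div_cancel _ hk]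
    have hgr : orderOf (g ^ r) = k := by
      rw [orderOf_pow_of_dvd hr.ne_zero (by rw [hg]; exact dvd_mul_right _ _), hg, Nat.mul_div_cancel_left _ hr.pos]
    obtain ⟨c, j, hcj⟩ := conj_of_orderOf hr hsq hx hgk
    have hord : orderOf (c * g ^ r * c⁻¹) = k := by
      rw [← hgr]
      exact orderOf_injective (MulAut.conj c).toMonoidHom (MulAut.conj c).injective (g ^ r)
    refine ⟨⟨c * g ^ r * c⁻¹, (h4 _).2 ⟨?_, by rw [hord]; exact hrk⟩⟩, ?_⟩
    · have hcomm : Commute (c * g ^ k * c⁻¹) (c * g ^ r * c⁻¹) := by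
        have : Commute (g ^ k) (g ^ r) := (Commute.refl g).pow_pow _ _
        exact this.conj c
      rw [hcj]
      exact hcomm.pow_left j
    · rw [← Subgroup.orderOf_coe]
      exact hord

/-! ### centralizers in quotients by `r'`-subgroups -/

section quot

variable {G : Type*} [Group G] {r : ℕ} {N : Subgroup G} [N.Normal]

theorem orderOf_mk (hr : r.Prime) (hN : ¬ r ∣ Nat.card N) {x : G} (hx : orderOf x = r) :
    orderOf (x : G ⧸ N) = r := by
  have h1 : orderOf (x : G ⧸ N) ∣ r := by
    rw [← hx]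
    exact orderOf_map_dvd (QuotientGroup.mk' N) x
  rcases (Nat.dvd_prime hr).1 h1 with h | h
  · exfalso
    have h2 : x ∈ N := (QuotientGroup.eq_one_iff x).1 (orderOf_eq_one_iff.1 h)
    apply hN
    have := orderOf_dvd_natCard (⟨x, h2⟩ : N)
    rwa [← Subgroup.orderOf_coe, hx] at this
  · exact h

/-- an element of `G / N` centralizing `x N` comes from an element of `G` centralizing `x` -/
theorem lift_centralizer [Finite G] (hr : r.Prime) (hsq : ¬ r ^ 2 ∣ Nat.card G) (hN : ¬ r ∣ Nat.card N) {x : G}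
    (hx : orderOf x = r) (g : G) (hg : (x : G ⧸ N) * (g : G ⧸ N) = (g : G ⧸ N) * (x : G ⧸ N)) :
    ∃ c : G, x * c = c * x ∧ (c : G ⧸ N) = (g : G ⧸ N) := by
  set P := Subgroup.zpowers x with hP
  set K := P ⊔ N with hK
  have hxK : x ∈ K := (le_sup_left : P ≤ K) (Subgroup.mem_zpowers x)
  -- the conjugate lies in `K`
  have hgxK : g * x * g⁻¹ ∈ K := by
    have h1 : ((x⁻¹ * (g * x * g⁻¹) : G) : G ⧸ N) = 1 := by
      rw [QuotientGroup.mk_mul, QuotientGroup.mk_mul, QuotientGroup.mk_mul, QuotientGroup.mk_inv,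
        QuotientGroup.mk_inv, ← hg]
      group
    have h2 : x⁻¹ * (g * x * g⁻¹) ∈ N := (QuotientGroup.eq_one_iff _).1 h1
    have h3 : g * x * g⁻¹ = x * (x⁻¹ * (g * x * g⁻¹)) := by group
    rw [h3]
    exact K.mul_mem hxK ((le_sup_right : N ≤ K) h2)
  have hsqK : ¬ r ^ 2 ∣ Nat.card K := fun h => hsq (h.trans (Subgroup.card_subgroup_dvd_card K))
  have ho2 : orderOf (g * x * g⁻¹) = r := by
    rw [← hx]
    exact orderOf_injective (MulAut.conj g).toMonoidHom (MulAut.conj g).injective x
  obtain ⟨k, j, hkj⟩ := conj_of_orderOf (G := K) hr hsqK (x := ⟨x, hxK⟩) (y := ⟨g * x * g⁻¹, hgxK⟩)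
    (by rw [← Subgroup.orderOf_coe]; exact hx) (by rw [← Subgroup.orderOf_coe]; exact ho2)
  have hkj' : x = ((k : G) * (g * x * g⁻¹) * (k : G)⁻¹) ^ j := congrArg Subtype.val hkj
  have hk : (k : G) ∈ ((P ⊔ N : Subgroup G) : Set G) := k.2
  rw [Subgroup.mul_normal] at hk
  obtain ⟨p, hp, n, hn, hpn⟩ := Set.mem_mul.1 hk
  have hpx : Commute p x := by
    obtain ⟨i, rfl⟩ := Subgroup.mem_zpowers_iff.1 (show p ∈ Subgroup.zpowers x from hp)
    exact (Commute.refl x).zpow_left i
  have hn' : n ∈ N := hn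
  have hx1 : x = (n * g * x * (n * g)⁻¹) ^ j := by
    rw [← hpn] at hkj'
    have h1 : p * n * (g * x * g⁻¹) * (p * n)⁻¹ = p * (n * g * x * (n * g)⁻¹) * p⁻¹ := by group
    rw [h1, conj_pow] at hkj'
    have h2 : p⁻¹ * x * p = (n * g * x * (n * g)⁻¹) ^ j := by
      conv_lhs => rw [hkj']
      group
    rw [← h2, mul_assoc, ← hpx.eq, inv_mul_cancel_left]
  have hcong : ((n * g : G) : G ⧸ N) = (g : G ⧸ N) := by
    rw [QuotientGroup.mk_mul, (QuotientGroup.eq_one_iff n).2 hn', one_mul]
  -- modulo `N`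
  have hmod : (x : G ⧸ N) ^ j = (x : G ⧸ N) := by
    have h1 := congrArg (fun y : G => (y : G ⧸ N)) hx1
    simp only [QuotientGroup.mk_pow, conj_pow, QuotientGroup.mk_mul, QuotientGroup.mk_inv,
      (QuotientGroup.eq_one_iff n).2 hn', one_mul] at h1
    have hc : Commute (g : G ⧸ N) ((x : G ⧸ N) ^ j) := (show Commute (x : G ⧸ N) (g : G ⧸ N) from hg).symm.pow_right j
    rw [hc.eq, mul_assoc, mul_inv_cancel, mul_one] at h1
    exact h1.symm
  have hj : x ^ j = x := by
    have h1 : j ≡ 1 [MOD orderOf (x : G ⧸ N)] := by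
      rw [← pow_eq_pow_iff_modEq, pow_one]
      exact hmod
    rw [orderOf_mk hr hN hx, ← hx] at h1
    have := pow_eq_pow_iff_modEq.2 h1
    rwa [pow_one] at this
  rw [conj_pow, hj] at hx1
  refine ⟨n * g, ?_, hcong⟩
  conv_lhs => rw [hx1]
  group

/-- the centralizer in `G / N` of the image of `x` -/
theorem centralizer_mk [Finite G] (hr : r.Prime) (hsq : ¬ r ^ 2 ∣ Nat.card G) (hN : ¬ r ∣ Nat.card N) {x : G}
    (hx : orderOf x = r) {C' : Subgroup G} (hsup : Subgroup.centralizer {x} = Subgroup.zpowers x ⊔ C') :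
    Subgroup.centralizer {(x : G ⧸ N)} = Subgroup.zpowers (x : G ⧸ N) ⊔ C'.map (QuotientGroup.mk' N) := by
  have h1 : (Subgroup.zpowers x).map (QuotientGroup.mk' N) = Subgroup.zpowers (x : G ⧸ N) := by
    rw [MonoidHom.map_zpowers]
    rfl
  rw [← h1, ← Subgroup.map_sup, ← hsup]
  apply le_antisymm
  · intro y hy
    obtain ⟨g, rfl⟩ := QuotientGroup.mk_surjective y
    have hy' := (Subgroup.mem_centralizer_iff.1 hy) (x : G ⧸ N) rfl
    obtain ⟨c, hc, hcg⟩ := lift_centralizer hr hsq hN hx g hy'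
    refine Subgroup.mem_map.2 ⟨c, ?_, hcg⟩
    rw [Subgroup.mem_centralizer_iff]
    rintro z rfl
    exact hc
  · rintro _ ⟨g, hg, rfl⟩
    have hg' := (Subgroup.mem_centralizer_iff.1 hg) x rfl
    rw [Subgroup.mem_centralizer_iff]
    rintro z rfl
    rw [QuotientGroup.mk'_apply, ← QuotientGroup.mk_mul, hg', QuotientGroup.mk_mul]

theorem disjoint_mk [Finite G] (hr : r.Prime) (hN : ¬ r ∣ Nat.card N) {x : G} (hx : orderOf x = r) {C' : Subgroup G}
    (hC : ¬ r ∣ Nat.card C') : Disjoint (Subgroup.zpowers (x : G ⧸ N)) (C'.map (QuotientGroup.mk' N)) := by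
  rw [Subgroup.disjoint_def]
  intro y hy hy'
  have h1 : orderOf y ∣ r := by
    have := orderOf_dvd_natCard (⟨y, hy⟩ : Subgroup.zpowers (x : G ⧸ N))
    rwa [← Subgroup.orderOf_coe, Nat.card_zpowers, orderOf_mk hr hN hx] at this
  have h2 : orderOf y ∣ Nat.card C' := by
    have := orderOf_dvd_natCard (⟨y, hy'⟩ : C'.map (QuotientGroup.mk' N))
    rw [← Subgroup.orderOf_coe] at this
    exact this.trans (Subgroup.card_map_dvd _ _)
  rcases (Nat.dvd_prime hr).1 h1 with h | h
  · exact orderOf_eq_one_iff.1 h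
  · exact absurd (h ▸ h2) hC

/-- the order of the centralizer of `x` in `G / N` -/
theorem card_centralizer_of {G : Type*} [Group G] [Finite G] {r : ℕ} {x : G} (hx : orderOf x = r)
    {C' : Subgroup G} (hdisj : Disjoint (Subgroup.zpowers x) C')
    (hsup : Subgroup.centralizer {x} = Subgroup.zpowers x ⊔ C') :
    Nat.card (Subgroup.centralizer {x}) = r * Nat.card C' := by
  have hC : C' ≤ Subgroup.centralizer {x} := hsup ▸ le_sup_right
  have hxC : Subgroup.zpowers x ≤ Subgroup.centralizer {x} := hsup ▸ le_sup_left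
  have hcomm : ∀ c ∈ C', c * x = x * c := fun c hc => ((Subgroup.mem_centralizer_iff.1 (hC hc)) x rfl).symm
  let f : Subgroup.zpowers x × C' → Subgroup.centralizer {x} :=
    fun p => ⟨p.1 * p.2, Subgroup.mul_mem _ (hxC p.1.2) (hC p.2.2)⟩
  have hf : Function.Bijective f := by
    constructor
    · rintro ⟨⟨a, ha⟩, ⟨b, hb⟩⟩ ⟨⟨c, hc⟩, ⟨d, hd⟩⟩ h
      have h1 : a * b = c * d := congrArg Subtype.val h
      have h2 : c⁻¹ * a = d * b⁻¹ := by
        rw [inv_mul_eq_iff_eq_mul, ← mul_assoc, ← h1, mul_inv_cancel_right]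
      have h3 : c⁻¹ * a = 1 := Subgroup.disjoint_def.1 hdisj (Subgroup.mul_mem _ (Subgroup.inv_mem _ hc) ha)
        (h2 ▸ Subgroup.mul_mem _ hd (Subgroup.inv_mem _ hb))
      have h4 : a = c := (inv_mul_eq_one.1 h3).symm
      have h5 : b = d := by
        rw [h4] at h1
        exact mul_left_cancel h1
      simp [h4, h5]
    · rintro ⟨y, hy⟩
      have hy' : y ∈ Subgroup.zpowers x ⊔ C' := hsup ▸ hy
      have hy2 : ∃ a ∈ Subgroup.zpowers x, ∃ b ∈ C', a * b = y := by
        rw [Subgroup.sup_eq_closure_mul] at hy'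
        refine Subgroup.closure_induction (p := fun z _ => ∃ a ∈ Subgroup.zpowers x, ∃ b ∈ C', a * b = z)
          ?_ ?_ ?_ ?_ hy'
        · rintro z hz
          obtain ⟨a, ha, b, hb, rfl⟩ := Set.mem_mul.1 hz
          exact ⟨a, ha, b, hb, rfl⟩
        · exact ⟨1, one_mem _, 1, one_mem _, one_mul 1⟩
        · rintro z w - - ⟨a, ha, b, hb, rfl⟩ ⟨c, hc, d, hd, rfl⟩
          refine ⟨a * c, mul_mem ha hc, b * d, mul_mem hb hd, ?_⟩
          obtain ⟨k, rfl⟩ := Subgroup.mem_zpowers_iff.1 hc
          have : Commute b (x ^ k) := (show Commute b x from hcomm b hb).zpow_right k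
          rw [mul_assoc, mul_assoc, ← mul_assoc b, this.eq, mul_assoc]
        · rintro z - ⟨a, ha, b, hb, rfl⟩
          refine ⟨a⁻¹, inv_mem ha, b⁻¹, inv_mem hb, ?_⟩
          obtain ⟨k, rfl⟩ := Subgroup.mem_zpowers_iff.1 ha
          have : Commute b (x ^ k) := (show Commute b x from hcomm b hb).zpow_right k
          rw [mul_inv_rev]
          exact (this.inv_left.inv_right.eq).symm
      obtain ⟨a, ha, b, hb, hab⟩ := hy2
      exact ⟨⟨⟨a, ha⟩, ⟨b, hb⟩⟩, Subtype.ext hab⟩
  rw [← Nat.card_congr (Equiv.ofBijective f hf), Nat.card_prod, Nat.card_zpowers, hx]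

end quot

/-! ### normal subgroups of alternating and symmetric groups -/

/-- the order of the standard group -/
def ord (ε n : ℕ) : ℕ := if ε = 2 then n.factorial / 2 else n.factorial

theorem two_mul_card_alt {k : ℕ} (hk : 2 ≤ k) : 2 * Nat.card (alternatingGroup (Fin k)) = k.factorial := by
  have : Nontrivial (Fin k) := Fin.nontrivial_iff_two_le.2 hk
  rw [two_mul_nat_card_alternatingGroup, Nat.card_perm, Nat.card_fin]

theorem Std.card {ε k : ℕ} (hε : ε = 0 ∨ ε = 2) (hk : 2 ≤ k) {H : Type*} [Group H] (h : Std ε k H) :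
    Nat.card H = if ε = 2 then k.factorial / 2 else k.factorial := by
  rcases hε with rfl | rfl
  · obtain ⟨e⟩ := h.2 rfl
    rw [Nat.card_congr e.toEquiv, Nat.card_perm, Nat.card_fin]
    simp
  · obtain ⟨e⟩ := h.1 rfl
    rw [Nat.card_congr e.toEquiv, if_pos rfl, ← two_mul_card_alt hk]
    omega

/-- normal subgroups of the standard groups -/
theorem Std.normal {ε k : ℕ} (hε : ε = 0 ∨ ε = 2) (hk : 5 ≤ k) {H : Type*} [Group H] [Finite H] (h : Std ε k H)
    (M : Subgroup H) [hM : M.Normal] : M = ⊥ ∨ (M.index ≤ 2 ∧ ¬ Group.IsSolvable M) := by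
  classical
  have hkc : 5 ≤ Nat.card (Fin k) := by rw [Nat.card_fin]; exact hk
  have hnsa : ¬ Group.IsSolvable (alternatingGroup (Fin k)) := by
    intro hs
    have := (alternatingGroup.isSimpleGroup hkc).toNontrivial
    exact (Group.IsSolvable.commutator_lt_top_of_nontrivial _).ne
      (commutator_alternatingGroup_eq_top hkc)
  rcases hε with rfl | rfl
  · obtain ⟨e⟩ := h.2 rfl
    let M' : Subgroup (Equiv.Perm (Fin k)) := M.map e.toMonoidHom
    have hM' : M'.Normal := hM.map _ e.surjective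
    rcases eq_or_ne M ⊥ with h1 | h1
    · exact Or.inl h1
    · right
      have hnt : Nontrivial M' := by
        rw [Subgroup.nontrivial_iff_ne_bot]
        intro h2
        exact h1 ((Subgroup.map_eq_bot_iff_of_injective M e.injective).1 h2)
      have hle := Equiv.Perm.alternatingGroup_le_of_normal hkc (N := M') hnt
      have hidx : M.index = M'.index := by
        exact (Subgroup.index_map_equiv M e).symm
      have hnt' : Nontrivial (Fin k) := Fin.nontrivial_iff_two_le.2 (by omega)
      refine ⟨?_, ?_⟩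
      · rw [hidx]
        calc M'.index ≤ (alternatingGroup (Fin k)).index :=
              Nat.le_of_dvd (by rw [alternatingGroup.index_eq_two]; norm_num) (Subgroup.index_dvd_of_le hle)
          _ = 2 := alternatingGroup.index_eq_two
      · intro hs
        apply hnsa
        have e' : M ≃* M' := M.equivMapOfInjective e.toMonoidHom e.injective
        have hs' : Group.IsSolvable M' := Group.isSolvable_of_surjective (f := e'.toMonoidHom) e'.surjective
        exact Group.isSolvable_of_isSolvable_injective (Subgroup.inclusion_injective hle)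
  · obtain ⟨e⟩ := h.1 rfl
    let M' : Subgroup (alternatingGroup (Fin k)) := M.map e.toMonoidHom
    have hM' : M'.Normal := hM.map _ e.surjective
    rcases alternatingGroup.normal_subgroup_eq_bot_or_eq_top hkc (N := M') with h1 | h1
    · exact Or.inl ((Subgroup.map_eq_bot_iff_of_injective M e.injective).1 h1)
    · right
      refine ⟨?_, ?_⟩
      · have hidx : M.index = M'.index := by
          exact (Subgroup.index_map_equiv M e).symm
        rw [hidx, h1, Subgroup.index_top]
        norm_num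
      · intro hs
        apply hnsa
        have e' : M ≃* M' := M.equivMapOfInjective e.toMonoidHom e.injective
        have hs' : Group.IsSolvable M' := Group.isSolvable_of_surjective (f := e'.toMonoidHom) e'.surjective
        rw [h1] at hs'
        exact Group.isSolvable_of_isSolvable_injective (f := (Subgroup.topEquiv (G := alternatingGroup (Fin k))).symm.toMonoidHom)
          (MulEquiv.injective _)

/-! ### the centralizer of an `r`-cycle -/

theorem cycleType_eq {m r : ℕ} (hr : r.Prime) (hm : m < 2 * r) (σ : Equiv.Perm (Fin m)) (hσ : orderOf σ = r) :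
    σ.cycleType = {r} := by
  obtain ⟨n, hn⟩ := Equiv.Perm.cycleType_prime_order (σ := σ) (hσ.symm ▸ hr)
  rw [hσ] at hn
  have h1 := Equiv.Perm.sum_cycleType_le σ
  rw [hn, Multiset.sum_replicate, Fintype.card_fin, smul_eq_mul] at h1
  have h2 : n = 0 := by
    by_contra h
    have : 2 * r ≤ (n + 1) * r := Nat.mul_le_mul_right r (by omega)
    omega
  rw [hn, h2]
  rfl

theorem card_centralizer_perm {m r : ℕ} (hr : r.Prime) (hm : m < 2 * r) (σ : Equiv.Perm (Fin m)) (hσ : orderOf σ = r) :
    Nat.card (Subgroup.centralizer {σ}) = r * (m - r).factorial := by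
  rw [Equiv.Perm.nat_card_centralizer, cycleType_eq hr hm σ hσ]
  simp [mul_comm]

theorem card_centralizer_alt {m r : ℕ} (hr : r.Prime) (hm : m < 2 * r) (hrm : r + 2 ≤ m) (σ : alternatingGroup (Fin m))
    (hσ : orderOf σ = r) :
    2 * Nat.card (Subgroup.centralizer {σ}) = r * (m - r).factorial := by
  have hσ' : orderOf (σ : Equiv.Perm (Fin m)) = r := by rw [Subgroup.orderOf_coe]; exact hσ
  rw [← card_centralizer_perm hr hm σ hσ']
  set C := Subgroup.centralizer {(σ : Equiv.Perm (Fin m))} with hC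
  -- a transposition in `C`
  have hsupp : (σ : Equiv.Perm (Fin m)).support.card = r := by
    rw [← Equiv.Perm.sum_cycleType, cycleType_eq hr hm σ hσ']
    simp
  obtain ⟨a, b, ha, hb, hab⟩ : ∃ a b, a ∈ (σ : Equiv.Perm (Fin m)).supportᶜ ∧ b ∈ (σ : Equiv.Perm (Fin m)).supportᶜ ∧ a ≠ b := by
    have h1 : 1 < (σ : Equiv.Perm (Fin m)).supportᶜ.card := by
      rw [Finset.card_compl, hsupp, Fintype.card_fin]
      omega
    obtain ⟨a, ha, b, hb, hab⟩ := Finset.one_lt_card.1 h1
    exact ⟨a, b, ha, hb, hab⟩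
  have hswap : Equiv.swap a b ∈ C := by
    rw [hC, Subgroup.mem_centralizer_iff]
    rintro y rfl
    have hd : Equiv.Perm.Disjoint (σ : Equiv.Perm (Fin m)) (Equiv.swap a b) := by
      rw [Equiv.Perm.disjoint_iff_disjoint_support, Equiv.Perm.support_swap hab, Finset.disjoint_left]
      intro x hx hx'
      rw [Finset.mem_insert, Finset.mem_singleton] at hx'
      rcases hx' with rfl | rfl
      · exact (Finset.mem_compl.1 ha) hx
      · exact (Finset.mem_compl.1 hb) hx
    exact hd.commute.eq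
  have hrel : (alternatingGroup (Fin m)).relIndex C = 2 := by
    rw [alternatingGroup_eq_sign_ker, Subgroup.relIndex_ker]
    have h1 : C.map Equiv.Perm.sign = ⊤ := by
      rw [eq_top_iff]
      intro u _
      rcases Int.units_eq_one_or u with rfl | rfl
      · exact one_mem _
      · exact Subgroup.mem_map.2 ⟨Equiv.swap a b, hswap, Equiv.Perm.sign_swap hab⟩
    rw [h1, Subgroup.card_top, Nat.card_eq_fintype_card]
    rfl
  have hcard := ((alternatingGroup (Fin m)).subgroupOf C).card_mul_index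
  have hrel' : ((alternatingGroup (Fin m)).subgroupOf C).index = 2 := hrel
  rw [hrel'] at hcard
  have he : Nat.card (Subgroup.centralizer {σ}) = Nat.card ((alternatingGroup (Fin m)).subgroupOf C) := by
    refine Nat.card_congr
      { toFun := fun g => ⟨⟨(g : alternatingGroup (Fin m)), ?_⟩, ?_⟩
        invFun := fun g => ⟨⟨(g : C), g.2⟩, ?_⟩
        left_inv := fun g => by simp
        right_inv := fun g => by simp }
    · rw [hC, Subgroup.mem_centralizer_iff]
      rintro y rfl
      exact congrArg Subtype.val ((Subgroup.mem_centralizer_iff.1 g.2) σ rfl)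
    · exact (g : alternatingGroup (Fin m)).2
    · rw [Subgroup.mem_centralizer_iff]
      rintro y rfl
      exact Subtype.ext ((Subgroup.mem_centralizer_iff.1 (g : C).2) _ rfl)
  rw [he]
  omega

theorem card_centralizer_congr {A B : Type*} [Group A] [Group B] (e : A ≃* B) (x : A) :
    Nat.card (Subgroup.centralizer {e x}) = Nat.card (Subgroup.centralizer {x}) := by
  refine (Nat.card_congr (Equiv.subtypeEquiv e.toEquiv fun g => ?_)).symm
  change g ∈ Subgroup.centralizer {x} ↔ e g ∈ Subgroup.centralizer {e x}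
  rw [Subgroup.mem_centralizer_singleton_iff, Subgroup.mem_centralizer_singleton_iff, ← map_mul, ← map_mul,
    e.injective.eq_iff]

theorem factorial_eq {r : ℕ} (hr : r.Prime) (j : ℕ) (hj : j < r) :
    ∃ c, (r + j).factorial = r * c ∧ ¬ r ∣ c := by
  induction j with
  | zero =>
    refine ⟨(r - 1).factorial, ?_, ?_⟩
    · rw [add_zero, Nat.mul_factorial_pred hr.ne_zero]
    · rw [hr.dvd_factorial]
      have := hr.pos
      omega
  | succ j ih =>
    obtain ⟨c, hc, hc'⟩ := ih (by omega)
    refine ⟨(r + j + 1) * c, ?_, ?_⟩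
    · rw [← add_assoc, Nat.factorial_succ, hc]
      ring
    · rw [hr.dvd_mul]
      rintro (h | h)
      · have h1 : r ∣ j + 1 := by
          rw [add_assoc] at h
          exact (Nat.dvd_add_right (dvd_refl r)).1 h
        have := Nat.le_of_dvd (by omega) h1
        omega
      · exact hc' h

theorem not_sq_dvd_factorial {r m : ℕ} (hr : r.Prime) (hrm : r ≤ m) (hm : m < 2 * r) : ¬ r ^ 2 ∣ m.factorial := by
  obtain ⟨c, hc, hc'⟩ := factorial_eq hr (m - r) (by omega)
  rw [show r + (m - r) = m by omega] at hc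
  rw [hc, pow_two]
  intro h
  exact hc' (Nat.dvd_of_mul_dvd_mul_left hr.pos h)

theorem index_subgroupOf {G : Type*} [Group G] (N : Subgroup G) [N.Normal] (C' : Subgroup G) :
    (N.subgroupOf C').index = Nat.card (C'.map (QuotientGroup.mk' N)) := by
  have h := Subgroup.relIndex_ker C' (QuotientGroup.mk' N)
  rw [QuotientGroup.ker_mk'] at h
  exact h

theorem factorial_cases {a b : ℕ} (hab : a ≤ b) (hb : 5 ≤ b) (h : b.factorial ≤ 2 * a.factorial) : a = b := by
  by_contra hne
  have h1 : a ≤ b - 1 := by omega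
  have h2 : a.factorial ≤ (b - 1).factorial := Nat.factorial_le h1
  have h3 : b * (b - 1).factorial = b.factorial := Nat.mul_factorial_pred (by omega)
  have h4 : 5 * (b - 1).factorial ≤ b * (b - 1).factorial := Nat.mul_le_mul_right _ hb
  have h5 := Nat.factorial_pos a
  omega

theorem step {ε n r m : ℕ} (hε : ε = 0 ∨ ε = 2) {G : Type} [Group G] [Finite G] (hS : Spec ε n G) (hr : r.Prime) (hrn : r + 5 ≤ n) (hn : n < 2 * r)
    {N : Subgroup G} [N.Normal] (hrN : ¬ r ∣ Nat.card ↥N) (hmr : r + 3 ≤ m) (hmn : m ≤ n) (hT : Top m N)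
    (IH : ∀ (H : Type) [Group H] [Finite H], Spec ε (n - r) H → Std ε (n - r) H) :
    m = n ∧ Std ε n (G ⧸ N) ∧ ¬ r ^ 2 ∣ Nat.card G ∧ ∃ x : G, orderOf x = r ∧ ∀ y ∈ N, x * y = y * x → y = 1 := by
  have h2 : 2 < r := by omega
  have hcardQ : Nat.card (G ⧸ N) ∣ m.factorial := by
    rcases hT with ⟨⟨e⟩⟩ | ⟨⟨e⟩⟩
    · rw [Nat.card_congr e.toEquiv, ← two_mul_card_alt (by omega)]
      exact dvd_mul_left _ _
    · rw [Nat.card_congr e.toEquiv, Nat.card_perm, Nat.card_fin]
  have hsq : ¬ r ^ 2 ∣ Nat.card G := by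
    intro h
    rw [Subgroup.card_eq_card_quotient_mul_card_subgroup N] at h
    have hcop : (r ^ 2).Coprime (Nat.card N) := Nat.Coprime.pow_left 2 ((Nat.Prime.coprime_iff_not_dvd hr).2 hrN)
    exact not_sq_dvd_factorial hr (by omega) (by omega) ((hcop.dvd_of_dvd_mul_right h).trans hcardQ)
  obtain ⟨x, hx⟩ := exists_x hS hr h2 (by omega)
  obtain ⟨C', hdisj, hsup, hrC, hmem, hSC⟩ := exists_centralizer hS hr h2 (by omega) hn hsq x hx
  have hStd := IH C' hSC
  have hcC := hStd.card hε (by omega)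
  have hx' : orderOf (x : G ⧸ N) = r := orderOf_mk hr hrN hx
  have hcent := card_centralizer_of hx' (disjoint_mk hr hrN hx hrC) (centralizer_mk hr hsq hrN hx hsup)
  set c := Nat.card (C'.map (QuotientGroup.mk' N)) with hc
  have h6 : 6 ≤ (m - r).factorial := by
    have : (3 : ℕ).factorial ≤ (m - r).factorial := Nat.factorial_le (by omega)
    exact this
  have hcases : (2 * c = (m - r).factorial ∧ Nonempty ((G ⧸ N) ≃* alternatingGroup (Fin m))) ∨
      (c = (m - r).factorial ∧ Nonempty ((G ⧸ N) ≃* Equiv.Perm (Fin m))) := by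
    rcases hT with ⟨⟨e⟩⟩ | ⟨⟨e⟩⟩
    · refine Or.inl ⟨?_, ⟨e⟩⟩
      have h1 := card_centralizer_alt hr (by omega : m < 2 * r) (by omega) (e (x : G ⧸ N)) (by
        rw [← hx']; exact orderOf_injective e.toMonoidHom e.injective _)
      rw [card_centralizer_congr, hcent] at h1
      have h3 : r * (2 * c) = r * (m - r).factorial := by rw [← h1]; ring
      exact Nat.eq_of_mul_eq_mul_left hr.pos h3
    · refine Or.inr ⟨?_, ⟨e⟩⟩
      have h1 := card_centralizer_perm hr (by omega : m < 2 * r) (e (x : G ⧸ N)) (by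
        rw [← hx']; exact orderOf_injective e.toMonoidHom e.injective _)
      rw [card_centralizer_congr, hcent] at h1
      exact Nat.eq_of_mul_eq_mul_left hr.pos h1
  have hidx := index_subgroupOf N C'
  rw [← hc] at hidx
  have hbot : N.subgroupOf C' = ⊥ := by
    rcases hStd.normal hε (by omega) (N.subgroupOf C') with h | ⟨h, -⟩
    · exact h
    · exfalso
      rw [hidx] at h
      rcases hcases with ⟨h3, -⟩ | ⟨h3, -⟩ <;> omega
  rw [hbot, Subgroup.index_bot, hcC] at hidx
  have hev : 2 ∣ (n - r).factorial := Nat.dvd_factorial (by norm_num) (by omega)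
  have hkey : m = n ∧ Std ε n (G ⧸ N) := by
    rcases hε with rfl | rfl
    · rw [if_neg (by norm_num)] at hidx
      rcases hcases with ⟨h3, -⟩ | ⟨h3, he⟩
      · exfalso
        have : (m - r).factorial ≤ (n - r).factorial := Nat.factorial_le (by omega)
        omega
      · have h4 : m - r = n - r := factorial_cases (by omega) (by omega) (by omega)
        have h5 : m = n := by omega
        subst h5
        exact ⟨rfl, fun h => absurd h (by norm_num), fun _ => he⟩
    · rw [if_pos rfl] at hidx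
      rcases hcases with ⟨h3, he⟩ | ⟨h3, -⟩
      · have h4 : m - r = n - r := factorial_cases (by omega) (by omega) (by omega)
        have h5 : m = n := by omega
        subst h5
        exact ⟨rfl, fun _ => he, fun h => absurd h (by norm_num)⟩
      · exfalso
        have h4 : m - r = n - r := factorial_cases (by omega) (by omega) (by omega)
        rw [h4] at h3
        have := Nat.factorial_pos (n - r)
        omega
  refine ⟨hkey.1, hkey.2, hsq, x, hx, ?_⟩
  intro y hy hxy
  have hyC : y ∈ C' := (hmem y).2 ⟨hxy, fun h => hrN (h.trans (by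
    have := orderOf_dvd_natCard (⟨y, hy⟩ : N)
    rwa [← Subgroup.orderOf_coe] at this))⟩
  have h7 : (⟨y, hyC⟩ : C') ∈ N.subgroupOf C' := hy
  rw [hbot, Subgroup.mem_bot] at h7
  exact congrArg Subtype.val h7

theorem Std.congr {ε k : ℕ} {H H' : Type*} [Group H] [Group H'] (h : Std ε k H) (e : H ≃* H') : Std ε k H' :=
  ⟨fun he => (h.1 he).map fun f => e.symm.trans f, fun he => (h.2 he).map fun f => e.symm.trans f⟩

theorem centralizer_quotient {ε n r : ℕ} (hε : ε = 0 ∨ ε = 2) {G : Type} [Group G] [Finite G] (hS : Spec ε n G) (hr : r.Prime) (hrn : r + 5 ≤ n)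
    (hn : n < 2 * r) (hsq : ¬ r ^ 2 ∣ Nat.card G) {K : Subgroup G} [K.Normal] (hK : Group.IsSolvable ↥K) (hrK : ¬ r ∣ Nat.card ↥K)
    (IH : ∀ (H : Type) [Group H] [Finite H], Spec ε (n - r) H → Std ε (n - r) H) :
    (∃ x : G ⧸ K, orderOf x = r ∧ ∃ C' : Subgroup (G ⧸ K), Disjoint (Subgroup.zpowers x) C' ∧ Subgroup.centralizer {x} = Subgroup.zpowers x ⊔ C' ∧ Std ε (n - r) ↥C') ∧
    ∃ e k, e ∣ r - 1 ∧ Nat.card (G ⧸ K) = r * (if ε = 2 then (n - r).factorial / 2 else (n - r).factorial) * e * (1 + k * r) := by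
  have h2 : 2 < r := by omega
  obtain ⟨x, hx⟩ := exists_x hS hr h2 (by omega)
  obtain ⟨C', hdisj, hsup, hrC, hmem, hSC⟩ := exists_centralizer hS hr h2 (by omega) hn hsq x hx
  have hStd := IH C' hSC
  have hx' : orderOf (x : G ⧸ K) = r := orderOf_mk hr hrK hx
  have hdisj' := disjoint_mk hr hrK hx hrC
  have hsup' := centralizer_mk hr hsq hrK hx hsup
  have hcent := card_centralizer_of hx' hdisj' hsup'
  have hbot : K.subgroupOf C' = ⊥ := by
    rcases hStd.normal hε (by omega) (K.subgroupOf C') with h | ⟨-, h⟩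
    · exact h
    · exfalso
      apply h
      let f : K.subgroupOf C' →* K :=
        { toFun := fun g => ⟨((g : C') : G), g.2⟩
          map_one' := rfl
          map_mul' := fun _ _ => rfl }
      refine Group.isSolvable_of_isSolvable_injective (f := f) ?_
      intro a b hab
      apply Subtype.ext
      apply Subtype.ext
      exact congrArg (fun z : K => (z : G)) hab
  have hinj : Function.Injective ((QuotientGroup.mk' K).comp C'.subtype) := by
    rw [← MonoidHom.ker_eq_bot_iff, ← hbot]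
    ext g
    rw [MonoidHom.mem_ker, Subgroup.mem_subgroupOf]
    exact QuotientGroup.eq_one_iff _
  have hrange : ((QuotientGroup.mk' K).comp C'.subtype).range = C'.map (QuotientGroup.mk' K) := by
    rw [MonoidHom.range_comp, Subgroup.range_subtype]
  have hStd' : Std ε (n - r) (C'.map (QuotientGroup.mk' K)) :=
    hStd.congr ((MonoidHom.ofInjective hinj).trans (MulEquiv.subgroupCongr hrange))
  refine ⟨⟨(x : G ⧸ K), hx', C'.map (QuotientGroup.mk' K), hdisj', hsup', hStd'⟩, ?_⟩
  rw [hStd'.card hε (by omega)] at hcent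
  -- the Sylow count
  have : Fact r.Prime := ⟨hr⟩
  have hsqQ : ¬ r ^ 2 ∣ Nat.card (G ⧸ K) := fun h => hsq (h.trans (Subgroup.card_quotient_dvd_card K))
  have hdvd : r ∣ Nat.card (G ⧸ K) := hx' ▸ orderOf_dvd_natCard _
  have hfac : (Nat.card (G ⧸ K)).factorization r = 1 := by
    have h1 : 0 < (Nat.card (G ⧸ K)).factorization r := hr.factorization_pos_of_dvd Nat.card_pos.ne' hdvd
    have h2 : ¬ 2 ≤ (Nat.card (G ⧸ K)).factorization r := by
      intro h
      exact hsqQ ((hr.pow_dvd_iff_le_factorization Nat.card_pos.ne').2 h)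
    omega
  let P : Sylow r (G ⧸ K) := Sylow.ofCard (Subgroup.zpowers (x : G ⧸ K)) (by rw [Nat.card_zpowers, hx', hfac, pow_one])
  have hmod := card_sylow_modEq_one r (G ⧸ K)
  set Z := Subgroup.zpowers (x : G ⧸ K) with hZ
  have hcardP : Nat.card (Sylow r (G ⧸ K)) = Nat.card ((G ⧸ K) ⧸ Subgroup.normalizer (Z : Set (G ⧸ K))) :=
    P.card_eq_card_quotient_normalizer
  have hker := Subgroup.normalizerMonoidHom_ker Z
  have hcardker : Nat.card Z.normalizerMonoidHom.ker = Nat.card (Subgroup.centralizer {(x : G ⧸ K)}) := by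
    have hcz : Subgroup.centralizer (Z : Set (G ⧸ K)) = Subgroup.centralizer {(x : G ⧸ K)} := by
      rw [hZ, Subgroup.zpowers_eq_closure, Subgroup.centralizer_closure]
    rw [hker, hcz]
    have hle : Subgroup.centralizer {(x : G ⧸ K)} ≤ Subgroup.normalizer (Z : Set (G ⧸ K)) := by
      rw [← hcz]
      exact Subgroup.centralizer_le_normalizer _
    exact Nat.card_congr (Subgroup.subgroupOfEquivOfLe hle).toEquiv
  have hmul := Z.normalizerMonoidHom.ker.card_mul_index
  rw [hcardker, hcent, Subgroup.index_ker] at hmul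
  have hdvde : Nat.card Z.normalizerMonoidHom.range ∣ r - 1 := by
    have h1 := Subgroup.card_subgroup_dvd_card Z.normalizerMonoidHom.range
    rw [IsCyclic.card_mulAut, hZ, Nat.card_zpowers, hx', Nat.totient_prime hr] at h1
    exact h1
  have hk : ∃ k, Nat.card (Sylow r (G ⧸ K)) = 1 + k * r := by
    have h1 : 1 ≤ Nat.card (Sylow r (G ⧸ K)) := Nat.card_pos
    obtain ⟨k, hk⟩ := (Nat.modEq_iff_dvd' h1).1 hmod.symm
    exact ⟨k, by rw [mul_comm k r]; omega⟩
  obtain ⟨k, hk⟩ := hk
  refine ⟨_, k, hdvde, ?_⟩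
  rw [hmul, Subgroup.card_eq_card_quotient_mul_card_subgroup (Subgroup.normalizer (Z : Set (G ⧸ K))), ← hcardP, hk, mul_comm]

end Cfsg.Agent.H102.SpCent
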