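import Mathlib
import Cfsg.Agent.LieExceptional.SuzukiTori

/-!
# Solubilizers in doubly transitive groups in which non-identity elements fix at most two points

`G` acts doubly transitively on `Ω`, `|Ω| = n + 1` with `n` a power of two, non-identity elements have at
most two fixed points, the two-point stabilisers are abelian of odd order `d`, and the centralizers of the
fixed-point-free elements are abelian of odd order.  The solvable subgroups are the subgroups of the point
stabilisers and of the normalizers of the "tori" (centralizers of the elements of odd order).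
-/

set_option autoImplicit false
set_option linter.unusedSectionVars false
set_option linter.style.haveILetI false

namespace Cfsg.Agent.H102.RankOneSol

open MulAction

/-- The standing hypotheses. -/
structure Hyp (G Ω : Type*) [Group G] [MulAction G Ω] (n d : ℕ) : Prop where
  card_set : Nat.card Ω = n + 1
  pow_two : ∃ k, 1 ≤ k ∧ n = 2 ^ k
  odd_d : Odd d
  three : ∀ (g : G) (a b c : Ω), a ≠ b → a ≠ c → b ≠ c → g • a = a → g • b = b → g • c = c → g = 1
  trans : ∀ a b a' b' : Ω, a ≠ b → a' ≠ b' → ∃ g : G, g • a = a' ∧ g • b = b'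
  card_two : ∀ a b : Ω, a ≠ b → Nat.card (stabilizer G a ⊓ stabilizer G b : Subgroup G) = d
  comm_two : ∀ a b : Ω, a ≠ b → ∀ g h : G, g • a = a → g • b = b → h • a = a → h • b = b →
    g * h = h * g
  solv_one : ∀ a : Ω, Group.IsSolvable (stabilizer G a)
  odd_free : ∀ g : G, (∀ a : Ω, g • a ≠ a) → Odd (Nat.card (Subgroup.centralizer ({g} : Set G)))
  comm_free : ∀ g : G, (∀ a : Ω, g • a ≠ a) → ∀ x ∈ Subgroup.centralizer ({g} : Set G),
    ∀ y ∈ Subgroup.centralizer ({g} : Set G), x * y = y * x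

/-- A torus: it has odd order, is not trivial, and is the centralizer of each of its non-identity
elements. -/
structure IsT {G : Type*} [Group G] (T : Subgroup G) : Prop where
  ne_bot : ∃ t ∈ T, t ≠ 1
  odd : Odd (Nat.card T)
  cent : ∀ t ∈ T, t ≠ 1 → Subgroup.centralizer ({t} : Set G) = T

section basic

variable {G : Type*} [Group G]

theorem IsT.comm {T : Subgroup G} (h : IsT T) {s t : G} (hs : s ∈ T) (ht : t ∈ T) :
    s * t = t * s := by
  by_cases h1 : t = 1
  · rw [h1, mul_one, one_mul]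
  · have := h.cent t ht h1
    rw [← this, Subgroup.mem_centralizer_singleton_iff] at hs
    exact hs

theorem IsT.eq_of_mem {T T' : Subgroup G} (h : IsT T) (h' : IsT T') {t : G} (ht : t ∈ T)
    (ht' : t ∈ T') (h1 : t ≠ 1) : T = T' := by
  rw [← h.cent t ht h1, ← h'.cent t ht' h1]

theorem mem_centralizer_conj {t g x : G} :
    g * x * g⁻¹ ∈ Subgroup.centralizer ({g * t * g⁻¹} : Set G) ↔
      x ∈ Subgroup.centralizer ({t} : Set G) := by
  rw [Subgroup.mem_centralizer_singleton_iff, Subgroup.mem_centralizer_singleton_iff]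
  constructor
  · intro h
    have h1 : g * (x * t) * g⁻¹ = g * (t * x) * g⁻¹ := by
      calc g * (x * t) * g⁻¹ = g * x * g⁻¹ * (g * t * g⁻¹) := by group
        _ = g * t * g⁻¹ * (g * x * g⁻¹) := h
        _ = _ := by group
    exact mul_left_cancel (mul_right_cancel h1)
  · intro h
    calc g * x * g⁻¹ * (g * t * g⁻¹) = g * (x * t) * g⁻¹ := by group
      _ = g * (t * x) * g⁻¹ := by rw [h]
      _ = _ := by group

/-- An element conjugating one non-identity element of a torus into the torus normalizes it. -/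
theorem IsT.mem_normalizer {T : Subgroup G} (h : IsT T) {t g : G} (ht : t ∈ T) (h1 : t ≠ 1)
    (hg : g * t * g⁻¹ ∈ T) : g ∈ Subgroup.normalizer (T : Set G) := by
  have h2 : g * t * g⁻¹ ≠ 1 := by
    intro h3
    exact h1 (conj_eq_one_iff.mp h3)
  rw [Subgroup.mem_normalizer_iff]
  intro x
  have h3 := mem_centralizer_conj (t := t) (g := g) (x := x)
  rw [h.cent t ht h1, h.cent _ hg h2] at h3
  exact h3.symm

theorem mem_normalizer_centralizer_iff_conj {t g x : G} :
    g * x * g⁻¹ ∈ Subgroup.normalizer ((Subgroup.centralizer ({g * t * g⁻¹} : Set G) : Subgroup G) : Set G) ↔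
      x ∈ Subgroup.normalizer ((Subgroup.centralizer ({t} : Set G) : Subgroup G) : Set G) := by
  have key : ∀ (t g x : G), x ∈ Subgroup.normalizer ((Subgroup.centralizer ({t} : Set G) : Subgroup G) : Set G) →
    g * x * g⁻¹ ∈ Subgroup.normalizer ((Subgroup.centralizer ({g * t * g⁻¹} : Set G) : Subgroup G) : Set G) := by
    intro t g x hx
    rw [Subgroup.mem_normalizer_iff] at hx ⊢
    intro y
    have h1 := hx (g⁻¹ * y * g)
    have h2 := mem_centralizer_conj (t := t) (g := g) (x := g⁻¹ * y * g)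
    have h3 := mem_centralizer_conj (t := t) (g := g) (x := x * (g⁻¹ * y * g) * x⁻¹)
    have e1 : g * (g⁻¹ * y * g) * g⁻¹ = y := by group
    have e2 : g * (x * (g⁻¹ * y * g) * x⁻¹) * g⁻¹ = g * x * g⁻¹ * y * (g * x * g⁻¹)⁻¹ := by group
    rw [e1] at h2
    rw [e2] at h3
    rw [h2, h3]
    exact h1
  refine ⟨fun h => ?_, key t g x⟩
  have h1 := key (g * t * g⁻¹) g⁻¹ (g * x * g⁻¹) h
  have e1 : g⁻¹ * (g * t * g⁻¹) * g⁻¹⁻¹ = t := by group
  have e2 : g⁻¹ * (g * x * g⁻¹) * g⁻¹⁻¹ = x := by group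
  rwa [e1, e2] at h1

/-- In a normalizer `N(T)` with `|N(T)| = 2 ^ e * |T|` the elements of odd order are in `T`. -/
theorem IsT.mem_of_odd [Finite G] {T : Subgroup G} {e : ℕ}
    (hN : Nat.card (Subgroup.normalizer (T : Set G)) = 2 ^ e * Nat.card T) {x : G}
    (hx : x ∈ Subgroup.normalizer (T : Set G)) (ho : Odd (orderOf x)) : x ∈ T := by
  have hidx : (T.subgroupOf (Subgroup.normalizer (T : Set G))).index = 2 ^ e := by
    have h1 := Subgroup.card_mul_index (T.subgroupOf (Subgroup.normalizer (T : Set G)))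
    rw [Nat.card_congr (Subgroup.subgroupOfEquivOfLe Subgroup.le_normalizer).toEquiv, hN] at h1
    have hpos : 0 < Nat.card T := Nat.card_pos
    apply Nat.eq_of_mul_eq_mul_left hpos
    rw [h1, mul_comm]
  have h1 : (⟨x, hx⟩ : Subgroup.normalizer (T : Set G)) ^ 2 ^ e ∈
      T.subgroupOf (Subgroup.normalizer (T : Set G)) := by
    rw [← hidx]
    exact Subgroup.pow_index_mem _ _
  have h2 : x ^ 2 ^ e ∈ T := h1
  have hcop : Nat.Coprime (orderOf x) (2 ^ e) := by
    apply Nat.Coprime.pow_right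
    exact Nat.coprime_two_right.mpr ho
  obtain ⟨k, hk⟩ := exists_pow_eq_self_of_coprime hcop.symm
  rw [← hk]
  exact pow_mem h2 k

/-- A non-trivial solvable group has a non-trivial abelian normal subgroup. -/
theorem exists_normal_abelian {K : Type*} [Group K] (hs : Group.IsSolvable K) (hK : Nontrivial K) :
    ∃ A : Subgroup K, A.Normal ∧ (∃ x ∈ A, x ≠ 1) ∧ ∀ x ∈ A, ∀ y ∈ A, x * y = y * x := by
  classical
  obtain ⟨h⟩ := hs
  have h0 : Nat.find h ≠ 0 := by
    intro h0
    have h1 := Nat.find_spec h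
    rw [h0, derivedSeries_zero] at h1
    exact top_ne_bot h1
  obtain ⟨k, hk⟩ := Nat.exists_eq_succ_of_ne_zero h0
  refine ⟨derivedSeries K k, derivedSeries_normal K k, ?_, ?_⟩
  · by_contra hcon
    push Not at hcon
    have h1 : derivedSeries K k = ⊥ := (Subgroup.eq_bot_iff_forall _).2 hcon
    exact Nat.find_min h (by omega) h1
  · intro x hx y hy
    have h1 : ⁅derivedSeries K k, derivedSeries K k⁆ = ⊥ := by
      rw [← derivedSeries_succ]
      have := Nat.find_spec h
      rwa [hk] at this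
    rw [Subgroup.commutator_eq_bot_iff_le_centralizer] at h1
    exact (Subgroup.mem_centralizer_iff.1 (h1 hx) y hy).symm

/-- The normalizer of a torus is solvable if its index is a power of two. -/
theorem IsT.isSolvable_normalizer [Finite G] {T : Subgroup G} (h : IsT T) {e : ℕ}
    (hN : Nat.card (Subgroup.normalizer (T : Set G)) = 2 ^ e * Nat.card T) :
    Group.IsSolvable (Subgroup.normalizer (T : Set G)) := by
  haveI : Fact (Nat.Prime 2) := ⟨Nat.prime_two⟩
  have hidx : (T.subgroupOf (Subgroup.normalizer (T : Set G))).index = 2 ^ e := by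
    have h1 := Subgroup.card_mul_index (T.subgroupOf (Subgroup.normalizer (T : Set G)))
    rw [Nat.card_congr (Subgroup.subgroupOfEquivOfLe Subgroup.le_normalizer).toEquiv, hN] at h1
    have hpos : 0 < Nat.card T := Nat.card_pos
    apply Nat.eq_of_mul_eq_mul_left hpos
    rw [h1, mul_comm]
  rw [Group.isSolvable_iff_subgroup_quotient (T.subgroupOf (Subgroup.normalizer (T : Set G)))]
  constructor
  · apply Group.isSolvable_of_comm
    rintro ⟨⟨x, hx⟩, hxT⟩ ⟨⟨y, hy⟩, hyT⟩
    apply Subtype.ext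
    apply Subtype.ext
    exact h.comm hxT hyT
  · have hP : IsPGroup 2 (Subgroup.normalizer (T : Set G) ⧸
        T.subgroupOf (Subgroup.normalizer (T : Set G))) := IsPGroup.of_card (n := e) hidx
    haveI := hP.isNilpotent
    infer_instance

theorem IsT.odd_orderOf {T : Subgroup G} (h : IsT T) {t : G} (ht : t ∈ T) : Odd (orderOf t) := by
  have h2 := orderOf_dvd_natCard (⟨t, ht⟩ : T)
  rw [Subgroup.orderOf_mk] at h2
  exact Odd.of_dvd_nat h.odd h2

/-- An involution normalizing a torus inverts it. -/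
theorem IsT.inverts {T : Subgroup G} (h : IsT T) {z : G}
    (hz : z ∈ Subgroup.normalizer (T : Set G)) (hz2 : orderOf z = 2) {t : G} (ht : t ∈ T) :
    z * t * z⁻¹ = t⁻¹ := by
  have hzz : z * z = 1 := by
    have := pow_orderOf_eq_one z
    rwa [hz2, sq] at this
  have hzi : z⁻¹ = z := inv_eq_of_mul_eq_one_left hzz
  have h1 : z * t * z⁻¹ ∈ T := (Subgroup.mem_normalizer_iff.1 hz t).1 ht
  by_contra hne
  have hs : z * t * z⁻¹ * t ≠ 1 := fun h2 => hne (eq_inv_of_mul_eq_one_left h2)
  have hsT : z * t * z⁻¹ * t ∈ T := mul_mem h1 ht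
  have hc : z ∈ Subgroup.centralizer ({z * t * z⁻¹ * t} : Set G) := by
    rw [Subgroup.mem_centralizer_singleton_iff]
    have h3 := h.comm h1 ht
    rw [hzi] at h3 ⊢
    calc z * (z * t * z * t) = (z * z) * t * z * t := by group
      _ = t * (z * t * z) * z := by
        rw [hzz, one_mul]
        calc t * z * t = t * z * t * (z * z) := by rw [hzz, mul_one]
          _ = _ := by group
      _ = z * t * z * t * z := by rw [h3]
  rw [h.cent _ hsT hs] at hc
  have h4 := h.odd_orderOf hc
  rw [hz2] at h4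
  exact absurd h4 (by decide)

/-- The involutions normalizing a torus `T`: there are `|T|` of them. -/
theorem IsT.card_involutions [Finite G] {T : Subgroup G} (h : IsT T) {e : ℕ} (he : 1 ≤ e)
    (hN : Nat.card (Subgroup.normalizer (T : Set G)) = 2 ^ e * Nat.card T) :
    Nat.card {x : G // x ∈ Subgroup.normalizer (T : Set G) ∧ orderOf x = 2} = Nat.card T := by
  haveI : Fact (Nat.Prime 2) := ⟨Nat.prime_two⟩
  have hdvd : 2 ∣ Nat.card (Subgroup.normalizer (T : Set G)) := by
    rw [hN]
    exact Dvd.dvd.mul_right (dvd_pow_self 2 (by omega)) _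
  obtain ⟨⟨z, hzN⟩, hz⟩ := exists_prime_orderOf_dvd_card' 2 hdvd
  rw [Subgroup.orderOf_mk] at hz
  have hzz : z * z = 1 := by
    have := pow_orderOf_eq_one z
    rwa [hz, sq] at this
  have hzi : z⁻¹ = z := inv_eq_of_mul_eq_one_left hzz
  have hzT : z ∉ T := by
    intro hzT
    have h4 := h.odd_orderOf hzT
    rw [hz] at h4
    exact absurd h4 (by decide)
  have hmul : ∀ c ∈ T, orderOf (c * z) = 2 := by
    intro c hc
    apply orderOf_eq_prime
    · have h1 := h.inverts hzN hz hc
      rw [sq]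
      calc c * z * (c * z) = c * (z * c * z⁻¹) * (z * z) := by group
        _ = 1 := by rw [h1, hzz]; group
    · intro h1
      apply hzT
      have h2 : z = c⁻¹ := eq_inv_of_mul_eq_one_right h1
      rw [h2]
      exact inv_mem hc
  symm
  let f : T → {x : G // x ∈ Subgroup.normalizer (T : Set G) ∧ orderOf x = 2} := fun c =>
    ⟨c * z, mul_mem (Subgroup.le_normalizer c.2) hzN, hmul c c.2⟩
  apply Nat.card_congr (Equiv.ofBijective f ⟨?_, ?_⟩)
  · intro c c' hcc
    have h1 : (c : G) * z = c' * z := congrArg Subtype.val hcc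
    exact Subtype.ext (mul_right_cancel h1)
  · rintro ⟨w, hwN, hw⟩
    have hwz : w * z ∈ T := by
      obtain ⟨t, ht, ht1⟩ := h.ne_bot
      rw [← h.cent t ht ht1, Subgroup.mem_centralizer_singleton_iff]
      have e1 := h.inverts hzN hz ht
      have e2 := h.inverts hwN hw (inv_mem ht)
      rw [inv_inv] at e2
      have e3 : w * z * t * z⁻¹ * w⁻¹ = t := by
        calc w * z * t * z⁻¹ * w⁻¹ = w * (z * t * z⁻¹) * w⁻¹ := by group
          _ = t := by rw [e1, e2]
      calc w * z * t = (w * z * t * z⁻¹ * w⁻¹) * (w * z) := by group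
        _ = t * (w * z) := by rw [e3]
    refine ⟨⟨w * z, hwz⟩, ?_⟩
    apply Subtype.ext
    show w * z * z = w
    rw [mul_assoc, hzz, mul_one]

/-- The elements of order four normalizing a torus of index four in its normalizer. -/
theorem IsT.card_order_four [Finite G] {T : Subgroup G} (h : IsT T)
    (hN : Nat.card (Subgroup.normalizer (T : Set G)) = 2 ^ 2 * Nat.card T) :
    Nat.card {x : G // x ∈ Subgroup.normalizer (T : Set G) ∧ orderOf x = 4} = 2 * Nat.card T := by
  classical
  haveI := Fintype.ofFinite G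
  have hinv := h.card_involutions (by norm_num) hN
  have hidx : (T.subgroupOf (Subgroup.normalizer (T : Set G))).index = 4 := by
    have h1 := Subgroup.card_mul_index (T.subgroupOf (Subgroup.normalizer (T : Set G)))
    rw [Nat.card_congr (Subgroup.subgroupOfEquivOfLe Subgroup.le_normalizer).toEquiv, hN] at h1
    have hpos : 0 < Nat.card T := Nat.card_pos
    apply Nat.eq_of_mul_eq_mul_left hpos
    rw [h1]
    ring
  have hord : ∀ x ∈ Subgroup.normalizer (T : Set G), x ∉ T → orderOf x = 2 ∨ orderOf x = 4 := by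
    intro x hx hxT
    have h1 : (⟨x, hx⟩ : Subgroup.normalizer (T : Set G)) ^ 4 ∈
        T.subgroupOf (Subgroup.normalizer (T : Set G)) := by
      rw [← hidx]
      exact Subgroup.pow_index_mem _ _
    have h2 : x ^ 4 ∈ T := h1
    have h3 : x ^ 4 = 1 := by
      by_contra h3
      apply hxT
      rw [← h.cent _ h2 h3, Subgroup.mem_centralizer_singleton_iff]
      exact (pow_succ' x 4).symm.trans (pow_succ x 4)
    have h4 := orderOf_dvd_of_pow_eq_one h3
    have h5 : orderOf x ≠ 1 := by
      intro h5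
      rw [orderOf_eq_one_iff] at h5
      exact hxT (h5 ▸ one_mem T)
    have h6 : orderOf x ∣ 2 ^ 2 := h4
    rw [Nat.dvd_prime_pow Nat.prime_two] at h6
    obtain ⟨k, hk, hk'⟩ := h6
    interval_cases k
    · exact absurd hk' h5
    · exact Or.inl hk'
    · exact Or.inr hk'
  have hT2 : ∀ x ∈ T, orderOf x ≠ 2 ∧ orderOf x ≠ 4 := by
    intro x hx
    have := h.odd_orderOf hx
    constructor
    · intro h1; rw [h1] at this; exact absurd this (by decide)
    · intro h1; rw [h1] at this; exact absurd this (by decide)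
  rw [Nat.card_eq_fintype_card, Fintype.card_subtype] at hinv ⊢
  have hNc : Nat.card (Subgroup.normalizer (T : Set G)) =
      (Finset.univ.filter (fun x => x ∈ Subgroup.normalizer (T : Set G))).card := by
    rw [Nat.card_eq_fintype_card, Fintype.card_subtype]
  have hTc : Nat.card T = (Finset.univ.filter (fun x => x ∈ T)).card := by
    rw [Nat.card_eq_fintype_card, Fintype.card_subtype]
  have hsplit : (Finset.univ.filter (fun x => x ∈ Subgroup.normalizer (T : Set G))) =
      (Finset.univ.filter (fun x => x ∈ T)) ∪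
      ((Finset.univ.filter (fun x => x ∈ Subgroup.normalizer (T : Set G) ∧ orderOf x = 2)) ∪
      (Finset.univ.filter (fun x => x ∈ Subgroup.normalizer (T : Set G) ∧ orderOf x = 4))) := by
    ext x
    simp only [Finset.mem_filter, Finset.mem_univ, true_and, Finset.mem_union]
    constructor
    · intro hx
      by_cases hxT : x ∈ T
      · exact Or.inl hxT
      · rcases hord x hx hxT with h1 | h1
        · exact Or.inr (Or.inl ⟨hx, h1⟩)
        · exact Or.inr (Or.inr ⟨hx, h1⟩)
    · rintro (h1 | h1 | h1)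
      · exact Subgroup.le_normalizer h1
      · exact h1.1
      · exact h1.1
  have hd1 : Disjoint (Finset.univ.filter (fun x => x ∈ Subgroup.normalizer (T : Set G) ∧ orderOf x = 2))
      (Finset.univ.filter (fun x => x ∈ Subgroup.normalizer (T : Set G) ∧ orderOf x = 4)) := by
    rw [Finset.disjoint_filter]
    rintro x - ⟨-, h1⟩ ⟨-, h2⟩
    rw [h1] at h2
    exact absurd h2 (by decide)
  have hd2 : Disjoint (Finset.univ.filter (fun x => x ∈ T))
      ((Finset.univ.filter (fun x => x ∈ Subgroup.normalizer (T : Set G) ∧ orderOf x = 2)) ∪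
      (Finset.univ.filter (fun x => x ∈ Subgroup.normalizer (T : Set G) ∧ orderOf x = 4))) := by
    rw [Finset.disjoint_left]
    intro x hx hx'
    simp only [Finset.mem_filter, Finset.mem_univ, true_and, Finset.mem_union] at hx hx'
    rcases hx' with h1 | h1
    · exact (hT2 x hx).1 h1.2
    · exact (hT2 x hx).2 h1.2
  have hsum := congrArg Finset.card hsplit
  rw [Finset.card_union_of_disjoint hd2, Finset.card_union_of_disjoint hd1, ← hNc, ← hTc, hN, hinv] at hsum
  omega

end basic


/-- `g` fixes no point -/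
def Free (Ω : Type*) {G : Type*} [Group G] [MulAction G Ω] (g : G) : Prop := ∀ a : Ω, g • a ≠ a

/-- `g` fixes exactly the point `a` -/
def Fix1 {G Ω : Type*} [Group G] [MulAction G Ω] (g : G) (a : Ω) : Prop := ∀ x : Ω, g • x = x ↔ x = a

/-- `g` fixes exactly the points `a`, `b` -/
def Fix2 {G Ω : Type*} [Group G] [MulAction G Ω] (g : G) (a b : Ω) : Prop :=
  ∀ x : Ω, g • x = x ↔ x = a ∨ x = b

namespace Hyp

variable {G Ω : Type*} [Group G] [Finite G] [MulAction G Ω] [Finite Ω] {n d : ℕ}
variable (H : Hyp G Ω n d)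

include H

omit [Finite G] [Finite Ω] in
theorem fix_cases {g : G} (hg : g ≠ 1) :
    Free Ω g ∨ (∃ a : Ω, Fix1 g a) ∨ (∃ a b : Ω, a ≠ b ∧ Fix2 g a b) := by
  by_cases hf : Free Ω g
  · exact Or.inl hf
  · right
    unfold Free at hf
    push Not at hf
    obtain ⟨a, ha⟩ := hf
    by_cases h1 : ∀ x : Ω, g • x = x → x = a
    · exact Or.inl ⟨a, fun x => ⟨h1 x, fun h => h ▸ ha⟩⟩
    · push Not at h1
      obtain ⟨b, hb, hba⟩ := h1
      refine Or.inr ⟨a, b, Ne.symm hba, fun x => ⟨fun hx => ?_, ?_⟩⟩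
      · by_contra hcon
        push Not at hcon
        exact hg (H.three g a b x (Ne.symm hba) (Ne.symm hcon.1) (Ne.symm hcon.2) ha hb hx)
      · rintro (rfl | rfl)
        · exact ha
        · exact hb

omit [Finite G] [Finite Ω] in
theorem odd_set : Odd (Nat.card Ω) := by
  obtain ⟨k, hk, rfl⟩ := H.pow_two
  rw [H.card_set]
  exact Even.add_one ((Nat.even_pow.2 ⟨even_two, by omega⟩))

omit [Finite G] [Finite Ω] in
/-- two-point stabilisers have odd order -/
theorem orderOf_dvd_d {g : G} {a b : Ω} (hab : a ≠ b) (ha : g • a = a) (hb : g • b = b) :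
    orderOf g ∣ d := by
  rw [← H.card_two a b hab]
  have hmem : g ∈ (stabilizer G a ⊓ stabilizer G b : Subgroup G) := ⟨ha, hb⟩
  have := orderOf_dvd_natCard (⟨g, hmem⟩ : (stabilizer G a ⊓ stabilizer G b : Subgroup G))
  rwa [Subgroup.orderOf_mk] at this

omit [Finite G] [Finite Ω] in
theorem odd_of_two {g : G} {a b : Ω} (hab : a ≠ b) (ha : g • a = a) (hb : g • b = b) :
    Odd (orderOf g) :=
  Odd.of_dvd_nat H.odd_d (H.orderOf_dvd_d hab ha hb)

/-- A 2-subgroup fixes a point. -/
theorem exists_fixed_of_isPGroup (P : Subgroup G) (hP : IsPGroup 2 P) :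
    ∃ a : Ω, ∀ x ∈ P, x • a = a := by
  haveI : Fact (Nat.Prime 2) := ⟨Nat.prime_two⟩
  have h1 : ¬ 2 ∣ Nat.card Ω := by
    have := H.odd_set
    rwa [← Nat.not_even_iff_odd, even_iff_two_dvd] at this
  obtain ⟨a, ha⟩ := hP.nonempty_fixed_point_of_prime_not_dvd_card Ω h1
  exact ⟨a, fun x hx => ha ⟨x, hx⟩⟩

/-- A 2-subgroup containing an element whose only fixed point is `a` fixes `a`. -/
theorem fixes_of_isPGroup {P : Subgroup G} (hP : IsPGroup 2 P) {x : G} (hx : x ∈ P) {a : Ω}
    (ha : Fix1 x a) : ∀ y ∈ P, y • a = a := by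
  obtain ⟨b, hb⟩ := H.exists_fixed_of_isPGroup P hP
  have : b = a := (ha b).1 (hb x hx)
  rw [← this]
  exact hb

/-- A non-identity 2-element has exactly one fixed point. -/
theorem fix1_of_pow {x : G} (hx : x ≠ 1) {k : ℕ} (hk : x ^ 2 ^ k = 1) : ∃ a : Ω, Fix1 x a := by
  haveI : Fact (Nat.Prime 2) := ⟨Nat.prime_two⟩
  have hP : IsPGroup 2 (Subgroup.zpowers x) := by
    obtain ⟨j, -, hj⟩ := (Nat.dvd_prime_pow Nat.prime_two).1 (orderOf_dvd_of_pow_eq_one hk)
    apply IsPGroup.of_card (n := j)
    rw [Nat.card_zpowers, hj]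
  obtain ⟨a, ha⟩ := H.exists_fixed_of_isPGroup _ hP
  have hxa : x • a = a := ha x (Subgroup.mem_zpowers x)
  refine ⟨a, fun b => ⟨fun hb => ?_, fun h => h ▸ hxa⟩⟩
  by_contra hne
  have hodd := H.odd_of_two (Ne.symm hne) hxa hb
  apply hx
  have hcop : Nat.Coprime (orderOf x) (2 ^ k) := by
    apply Nat.Coprime.pow_right
    exact Nat.coprime_two_right.mpr hodd
  have := Nat.dvd_gcd (dvd_refl _) (orderOf_dvd_of_pow_eq_one hk)
  rw [hcop] at this
  exact orderOf_eq_one_iff.1 (Nat.dvd_one.1 this)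

/-- an element of odd order commuting with `h`, whose fixed points are `a`, `b`, fixes `a` -/
theorem fix_of_commute_two {g h : G} (hgh : g * h = h * g) (hg : Odd (orderOf g)) {a b : Ω}
    (hh : Fix2 h a b) : g • a = a ∧ g • b = b := by
  have hmove : ∀ x : Ω, h • x = x → h • (g • x) = g • x := by
    intro x hx
    rw [← mul_smul, ← hgh, mul_smul, hx]
  have hsq : ∀ x : Ω, (g ^ 2) • x = x → g • x = x := by
    intro x hx
    obtain ⟨k, hk⟩ := hg
    have h1 : g = (g ^ 2) ^ (k + 1) := by
      rw [← pow_mul]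
      have : 2 * (k + 1) = orderOf g + 1 := by omega
      rw [this, pow_succ, pow_orderOf_eq_one, one_mul]
    have hs : g ^ 2 ∈ stabilizer G x := hx
    have h4 : (g ^ 2) ^ (k + 1) ∈ stabilizer G x := pow_mem hs _
    rw [← h1] at h4
    exact h4
  have hga := (hh (g • a)).1 (hmove a ((hh a).2 (Or.inl rfl)))
  have hgb := (hh (g • b)).1 (hmove b ((hh b).2 (Or.inr rfl)))
  constructor
  · rcases hga with h1 | h1
    · exact h1
    · apply hsq
      rw [sq, mul_smul, h1]
      rcases hgb with h2 | h2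
      · exact h2
      · exact (smul_left_cancel g (h1.trans h2.symm)).symm ▸ h2
  · rcases hgb with h1 | h1
    · apply hsq
      rw [sq, mul_smul, h1]
      rcases hga with h2 | h2
      · exact (smul_left_cancel g (h1.trans h2.symm)).symm ▸ h2
      · exact h2
    · exact h1

/-- an element with exactly one fixed point has order a power of two -/
theorem exists_pow_of_fix1 {x : G} {a : Ω} (ha : Fix1 x a) : ∃ k, x ^ 2 ^ k = 1 := by
  classical
  by_contra hcon
  push Not at hcon
  -- an odd prime divisor of the order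
  obtain ⟨p, hp, hp2, hpx⟩ : ∃ p : ℕ, p.Prime ∧ p ≠ 2 ∧ p ∣ orderOf x := by
    by_contra hno
    push Not at hno
    have h1 : ∀ p : ℕ, p.Prime → p ∣ orderOf x → p = 2 := by
      intro p hp hpx
      by_contra h2
      exact hno p hp h2 hpx
    have h2 := Nat.eq_prime_pow_of_unique_prime_dvd (orderOf_pos x).ne' (fun {d} hd hdx => h1 d hd hdx)
    apply hcon (orderOf x).primeFactorsList.length
    rw [← h2]
    exact pow_orderOf_eq_one x
  obtain ⟨k, hk⟩ := hpx
  have hpos : 0 < orderOf x := orderOf_pos x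
  have hk0 : k ≠ 0 := by rintro rfl; omega
  set h := x ^ k with hh
  have hord : orderOf h = p := by
    rw [hh, orderOf_pow_of_dvd hk0 ⟨p, by rw [hk, mul_comm]⟩, hk,
      Nat.mul_div_cancel _ (Nat.pos_of_ne_zero hk0)]
  have hh1 : h ≠ 1 := by
    intro h1
    rw [h1, orderOf_one] at hord
    exact hp.one_lt.ne hord
  have hha : h • a = a := by
    have h1 : x ∈ stabilizer G a := (ha a).2 rfl
    exact pow_mem h1 k
  have hcomm : x * h = h * x := by
    rw [hh]
    exact (pow_succ' x k).symm.trans (pow_succ x k)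
  haveI : Fact p.Prime := ⟨hp⟩
  -- `h` does not fix exactly one point
  have hP : IsPGroup p (Subgroup.zpowers h) := by
    apply IsPGroup.of_card (n := 1)
    rw [Nat.card_zpowers, hord, pow_one]
  have hmod := hP.card_modEq_card_fixedPoints Ω
  have hone : ¬ ∀ b : Ω, h • b = b → b = a := by
    intro hone
    have hfp : fixedPoints (Subgroup.zpowers h) Ω = {a} := by
      ext b
      rw [Set.mem_singleton_iff, mem_fixedPoints]
      constructor
      · intro hb
        exact hone b (hb ⟨h, Subgroup.mem_zpowers h⟩)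
      · rintro rfl ⟨y, hy⟩
        obtain ⟨j, rfl⟩ := hy
        have h1 : h ∈ stabilizer G b := hha
        exact zpow_mem h1 j
    rw [hfp, H.card_set, Nat.card_unique] at hmod
    have h1 : n ≡ 0 [MOD p] := Nat.ModEq.add_right_cancel' 1 hmod
    obtain ⟨j, -, hj⟩ := H.pow_two
    rw [Nat.modEq_zero_iff_dvd, hj] at h1
    exact hp2 ((Nat.prime_dvd_prime_iff_eq hp Nat.prime_two).1 (hp.dvd_of_dvd_pow h1))
  push Not at hone
  obtain ⟨b, hb, hba⟩ := hone
  -- so `x` permutes `{a, b}`
  have h1 : h • (x • b) = x • b := by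
    rw [← mul_smul, ← hcomm, mul_smul, hb]
  have hxa : x • a = a := (ha a).2 rfl
  have h2 : x • b ≠ a := by
    intro h3
    apply hba
    rw [← hxa] at h3
    exact smul_left_cancel x h3
  have h3 : x • b ≠ b := fun h4 => hba ((ha b).1 h4)
  exact hh1 (H.three h a b (x • b) (Ne.symm hba) (Ne.symm h2) (Ne.symm h3) hha hb h1)

/-! ### Tori -/

/-- The centralizer of a fixed-point-free element is a torus, all of whose non-identity elements
are fixed-point-free. -/
theorem free_of_mem {g : G} (hg : Free Ω g) {t : G} (ht : t ∈ Subgroup.centralizer ({g} : Set G))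
    (h1 : t ≠ 1) : Free Ω t := by
  have hgodd : Odd (orderOf g) := by
    have hmem : g ∈ Subgroup.centralizer ({g} : Set G) :=
      Subgroup.mem_centralizer_singleton_iff.2 rfl
    have h2 := orderOf_dvd_natCard (⟨g, hmem⟩ : Subgroup.centralizer ({g} : Set G))
    rw [Subgroup.orderOf_mk] at h2
    exact Odd.of_dvd_nat (H.odd_free g hg) h2
  have hgt : g * t = t * g := (Subgroup.mem_centralizer_singleton_iff.1 ht).symm
  rcases H.fix_cases h1 with h | ⟨a, ha⟩ | ⟨a, b, -, hab⟩
  · exact h
  · exfalso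
    apply hg a
    apply (ha _).1
    rw [← mul_smul, ← hgt, mul_smul, (ha a).2 rfl]
  · exfalso
    exact hg a (H.fix_of_commute_two hgt hgodd hab).1

theorem isT_free {g : G} (hg : Free Ω g) : IsT (Subgroup.centralizer ({g} : Set G)) where
  ne_bot := by
    refine ⟨g, Subgroup.mem_centralizer_singleton_iff.2 rfl, ?_⟩
    rintro rfl
    have h1 : 0 < Nat.card Ω := by rw [H.card_set]; omega
    obtain ⟨a⟩ := (Nat.card_pos_iff.1 h1).1
    exact hg a (one_smul _ _)
  odd := H.odd_free g hg
  cent := by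
    intro t ht h1
    have hf := H.free_of_mem hg ht h1
    have hgt : g ∈ Subgroup.centralizer ({t} : Set G) := by
      rw [Subgroup.mem_centralizer_singleton_iff] at ht ⊢
      exact ht.symm
    apply le_antisymm
    · intro x hx
      rw [Subgroup.mem_centralizer_singleton_iff]
      exact H.comm_free t hf x hx g hgt
    · intro x hx
      rw [Subgroup.mem_centralizer_singleton_iff]
      exact H.comm_free g hg x hx t ht

/-- an element of the two-point stabiliser of `a`, `b` fixes only `a`, `b` -/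
theorem fix2_of_mem {a b : Ω} (hab : a ≠ b) {t : G} (ha : t • a = a) (hb : t • b = b)
    (h1 : t ≠ 1) : Fix2 t a b := by
  intro x
  constructor
  · intro hx
    by_contra hcon
    push Not at hcon
    exact h1 (H.three t a b x hab (Ne.symm hcon.1) (Ne.symm hcon.2) ha hb hx)
  · rintro (rfl | rfl)
    · exact ha
    · exact hb

theorem centralizer_two {a b : Ω} (hab : a ≠ b) {t : G} (ha : t • a = a) (hb : t • b = b)
    (h1 : t ≠ 1) :
    Subgroup.centralizer ({t} : Set G) = (stabilizer G a ⊓ stabilizer G b : Subgroup G) := by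
  have hfix := H.fix2_of_mem hab ha hb h1
  apply le_antisymm
  · intro c hc
    rw [Subgroup.mem_centralizer_singleton_iff] at hc
    have hmove : ∀ x : Ω, t • x = x → t • (c • x) = c • x := by
      intro x hx
      rw [← mul_smul, ← hc, mul_smul, hx]
    have hca := (hfix _).1 (hmove a ha)
    have hcb := (hfix _).1 (hmove b hb)
    by_cases h2 : c • a = a
    · refine ⟨h2, ?_⟩
      rcases hcb with h3 | h3
      · exfalso
        exact hab (smul_left_cancel c (h2.trans h3.symm))
      · exact h3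
    · exfalso
      have h3 : c • a = b := hca.resolve_left h2
      have h4 : c • b = a := by
        rcases hcb with h4 | h4
        · exact h4
        · exfalso
          apply hab
          rw [← h4] at h3
          exact smul_left_cancel c h3
      -- a power of `c` of 2-power order swaps `a` and `b`
      obtain ⟨k, m, hm, hkm⟩ := Nat.exists_eq_two_pow_mul_odd (orderOf_pos c).ne'
      set c' := c ^ m with hc'
      have hswap : ∀ j : ℕ, Odd j → (c ^ j) • a = b ∧ (c ^ j) • b = a := by
        rintro j ⟨i, rfl⟩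
        have hs : (c ^ 2) • a = a ∧ (c ^ 2) • b = b := by
          rw [sq, mul_smul, mul_smul, h3, h4, h3]
          exact ⟨rfl, rfl⟩
        have e1 : (c ^ 2) ^ i ∈ stabilizer G a := pow_mem (show c ^ 2 ∈ stabilizer G a from hs.1) i
        have e2 : (c ^ 2) ^ i ∈ stabilizer G b := pow_mem (show c ^ 2 ∈ stabilizer G b from hs.2) i
        rw [pow_succ', pow_mul, mul_smul, mul_smul, mem_stabilizer_iff.1 e1, mem_stabilizer_iff.1 e2]
        exact ⟨h3, h4⟩
      obtain ⟨s1, s2⟩ := hswap m hm
      have hc1 : c' ≠ 1 := by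
        intro h5
        rw [← hc', h5, one_smul] at s1
        exact hab s1
      have hpow : c' ^ 2 ^ k = 1 := by
        rw [hc', ← pow_mul, mul_comm, ← hkm, pow_orderOf_eq_one]
      obtain ⟨e, he⟩ := H.fix1_of_pow hc1 hpow
      have hct : c' * t = t * c' := (Commute.pow_left (show Commute c t from hc) m).eq
      have hte : t • e = e := by
        apply (he _).1
        rw [← mul_smul, hct, mul_smul, (he e).2 rfl]
      have hce : c' • e = e := (he e).2 rfl
      rcases (hfix e).1 hte with rfl | rfl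
      · rw [← hc', hce] at s1
        exact hab s1
      · rw [← hc', hce] at s2
        exact hab s2.symm
  · rintro c ⟨hc1, hc2⟩
    rw [Subgroup.mem_centralizer_singleton_iff]
    exact H.comm_two a b hab c t hc1 hc2 ha hb

theorem isT_two (hd : 1 < d) {a b : Ω} (hab : a ≠ b) :
    IsT (stabilizer G a ⊓ stabilizer G b : Subgroup G) where
  ne_bot := by
    by_contra hcon
    push Not at hcon
    have h1 : (stabilizer G a ⊓ stabilizer G b : Subgroup G) = ⊥ := (Subgroup.eq_bot_iff_forall _).2 hcon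
    have h2 := H.card_two a b hab
    rw [h1, Subgroup.card_bot] at h2
    omega
  odd := by rw [H.card_two a b hab]; exact H.odd_d
  cent := by
    rintro t ⟨ha, hb⟩ h1
    exact H.centralizer_two hab ha hb h1

theorem isT_centralizer {g : G} (hg : g ≠ 1) (h : ∀ a : Ω, ¬ Fix1 g a) :
    IsT (Subgroup.centralizer ({g} : Set G)) := by
  rcases H.fix_cases hg with h1 | ⟨a, ha⟩ | ⟨a, b, hab, hf⟩
  · exact H.isT_free h1
  · exact absurd ha (h a)
  · have ha := (hf a).2 (Or.inl rfl)
    have hb := (hf b).2 (Or.inr rfl)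
    rw [H.centralizer_two hab ha hb hg]
    apply H.isT_two _ hab
    have h2 := H.orderOf_dvd_d hab ha hb
    have h3 : orderOf g ≠ 1 := fun h4 => hg (orderOf_eq_one_iff.1 h4)
    have h4 : d ≠ 0 := H.odd_d.pos.ne'
    have h5 := Nat.le_of_dvd (by omega) h2
    have h6 := orderOf_pos g
    omega

/-! ### Solvable subgroups -/

theorem le_of_solvable {K : Subgroup G} (hs : Group.IsSolvable K) (hK : ∃ x ∈ K, x ≠ 1) :
    (∃ a : Ω, ∀ x ∈ K, x • a = a) ∨
      ∃ T : Subgroup G, IsT T ∧ K ≤ Subgroup.normalizer (T : Set G) := by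
  have hK' : Nontrivial K := by
    obtain ⟨x, hx, hx1⟩ := hK
    exact ⟨⟨⟨x, hx⟩, 1, fun h => hx1 (congrArg Subtype.val h)⟩⟩
  obtain ⟨A, hA, ⟨⟨z, hzK⟩, hzA, hz1⟩, hcomm⟩ := exists_normal_abelian hs hK'
  have hz1' : z ≠ 1 := fun h => hz1 (Subtype.ext h)
  have hconj : ∀ (x : G) (hx : x ∈ K), ∃ hw : x * z * x⁻¹ ∈ K, (⟨x * z * x⁻¹, hw⟩ : K) ∈ A := by
    intro x hx
    have h1 := hA.conj_mem ⟨z, hzK⟩ hzA ⟨x, hx⟩
    exact ⟨_, h1⟩
  have hcent : ∀ (x : G) (hx : x ∈ K), x * z * x⁻¹ ∈ Subgroup.centralizer ({z} : Set G) := by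
    intro x hx
    obtain ⟨hw, hwA⟩ := hconj x hx
    rw [Subgroup.mem_centralizer_singleton_iff]
    exact congrArg Subtype.val (hcomm _ hwA _ hzA)
  by_cases hf : ∃ a : Ω, Fix1 z a
  · obtain ⟨a, ha⟩ := hf
    left
    refine ⟨a, fun x hx => ?_⟩
    have h1 := Subgroup.mem_centralizer_singleton_iff.1 (hcent x hx)
    have h2 : (x * z * x⁻¹) • a = a := by
      apply (ha _).1
      rw [← mul_smul, ← h1, mul_smul, (ha a).2 rfl]
    have h3 : z • (x⁻¹ • a) = x⁻¹ • a := by
      rw [mul_smul, mul_smul] at h2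
      rw [eq_inv_smul_iff]
      exact h2
    have h4 := (ha _).1 h3
    rw [inv_smul_eq_iff] at h4
    exact h4.symm
  · push Not at hf
    right
    have hT := H.isT_centralizer hz1' hf
    refine ⟨_, hT, fun x hx => ?_⟩
    exact hT.mem_normalizer (Subgroup.mem_centralizer_singleton_iff.2 rfl) hz1' (hcent x hx)

/-- the pairs generating solvable subgroups -/
theorem solvable_iff (hN : ∀ T : Subgroup G, IsT T →
      ∃ e : ℕ, Nat.card (Subgroup.normalizer (T : Set G)) = 2 ^ e * Nat.card T)
    {x y : G} (hx : x ≠ 1) :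
    Group.IsSolvable ↥(Subgroup.closure ({x, y} : Set G)) ↔
      (∃ a : Ω, x • a = a ∧ y • a = a) ∨
      ∃ T : Subgroup G, IsT T ∧ x ∈ Subgroup.normalizer (T : Set G) ∧
        y ∈ Subgroup.normalizer (T : Set G) := by
  have hxc : x ∈ Subgroup.closure ({x, y} : Set G) := Subgroup.subset_closure (by simp)
  have hyc : y ∈ Subgroup.closure ({x, y} : Set G) := Subgroup.subset_closure (by simp)
  constructor
  · intro hs
    rcases H.le_of_solvable hs ⟨x, hxc, hx⟩ with ⟨a, ha⟩ | ⟨T, hT, hle⟩
    · exact Or.inl ⟨a, ha x hxc, ha y hyc⟩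
    · exact Or.inr ⟨T, hT, hle hxc, hle hyc⟩
  · rintro (⟨a, ha, hb⟩ | ⟨T, hT, hxT, hyT⟩)
    · have hle : Subgroup.closure ({x, y} : Set G) ≤ stabilizer G a := by
        rw [Subgroup.closure_le]
        rintro z (rfl | rfl)
        · exact ha
        · exact hb
      haveI := H.solv_one a
      exact Group.isSolvable_of_isSolvable_injective (Subgroup.inclusion_injective hle)
    · have hle : Subgroup.closure ({x, y} : Set G) ≤ Subgroup.normalizer (T : Set G) := by
        rw [Subgroup.closure_le]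
        rintro z (rfl | rfl)
        · exact hxT
        · exact hyT
      obtain ⟨e, he⟩ := hN T hT
      haveI := hT.isSolvable_normalizer he
      exact Group.isSolvable_of_isSolvable_injective (Subgroup.inclusion_injective hle)

/-! ### Counting elements mapping points -/

theorem card_map {a b a' b' : Ω} (hab : a ≠ b) (hab' : a' ≠ b') :
    Nat.card {g : G // g • a = a' ∧ g • b = b'} = d := by
  obtain ⟨g₀, h1, h2⟩ := H.trans a b a' b' hab hab'
  rw [← H.card_two a b hab]
  symm
  let f : (stabilizer G a ⊓ stabilizer G b : Subgroup G) → {g : G // g • a = a' ∧ g • b = b'} :=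
    fun t => ⟨g₀ * t, by
      have e1 : (t : G) • a = a := t.2.1
      have e2 : (t : G) • b = b := t.2.2
      rw [mul_smul, mul_smul, e1, e2]
      exact ⟨h1, h2⟩⟩
  apply Nat.card_congr (Equiv.ofBijective f ⟨?_, ?_⟩)
  · intro t t' htt
    have h3 : g₀ * (t : G) = g₀ * t' := congrArg Subtype.val htt
    exact Subtype.ext (mul_left_cancel h3)
  · rintro ⟨g, hg1, hg2⟩
    refine ⟨⟨g₀⁻¹ * g, ?_, ?_⟩, ?_⟩
    · show (g₀⁻¹ * g) • a = a
      rw [mul_smul, hg1, ← h1, inv_smul_smul]
    · show (g₀⁻¹ * g) • b = b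
      rw [mul_smul, hg2, ← h2, inv_smul_smul]
    · apply Subtype.ext
      show g₀ * (g₀⁻¹ * g) = g
      rw [mul_inv_cancel_left]

theorem n_pos : 2 ≤ n := by
  obtain ⟨k, hk, rfl⟩ := H.pow_two
  calc 2 = 2 ^ 1 := by norm_num
    _ ≤ 2 ^ k := Nat.pow_le_pow_right (by norm_num) hk

theorem card_ne (a : Ω) : Nat.card {x : Ω // x ≠ a} = n := by
  classical
  haveI := Fintype.ofFinite Ω
  have h := H.card_set
  rw [Nat.card_eq_fintype_card] at h ⊢
  rw [Fintype.card_subtype_compl, Fintype.card_subtype_eq, h]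
  rfl

theorem exists_ne_point (a : Ω) : ∃ b : Ω, b ≠ a := by
  have h1 := H.card_ne a
  have h2 := H.n_pos
  have h3 : 0 < Nat.card {x : Ω // x ≠ a} := by omega
  obtain ⟨b, hb⟩ := (Nat.card_pos_iff.1 h3).1
  exact ⟨b, hb⟩

theorem card_map_one (a a' : Ω) : Nat.card {g : G // g • a = a'} = n * d := by
  classical
  obtain ⟨b, hb⟩ := H.exists_ne_point a
  haveI := Fintype.ofFinite G
  haveI := Fintype.ofFinite Ω
  have e : {g : G // g • a = a'} ≃ Σ c : {x : Ω // x ≠ a'}, {g : G // g • a = a' ∧ g • b = c} :=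
    { toFun := fun g => ⟨⟨g.1 • b, fun h => hb (smul_left_cancel g.1 (h.trans g.2.symm))⟩, ⟨g.1, g.2, rfl⟩⟩
      invFun := fun t => ⟨t.2.1, t.2.2.1⟩
      left_inv := fun g => rfl
      right_inv := by
        rintro ⟨⟨c, hc⟩, ⟨g, hg⟩⟩
        have hg2 : c = g • b := hg.2.symm
        subst hg2
        rfl }
  rw [Nat.card_congr e, Nat.card_sigma]
  have h1 : ∀ c : {x : Ω // x ≠ a'}, Nat.card {g : G // g • a = a' ∧ g • b = c} = d :=
    fun c => H.card_map (Ne.symm hb) (Ne.symm c.2)
  rw [Finset.sum_congr rfl (fun c _ => h1 c), Finset.sum_const, smul_eq_mul, Finset.card_univ,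
    ← Nat.card_eq_fintype_card, H.card_ne]

theorem card_group : Nat.card G = (n + 1) * (n * d) := by
  classical
  haveI := Fintype.ofFinite G
  haveI := Fintype.ofFinite Ω
  have h1 : 0 < Nat.card Ω := by rw [H.card_set]; omega
  obtain ⟨a⟩ := (Nat.card_pos_iff.1 h1).1
  have e : G ≃ Σ c : Ω, {g : G // g • a = c} :=
    { toFun := fun g => ⟨g • a, ⟨g, rfl⟩⟩
      invFun := fun t => t.2.1
      left_inv := fun g => rfl
      right_inv := by
        rintro ⟨c, ⟨g, hg1⟩⟩
        subst hg1
        rfl }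
  rw [Nat.card_congr e, Nat.card_sigma]
  have h1 : ∀ c : Ω, Nat.card {g : G // g • a = c} = n * d :=
    fun c => H.card_map_one a c
  rw [Finset.sum_congr rfl (fun c _ => h1 c), Finset.sum_const, smul_eq_mul, Finset.card_univ,
    ← Nat.card_eq_fintype_card, H.card_set]

/-! ### The normalizers of the two-point stabilisers -/

theorem mem_normalizer_two (hd : 1 < d) {a b : Ω} (hab : a ≠ b) {g : G} :
    g ∈ Subgroup.normalizer ((stabilizer G a ⊓ stabilizer G b : Subgroup G) : Set G) ↔
      (g • a = a ∧ g • b = b) ∨ (g • a = b ∧ g • b = a) := by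
  have hT := H.isT_two hd hab
  obtain ⟨t, ht, ht1⟩ := hT.ne_bot
  have hfix := H.fix2_of_mem hab ht.1 ht.2 ht1
  constructor
  · intro hg
    have h1 := (Subgroup.mem_normalizer_iff.1 (inv_mem hg) t).1 ht
    have h2 : (g⁻¹ * t * g⁻¹⁻¹) • a = a := h1.1
    have h3 : (g⁻¹ * t * g⁻¹⁻¹) • b = b := h1.2
    rw [inv_inv, mul_smul, mul_smul, inv_smul_eq_iff] at h2 h3
    rcases (hfix _).1 h2 with h4 | h4 <;> rcases (hfix _).1 h3 with h5 | h5
    · exact absurd (smul_left_cancel g (h4.trans h5.symm)) hab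
    · exact Or.inl ⟨h4, h5⟩
    · exact Or.inr ⟨h4, h5⟩
    · exact absurd (smul_left_cancel g (h4.trans h5.symm)) hab
  · intro hg
    apply hT.mem_normalizer ht ht1
    have e : ∀ x y : Ω, g • x = y → t • x = x → (g * t * g⁻¹) • y = y := by
      intro x y hxy htx
      rw [mul_smul, mul_smul, ← hxy, inv_smul_smul, htx]
    rcases hg with ⟨h1, h2⟩ | ⟨h1, h2⟩
    · exact ⟨e a a h1 ht.1, e b b h2 ht.2⟩
    · exact ⟨e b a h2 ht.2, e a b h1 ht.1⟩

theorem card_normalizer_two (hd : 1 < d) {a b : Ω} (hab : a ≠ b) :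
    Nat.card (Subgroup.normalizer ((stabilizer G a ⊓ stabilizer G b : Subgroup G) : Set G)) =
      2 ^ 1 * Nat.card (stabilizer G a ⊓ stabilizer G b : Subgroup G) := by
  classical
  haveI := Fintype.ofFinite G
  have h1 := H.card_map hab hab
  have h2 := H.card_map hab (Ne.symm hab)
  rw [H.card_two a b hab]
  have h3 : Nat.card (Subgroup.normalizer ((stabilizer G a ⊓ stabilizer G b : Subgroup G) : Set G)) =
      Nat.card {g : G // (g • a = a ∧ g • b = b) ∨ (g • a = b ∧ g • b = a)} :=
    Nat.card_congr (Equiv.subtypeEquivRight (fun g => H.mem_normalizer_two hd hab))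
  rw [h3]
  rw [Nat.card_eq_fintype_card, Fintype.card_subtype] at h1 h2 ⊢
  rw [Finset.filter_or, Finset.card_union_of_disjoint, h1, h2]
  · ring
  · rw [Finset.disjoint_filter]
    rintro g - ⟨h4, -⟩ ⟨h5, -⟩
    exact hab (h4.symm.trans h5)

/-- every torus is a two-point stabiliser or the centralizer of a fixed-point-free element -/
theorem isT_cases {T : Subgroup G} (hT : IsT T) :
    (∃ g : G, Free Ω g ∧ T = Subgroup.centralizer ({g} : Set G)) ∨
    (∃ a b : Ω, a ≠ b ∧ T = (stabilizer G a ⊓ stabilizer G b : Subgroup G)) := by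
  obtain ⟨t, ht, ht1⟩ := hT.ne_bot
  have hTt := hT.cent t ht ht1
  rcases H.fix_cases ht1 with h1 | ⟨a, ha⟩ | ⟨a, b, hab, hf⟩
  · exact Or.inl ⟨t, h1, hTt.symm⟩
  · exfalso
    obtain ⟨k, hk⟩ := H.exists_pow_of_fix1 ha
    have h2 := hT.odd_orderOf ht
    have hcop : Nat.Coprime (orderOf t) (2 ^ k) := by
      apply Nat.Coprime.pow_right
      exact Nat.coprime_two_right.mpr h2
    have := Nat.dvd_gcd (dvd_refl _) (orderOf_dvd_of_pow_eq_one hk)
    rw [hcop] at this
    exact ht1 (orderOf_eq_one_iff.1 (Nat.dvd_one.1 this))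
  · right
    refine ⟨a, b, hab, ?_⟩
    rw [← hTt]
    exact H.centralizer_two hab ((hf a).2 (Or.inl rfl)) ((hf b).2 (Or.inr rfl)) ht1

/-- The index of a torus in its normalizer, given the index for the centralizers of the free elements. -/
theorem card_normalizer (hd : 1 < d) {e : ℕ} (hN : ∀ g : G, Free Ω g →
      Nat.card (Subgroup.normalizer ((Subgroup.centralizer ({g} : Set G) : Subgroup G) : Set G)) =
        2 ^ e * Nat.card (Subgroup.centralizer ({g} : Set G)))
    (T : Subgroup G) (hT : IsT T) :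
    ∃ e : ℕ, Nat.card (Subgroup.normalizer (T : Set G)) = 2 ^ e * Nat.card T := by
  rcases H.isT_cases hT with ⟨g, hg, rfl⟩ | ⟨a, b, hab, rfl⟩
  · exact ⟨e, hN g hg⟩
  · exact ⟨1, H.card_normalizer_two hd hab⟩

/-! ### The three cases -/

theorem card_sol_two (hd : 1 < d) (hN : ∀ T : Subgroup G, IsT T →
      ∃ e : ℕ, Nat.card (Subgroup.normalizer (T : Set G)) = 2 ^ e * Nat.card T)
    {x : G} (hx : x ≠ 1) {a b : Ω} (hab : a ≠ b) (ha : x • a = a) (hb : x • b = b) :
    Nat.card {y : G // Group.IsSolvable ↥(Subgroup.closure ({x, y} : Set G))} = 2 * (n * d) := by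
  classical
  haveI := Fintype.ofFinite G
  have hfix := H.fix2_of_mem hab ha hb hx
  have hiff : ∀ y : G, Group.IsSolvable ↥(Subgroup.closure ({x, y} : Set G)) ↔
      y • a = a ∨ y • b = b ∨ (y • a = b ∧ y • b = a) := by
    intro y
    rw [H.solvable_iff hN hx]
    constructor
    · rintro (⟨c, hc, hyc⟩ | ⟨T, hT, hxT, hyT⟩)
      · rcases (hfix c).1 hc with rfl | rfl
        · exact Or.inl hyc
        · exact Or.inr (Or.inl hyc)
      · obtain ⟨e, he⟩ := hN T hT
        have h1 := IsT.mem_of_odd he hxT (H.odd_of_two hab ha hb)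
        have h2 := hT.cent x h1 hx
        rw [← h2, H.centralizer_two hab ha hb hx] at hyT
        rcases (H.mem_normalizer_two hd hab).1 hyT with h3 | h3
        · exact Or.inl h3.1
        · exact Or.inr (Or.inr h3)
    · rintro (h1 | h1 | h1)
      · exact Or.inl ⟨a, ha, h1⟩
      · exact Or.inl ⟨b, hb, h1⟩
      · exact Or.inr ⟨_, H.isT_two hd hab, (H.mem_normalizer_two hd hab).2 (Or.inl ⟨ha, hb⟩),
          (H.mem_normalizer_two hd hab).2 (Or.inr h1)⟩
  rw [Nat.card_congr (Equiv.subtypeEquivRight hiff)]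
  have h1 := H.card_map_one a a
  have h2 := H.card_map_one b b
  have h3 := H.card_map hab hab
  have h4 := H.card_map hab (Ne.symm hab)
  rw [Nat.card_eq_fintype_card, Fintype.card_subtype] at h1 h2 h3 h4 ⊢
  have e1 : (Finset.univ.filter (fun y : G => y • a = a ∨ y • b = b ∨ (y • a = b ∧ y • b = a))) =
      (Finset.univ.filter (fun y : G => y • a = a) ∪ Finset.univ.filter (fun y : G => y • b = b)) ∪
      Finset.univ.filter (fun y : G => y • a = b ∧ y • b = a) := by
    ext y
    simp only [Finset.mem_filter, Finset.mem_univ, true_and, Finset.mem_union]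
    tauto
  have e2 : Disjoint (Finset.univ.filter (fun y : G => y • a = a) ∪ Finset.univ.filter (fun y : G => y • b = b))
      (Finset.univ.filter (fun y : G => y • a = b ∧ y • b = a)) := by
    rw [Finset.disjoint_left]
    intro y hy hy'
    simp only [Finset.mem_filter, Finset.mem_univ, true_and, Finset.mem_union] at hy hy'
    rcases hy with h | h
    · exact hab (h.symm.trans hy'.1)
    · exact hab (hy'.2.symm.trans h)
  have e3 : (Finset.univ.filter (fun y : G => y • a = a) ∩ Finset.univ.filter (fun y : G => y • b = b)) =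
      Finset.univ.filter (fun y : G => y • a = a ∧ y • b = b) := by
    ext y
    simp only [Finset.mem_filter, Finset.mem_univ, true_and, Finset.mem_inter]
  have e4 := Finset.card_union_add_card_inter (Finset.univ.filter (fun y : G => y • a = a))
    (Finset.univ.filter (fun y : G => y • b = b))
  rw [e3, h3, h1, h2] at e4
  rw [e1, Finset.card_union_of_disjoint e2, h4, e4]
  ring

theorem card_sol_free (hN : ∀ T : Subgroup G, IsT T →
      ∃ e : ℕ, Nat.card (Subgroup.normalizer (T : Set G)) = 2 ^ e * Nat.card T)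
    {x : G} (hx : Free Ω x) :
    Nat.card {y : G // Group.IsSolvable ↥(Subgroup.closure ({x, y} : Set G))} =
      Nat.card (Subgroup.normalizer ((Subgroup.centralizer ({x} : Set G) : Subgroup G) : Set G)) := by
  have hT := H.isT_free hx
  have hmem : x ∈ Subgroup.centralizer ({x} : Set G) := Subgroup.mem_centralizer_singleton_iff.2 rfl
  have hx1 : x ≠ 1 := by
    rintro rfl
    have h1 : 0 < Nat.card Ω := by rw [H.card_set]; omega
    obtain ⟨a⟩ := (Nat.card_pos_iff.1 h1).1
    exact hx a (one_smul _ _)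
  apply Nat.card_congr
  apply Equiv.subtypeEquivRight
  intro y
  rw [H.solvable_iff hN hx1]
  constructor
  · rintro (⟨c, hc, hyc⟩ | ⟨T, hT', hxT, hyT⟩)
    · exact absurd hc (hx c)
    · obtain ⟨e, he⟩ := hN T hT'
      have h1 := IsT.mem_of_odd he hxT (hT.odd_orderOf hmem)
      rwa [hT'.cent x h1 hx1]
  · intro hy
    exact Or.inr ⟨_, hT, Subgroup.le_normalizer hmem, hy⟩

/-- an element normalizing two different tori normalized by `x` fixes the fixed point of `x` -/
theorem fix_of_two_tori {T T' : Subgroup G} (hT : IsT T) (hT' : IsT T') {e e' : ℕ}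
    (he : Nat.card (Subgroup.normalizer (T : Set G)) = 2 ^ e * Nat.card T)
    (he' : Nat.card (Subgroup.normalizer (T' : Set G)) = 2 ^ e' * Nat.card T')
    (hne : T ≠ T') {x : G} {a : Ω} (hx : Fix1 x a)
    (h1 : x ∈ Subgroup.normalizer (T : Set G)) (h2 : x ∈ Subgroup.normalizer (T' : Set G))
    {y : G} (h3 : y ∈ Subgroup.normalizer (T : Set G)) (h4 : y ∈ Subgroup.normalizer (T' : Set G)) :
    y • a = a := by
  have hP : IsPGroup 2 (Subgroup.normalizer (T : Set G) ⊓ Subgroup.normalizer (T' : Set G) : Subgroup G) := by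
    rintro ⟨g, hg, hg'⟩
    obtain ⟨k, m, hm, hkm⟩ := Nat.exists_eq_two_pow_mul_odd (orderOf_pos g).ne'
    refine ⟨k, ?_⟩
    apply Subtype.ext
    show g ^ 2 ^ k = 1
    have hodd : Odd (orderOf (g ^ 2 ^ k)) := by
      have h5 : orderOf (g ^ 2 ^ k) ∣ m := by
        apply orderOf_dvd_of_pow_eq_one
        rw [← pow_mul, ← hkm, pow_orderOf_eq_one]
      exact Odd.of_dvd_nat hm h5
    have h6 := IsT.mem_of_odd he (pow_mem hg (2 ^ k)) hodd
    have h7 := IsT.mem_of_odd he' (pow_mem hg' (2 ^ k)) hodd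
    by_contra h8
    exact hne (hT.eq_of_mem hT' h6 h7 h8)
  exact H.fixes_of_isPGroup hP (x := x) ⟨h1, h2⟩ hx y ⟨h3, h4⟩

/-- the stabiliser in `N(T)` of the fixed point of a 2-element of `N(T)` -/
theorem card_normalizer_fix {T : Subgroup G} (hT : IsT T) {e : ℕ}
    (he : Nat.card (Subgroup.normalizer (T : Set G)) = 2 ^ e * Nat.card T)
    {x : G} {a : Ω} (hx : Fix1 x a) (hxT : x ∈ Subgroup.normalizer (T : Set G)) :
    Nat.card {y : G // y ∈ Subgroup.normalizer (T : Set G) ∧ y • a = a} = 2 ^ e := by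
  haveI : Fact (Nat.Prime 2) := ⟨Nat.prime_two⟩
  set M : Subgroup G := Subgroup.normalizer (T : Set G) ⊓ stabilizer G a with hM
  have hcM : Nat.card {y : G // y ∈ Subgroup.normalizer (T : Set G) ∧ y • a = a} = Nat.card M := rfl
  rw [hcM]
  -- elements of `T` fixing `a` are trivial
  have hTa : ∀ t ∈ T, t • a = a → t = 1 := by
    intro t ht hta
    by_contra ht1
    have hodd := hT.odd_orderOf ht
    rcases H.fix_cases ht1 with h1 | ⟨c, hc⟩ | ⟨b, c, hbc, hf⟩
    · exact h1 a hta
    · obtain ⟨k, hk⟩ := H.exists_pow_of_fix1 hc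
      have hcop : Nat.Coprime (orderOf t) (2 ^ k) := by
        apply Nat.Coprime.pow_right
        exact Nat.coprime_two_right.mpr hodd
      have := Nat.dvd_gcd (dvd_refl _) (orderOf_dvd_of_pow_eq_one hk)
      rw [hcop] at this
      exact ht1 (orderOf_eq_one_iff.1 (Nat.dvd_one.1 this))
    · -- `x` normalizes the two-point stabiliser, fixes `a`, so fixes the other point
      have hTbc : T = (stabilizer G b ⊓ stabilizer G c : Subgroup G) := by
        rw [← hT.cent t ht ht1]
        exact H.centralizer_two hbc ((hf b).2 (Or.inl rfl)) ((hf c).2 (Or.inr rfl)) ht1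
      have key : ∀ u : Ω, t • u = u → t • (x⁻¹ • u) = x⁻¹ • u := by
        intro u hu
        have hu' : ∀ s ∈ T, s • u = u := by
          intro s hs
          rw [hTbc] at hs
          rcases (hf u).1 hu with rfl | rfl
          · exact hs.1
          · exact hs.2
        have h5 := hu' _ ((Subgroup.mem_normalizer_iff.1 hxT t).1 ht)
        rw [mul_smul, mul_smul] at h5
        rw [eq_inv_smul_iff]
        exact h5
      have hxa : x • a = a := (hx a).2 rfl
      have main : ∀ u : Ω, u ≠ a → t • u = u → False := by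
        intro u hua htu
        have h6 := key u htu
        have h7 : x⁻¹ • u ≠ a := by
          intro h8
          rw [inv_smul_eq_iff, hxa] at h8
          exact hua h8
        have h8 : x⁻¹ • u ≠ u := by
          intro h9
          rw [inv_smul_eq_iff] at h9
          exact hua ((hx u).1 h9.symm)
        exact ht1 (H.three t a u (x⁻¹ • u) (Ne.symm hua) (Ne.symm h7) (Ne.symm h8) hta htu h6)
      rcases (hf a).1 hta with h9 | h9
      · exact main c (fun h => hbc (h9.symm.trans h.symm)) ((hf c).2 (Or.inr rfl))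
      · exact main b (fun h => hbc (h.trans h9)) ((hf b).2 (Or.inl rfl))
  -- `M` is a 2-group
  have hPM : IsPGroup 2 M := by
    rintro ⟨g, hg, hg'⟩
    obtain ⟨k, m, hm, hkm⟩ := Nat.exists_eq_two_pow_mul_odd (orderOf_pos g).ne'
    refine ⟨k, ?_⟩
    apply Subtype.ext
    show g ^ 2 ^ k = 1
    have hodd : Odd (orderOf (g ^ 2 ^ k)) := by
      have h5 : orderOf (g ^ 2 ^ k) ∣ m := by
        apply orderOf_dvd_of_pow_eq_one
        rw [← pow_mul, ← hkm, pow_orderOf_eq_one]
      exact Odd.of_dvd_nat hm h5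
    exact hTa _ (IsT.mem_of_odd he (pow_mem hg (2 ^ k)) hodd) (pow_mem hg' (2 ^ k))
  have hcop : ¬ 2 ∣ Nat.card T := by
    have := hT.odd
    rwa [← Nat.not_even_iff_odd, even_iff_two_dvd] at this
  have hcop' : Nat.Coprime 2 (Nat.card T) := (Nat.Prime.coprime_iff_not_dvd Nat.prime_two).2 hcop
  apply Nat.dvd_antisymm
  · obtain ⟨k, hk⟩ := IsPGroup.iff_card.1 hPM
    rw [hk]
    have h1 : 2 ^ k ∣ 2 ^ e * Nat.card T := by
      rw [← hk, ← he]
      exact Subgroup.card_dvd_of_le inf_le_left
    exact (Nat.Coprime.dvd_of_dvd_mul_right (Nat.Coprime.pow_left k hcop') h1)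
  · -- a Sylow subgroup of `N(T)` containing `x`
    obtain ⟨k, hk⟩ := H.exists_pow_of_fix1 hx
    have hPx : IsPGroup 2 (Subgroup.zpowers (⟨x, hxT⟩ : Subgroup.normalizer (T : Set G))) := by
      obtain ⟨j, -, hj⟩ := (Nat.dvd_prime_pow Nat.prime_two).1
        (orderOf_dvd_of_pow_eq_one (x := (⟨x, hxT⟩ : Subgroup.normalizer (T : Set G))) (n := 2 ^ k)
          (Subtype.ext hk))
      apply IsPGroup.of_card (n := j)
      rw [Nat.card_zpowers, hj]
    obtain ⟨P, hP⟩ := hPx.exists_le_sylow
    have hcP : Nat.card P = 2 ^ e := by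
      rw [P.card_eq_multiplicity, he, Nat.factorization_mul (by positivity) Nat.card_pos.ne',
        Finsupp.add_apply, Nat.factorization_eq_zero_of_not_dvd hcop, add_zero,
        Nat.Prime.factorization_pow Nat.prime_two, Finsupp.single_eq_same]
    rw [← hcP]
    have hmap : IsPGroup 2 ((P : Subgroup (Subgroup.normalizer (T : Set G))).map
        (Subgroup.subtype _)) := P.2.map _
    have hfixes := H.fixes_of_isPGroup hmap (x := x)
      ⟨⟨x, hxT⟩, hP (Subgroup.mem_zpowers _), rfl⟩ hx
    have hle : (P : Subgroup (Subgroup.normalizer (T : Set G))).map (Subgroup.subtype _) ≤ M := by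
      intro g hg
      refine ⟨?_, hfixes g hg⟩
      obtain ⟨w, -, rfl⟩ := hg
      exact w.2
    have h1 := Subgroup.card_dvd_of_le hle
    rwa [Subgroup.card_map_of_injective (Subgroup.subtype_injective _)] at h1

/-- The elements outside the stabiliser of `a` that normalize a torus (of a given kind) normalized by `x`. -/
theorem card_fiber (R : Subgroup G → Prop) {e : ℕ} (hR : ∀ T : Subgroup G, R T →
      IsT T ∧ Nat.card (Subgroup.normalizer (T : Set G)) = 2 ^ e * Nat.card T)
    {x : G} {a : Ω} (hx : Fix1 x a) :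
    Nat.card {y : G // y • a ≠ a ∧ ∃ T : Subgroup G, R T ∧ x ∈ Subgroup.normalizer (T : Set G) ∧
        y ∈ Subgroup.normalizer (T : Set G)} =
      2 ^ e * Nat.card {t : G // t ≠ 1 ∧ ∃ T : Subgroup G, R T ∧ x ∈ Subgroup.normalizer (T : Set G) ∧
        t ∈ T} := by
  classical
  haveI := Fintype.ofFinite G
  haveI := Fintype.ofFinite (Subgroup G)
  set 𝒯 : Finset (Subgroup G) :=
    Finset.univ.filter (fun T => R T ∧ x ∈ Subgroup.normalizer (T : Set G)) with h𝒯
  have hmem : ∀ T, T ∈ 𝒯 ↔ R T ∧ x ∈ Subgroup.normalizer (T : Set G) := fun T => by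
    rw [h𝒯, Finset.mem_filter]
    simp
  rw [Nat.card_eq_fintype_card, Fintype.card_subtype, Nat.card_eq_fintype_card, Fintype.card_subtype]
  have e1 : (Finset.univ.filter (fun y : G => y • a ≠ a ∧ ∃ T : Subgroup G, R T ∧
      x ∈ Subgroup.normalizer (T : Set G) ∧ y ∈ Subgroup.normalizer (T : Set G))) =
      𝒯.biUnion (fun T => Finset.univ.filter (fun y : G => y ∈ Subgroup.normalizer (T : Set G) ∧ y • a ≠ a)) := by
    ext y
    simp only [Finset.mem_filter, Finset.mem_univ, true_and, Finset.mem_biUnion, hmem]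
    constructor
    · rintro ⟨h1, T, h2, h3, h4⟩
      exact ⟨T, ⟨h2, h3⟩, h4, h1⟩
    · rintro ⟨T, ⟨h2, h3⟩, h4, h1⟩
      exact ⟨h1, T, h2, h3, h4⟩
  have e2 : (Finset.univ.filter (fun t : G => t ≠ 1 ∧ ∃ T : Subgroup G, R T ∧
      x ∈ Subgroup.normalizer (T : Set G) ∧ t ∈ T)) =
      𝒯.biUnion (fun T => Finset.univ.filter (fun t : G => t ∈ T ∧ t ≠ 1)) := by
    ext y
    simp only [Finset.mem_filter, Finset.mem_univ, true_and, Finset.mem_biUnion, hmem]
    constructor
    · rintro ⟨h1, T, h2, h3, h4⟩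
      exact ⟨T, ⟨h2, h3⟩, h4, h1⟩
    · rintro ⟨T, ⟨h2, h3⟩, h4, h1⟩
      exact ⟨h1, T, h2, h3, h4⟩
  rw [e1, e2, Finset.card_biUnion, Finset.card_biUnion, Finset.mul_sum]
  · apply Finset.sum_congr rfl
    intro T hT
    rw [hmem] at hT
    obtain ⟨hRT, hxT⟩ := hT
    obtain ⟨hIT, he⟩ := hR T hRT
    have h1 := H.card_normalizer_fix hIT he hx hxT
    have h2 : Nat.card (Subgroup.normalizer (T : Set G)) =
        (Finset.univ.filter (fun y : G => y ∈ Subgroup.normalizer (T : Set G))).card := by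
      rw [Nat.card_eq_fintype_card, Fintype.card_subtype]
    have h3 : Nat.card T = (Finset.univ.filter (fun t : G => t ∈ T)).card := by
      rw [Nat.card_eq_fintype_card, Fintype.card_subtype]
    rw [Nat.card_eq_fintype_card, Fintype.card_subtype] at h1
    have h4 : (Finset.univ.filter (fun y : G => y ∈ Subgroup.normalizer (T : Set G) ∧ y • a = a)).card +
        (Finset.univ.filter (fun y : G => y ∈ Subgroup.normalizer (T : Set G) ∧ y • a ≠ a)).card =
        (Finset.univ.filter (fun y : G => y ∈ Subgroup.normalizer (T : Set G))).card := by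
      rw [← Finset.filter_filter, ← Finset.filter_filter]
      exact Finset.card_filter_add_card_filter_not _
    have h5 : (Finset.univ.filter (fun t : G => t ∈ T ∧ t ≠ 1)).card + 1 =
        (Finset.univ.filter (fun t : G => t ∈ T)).card := by
      have h6 : (Finset.univ.filter (fun t : G => t ∈ T ∧ t ≠ 1)) =
          (Finset.univ.filter (fun t : G => t ∈ T)).erase 1 := by
        ext t
        simp only [Finset.mem_filter, Finset.mem_univ, true_and, Finset.mem_erase]
        tauto
      rw [h6]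
      exact Finset.card_erase_add_one (by simp [T.one_mem])
    rw [← h2, h1, he, h3, ← h5, Nat.mul_add, mul_one] at h4
    omega
  · intro T hT T' hT' hne
    rw [Function.onFun, Finset.disjoint_left]
    intro t ht ht'
    simp only [Finset.mem_filter, Finset.mem_univ, true_and] at ht ht'
    rw [Finset.mem_coe, hmem] at hT hT'
    exact hne ((hR T hT.1).1.eq_of_mem (hR T' hT'.1).1 ht.1 ht'.1 ht.2)
  · intro T hT T' hT' hne
    rw [Function.onFun, Finset.disjoint_left]
    intro y hy hy'
    simp only [Finset.mem_filter, Finset.mem_univ, true_and] at hy hy'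
    rw [Finset.mem_coe, hmem] at hT hT'
    exact hy.2 (H.fix_of_two_tori (hR T hT.1).1 (hR T' hT'.1).1 (hR T hT.1).2 (hR T' hT'.1).2 hne hx
      hT.2 hT'.2 hy.1 hy'.1)

theorem ne_one_of_fix1 {x : G} {a : Ω} (hx : Fix1 x a) : x ≠ 1 := by
  rintro rfl
  obtain ⟨b, hb⟩ := H.exists_ne_point a
  exact hb ((hx b).1 (one_smul _ _))

theorem swap_of_mem_normalizer (hd : 1 < d) {x : G} {a : Ω} (hx : Fix1 x a) {b c : Ω} (hbc : b ≠ c)
    (h : x ∈ Subgroup.normalizer ((stabilizer G b ⊓ stabilizer G c : Subgroup G) : Set G)) :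
    x • b = c ∧ x • c = b := by
  rcases (H.mem_normalizer_two hd hbc).1 h with ⟨h1, h2⟩ | h1
  · exact absurd (((hx b).1 h1).trans ((hx c).1 h2).symm) hbc
  · exact h1

/-- The tori of the form `G_{bc}` normalized by an element with square not `1`: none. -/
theorem card_two_of_sq_ne (hd : 1 < d) {x : G} {a : Ω} (hx : Fix1 x a) (hxx : x * x ≠ 1) :
    Nat.card {t : G // t ≠ 1 ∧ ∃ T : Subgroup G, (∃ b c : Ω, b ≠ c ∧
        T = (stabilizer G b ⊓ stabilizer G c : Subgroup G)) ∧ x ∈ Subgroup.normalizer (T : Set G) ∧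
        t ∈ T} = 0 := by
  rw [Finite.card_eq_zero_iff, isEmpty_subtype]
  rintro t ⟨-, T, ⟨b, c, hbc, rfl⟩, hxT, -⟩
  obtain ⟨h1, h2⟩ := H.swap_of_mem_normalizer hd hx hbc hxT
  have hba : b ≠ a := by
    rintro rfl
    exact hbc (((hx b).2 rfl).symm.trans h1)
  obtain ⟨k, hk⟩ := H.exists_pow_of_fix1 hx
  have h3 : (x * x) ^ 2 ^ k = 1 := by
    rw [← sq, ← pow_mul, mul_comm, pow_mul, hk, one_pow]
  obtain ⟨a', ha'⟩ := H.fix1_of_pow hxx h3
  have h4 : (x * x) • a = a := by rw [mul_smul, (hx a).2 rfl, (hx a).2 rfl]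
  have h5 : (x * x) • b = b := by rw [mul_smul, h1, h2]
  exact hba (((ha' b).1 h5).trans ((ha' a).1 h4).symm)

/-- The elements of the tori of the form `G_{bc}` normalized by an involution. -/
theorem card_two_of_sq (hd : 1 < d) {x : G} {a : Ω} (hx : Fix1 x a) (hxx : x * x = 1) :
    2 * Nat.card {t : G // t ≠ 1 ∧ ∃ T : Subgroup G, (∃ b c : Ω, b ≠ c ∧
        T = (stabilizer G b ⊓ stabilizer G c : Subgroup G)) ∧ x ∈ Subgroup.normalizer (T : Set G) ∧
        t ∈ T} = n * (d - 1) := by
  classical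
  haveI := Fintype.ofFinite G
  haveI := Fintype.ofFinite Ω
  have hxx' : ∀ b : Ω, x • (x • b) = b := fun b => by rw [← mul_smul, hxx, one_smul]
  have hxb : ∀ b : Ω, b ≠ a → b ≠ x • b := fun b hb h => hb ((hx b).1 h.symm)
  let r : G → Ω → Prop := fun t b => t ≠ 1 ∧ b ≠ a ∧ t • b = b ∧ t • (x • b) = x • b
  have hP : ∀ t : G, (t ≠ 1 ∧ ∃ T : Subgroup G, (∃ b c : Ω, b ≠ c ∧
        T = (stabilizer G b ⊓ stabilizer G c : Subgroup G)) ∧ x ∈ Subgroup.normalizer (T : Set G) ∧
        t ∈ T) ↔ ∃ b, r t b := by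
    intro t
    constructor
    · rintro ⟨ht1, T, ⟨b, c, hbc, rfl⟩, hxT, htT⟩
      obtain ⟨h1, h2⟩ := H.swap_of_mem_normalizer hd hx hbc hxT
      have hba : b ≠ a := by
        rintro rfl
        exact hbc (((hx b).2 rfl).symm.trans h1)
      refine ⟨b, ht1, hba, htT.1, ?_⟩
      rw [h1]
      exact htT.2
    · rintro ⟨b, ht1, hba, h1, h2⟩
      refine ⟨ht1, _, ⟨b, x • b, hxb b hba, rfl⟩, ?_, h1, h2⟩
      rw [H.mem_normalizer_two hd (hxb b hba)]
      exact Or.inr ⟨rfl, hxx' b⟩
  rw [Nat.card_congr (Equiv.subtypeEquivRight hP), Nat.card_eq_fintype_card, Fintype.card_subtype]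
  have hdc := Finset.sum_card_bipartiteAbove_eq_sum_card_bipartiteBelow (s := (Finset.univ : Finset G))
    (t := (Finset.univ : Finset Ω)) r
  have hleft : ∀ t : G, (Finset.univ.bipartiteAbove r t).card = if (∃ b, r t b) then 2 else 0 := by
    intro t
    split_ifs with h
    · obtain ⟨b, hb⟩ := h
      have hb' := hb
      obtain ⟨ht1, hba, h1, h2⟩ := hb'
      have hfix := H.fix2_of_mem (hxb b hba) h1 h2 ht1
      have : Finset.univ.bipartiteAbove r t = {b, x • b} := by
        ext c
        rw [Finset.mem_bipartiteAbove, Finset.mem_insert, Finset.mem_singleton]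
        constructor
        · rintro ⟨-, -, -, h3, -⟩
          exact (hfix c).1 h3
        · rintro (rfl | rfl)
          · exact ⟨Finset.mem_univ _, hb⟩
          · refine ⟨Finset.mem_univ _, ht1, ?_, h2, ?_⟩
            · intro h3
              apply hba
              have h4 := hxx' b
              rw [h3, (hx a).2 rfl] at h4
              exact h4.symm
            · rw [hxx']
              exact h1
      rw [this, Finset.card_pair (hxb b hba)]
    · rw [Finset.card_eq_zero, Finset.eq_empty_iff_forall_notMem]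
      intro b hb
      rw [Finset.mem_bipartiteAbove] at hb
      exact h ⟨b, hb.2⟩
  have hright : ∀ b : Ω, (Finset.univ.bipartiteBelow r b).card = if b ≠ a then d - 1 else 0 := by
    intro b
    split_ifs with h
    · have h1 := H.card_two b (x • b) (hxb b h)
      have h2 : (Finset.univ.filter (fun t : G => t ∈ (stabilizer G b ⊓ stabilizer G (x • b) : Subgroup G))).card = d := by
        rw [← h1, Nat.card_eq_fintype_card, Fintype.card_subtype]
      have h3 : Finset.univ.bipartiteBelow r b =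
          (Finset.univ.filter (fun t : G => t ∈ (stabilizer G b ⊓ stabilizer G (x • b) : Subgroup G))).erase 1 := by
        ext t
        rw [Finset.mem_bipartiteBelow, Finset.mem_erase, Finset.mem_filter]
        constructor
        · rintro ⟨-, ht1, -, h3, h4⟩
          exact ⟨ht1, Finset.mem_univ _, h3, h4⟩
        · rintro ⟨ht1, -, h3, h4⟩
          exact ⟨Finset.mem_univ _, ht1, h, h3, h4⟩
      rw [h3, Finset.card_erase_of_mem, h2]
      rw [Finset.mem_filter]
      exact ⟨Finset.mem_univ _, one_mem _⟩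
    · rw [Finset.card_eq_zero, Finset.eq_empty_iff_forall_notMem]
      intro t ht
      rw [Finset.mem_bipartiteBelow] at ht
      exact h ht.2.2.1
  rw [Finset.sum_congr rfl (fun t _ => hleft t), Finset.sum_congr rfl (fun b _ => hright b),
    ← Finset.sum_filter, ← Finset.sum_filter, Finset.sum_const, Finset.sum_const, smul_eq_mul,
    smul_eq_mul] at hdc
  have h4 : (Finset.univ.filter (fun b : Ω => b ≠ a)).card = n := by
    rw [← H.card_ne a, Nat.card_eq_fintype_card, Fintype.card_subtype]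
  rw [h4] at hdc
  rw [← hdc, mul_comm]

/-- **The size of the solubilizer of a 2-element.** -/
theorem card_sol_one (hd : 1 < d) {e : ℕ} (hN : ∀ g : G, Free Ω g →
      Nat.card (Subgroup.normalizer ((Subgroup.centralizer ({g} : Set G) : Subgroup G) : Set G)) =
        2 ^ e * Nat.card (Subgroup.centralizer ({g} : Set G)))
    {x : G} {a : Ω} (hx : Fix1 x a) :
    Nat.card {y : G // Group.IsSolvable ↥(Subgroup.closure ({x, y} : Set G))} =
      n * d + 2 * Nat.card {t : G // t ≠ 1 ∧ ∃ T : Subgroup G, (∃ b c : Ω, b ≠ c ∧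
        T = (stabilizer G b ⊓ stabilizer G c : Subgroup G)) ∧ x ∈ Subgroup.normalizer (T : Set G) ∧
        t ∈ T} + 2 ^ e * Nat.card {t : G // Free Ω t ∧
          x ∈ Subgroup.normalizer ((Subgroup.centralizer ({t} : Set G) : Subgroup G) : Set G)} := by
  classical
  haveI := Fintype.ofFinite G
  have hx1 := H.ne_one_of_fix1 hx
  set R₂ : Subgroup G → Prop := fun T => ∃ b c : Ω, b ≠ c ∧
    T = (stabilizer G b ⊓ stabilizer G c : Subgroup G) with hR₂
  set R₀ : Subgroup G → Prop := fun T => ∃ g : G, Free Ω g ∧ T = Subgroup.centralizer ({g} : Set G) with hR₀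
  have hR₂' : ∀ T : Subgroup G, R₂ T →
      IsT T ∧ Nat.card (Subgroup.normalizer (T : Set G)) = 2 ^ 1 * Nat.card T := by
    rintro T ⟨b, c, hbc, rfl⟩
    exact ⟨H.isT_two hd hbc, H.card_normalizer_two hd hbc⟩
  have hR₀' : ∀ T : Subgroup G, R₀ T →
      IsT T ∧ Nat.card (Subgroup.normalizer (T : Set G)) = 2 ^ e * Nat.card T := by
    rintro T ⟨g, hg, rfl⟩
    exact ⟨H.isT_free hg, hN g hg⟩
  have f2 := H.card_fiber R₂ hR₂' hx
  have f0 := H.card_fiber R₀ hR₀' hx
  have g0 : Nat.card {t : G // t ≠ 1 ∧ ∃ T : Subgroup G, R₀ T ∧ x ∈ Subgroup.normalizer (T : Set G) ∧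
        t ∈ T} = Nat.card {t : G // Free Ω t ∧
          x ∈ Subgroup.normalizer ((Subgroup.centralizer ({t} : Set G) : Subgroup G) : Set G)} := by
    apply Nat.card_congr
    apply Equiv.subtypeEquivRight
    intro t
    constructor
    · rintro ⟨ht1, T, ⟨g, hg, rfl⟩, hxT, htT⟩
      refine ⟨H.free_of_mem hg htT ht1, ?_⟩
      rw [(H.isT_free hg).cent t htT ht1]
      exact hxT
    · rintro ⟨hf, hxT⟩
      refine ⟨?_, _, ⟨t, hf, rfl⟩, hxT, Subgroup.mem_centralizer_singleton_iff.2 rfl⟩
      rintro rfl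
      exact hf a (one_smul _ _)
  rw [g0] at f0
  rw [pow_one] at f2
  rw [← f2, ← f0, ← H.card_map_one a a]
  rw [Nat.card_eq_fintype_card, Fintype.card_subtype, Nat.card_eq_fintype_card, Fintype.card_subtype,
    Nat.card_eq_fintype_card, Fintype.card_subtype, Nat.card_eq_fintype_card, Fintype.card_subtype]
  rw [← Finset.card_union_of_disjoint, ← Finset.card_union_of_disjoint]
  · congr 1
    ext y
    simp only [Finset.mem_filter, Finset.mem_univ, true_and, Finset.mem_union]
    rw [H.solvable_iff (H.card_normalizer hd hN) hx1]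
    constructor
    · rintro (⟨c, hc, hyc⟩ | ⟨T, hT, hxT, hyT⟩)
      · rw [(hx c).1 hc] at hyc
        exact Or.inl (Or.inl hyc)
      · by_cases hya : y • a = a
        · exact Or.inl (Or.inl hya)
        · rcases H.isT_cases hT with h1 | h1
          · exact Or.inr ⟨hya, T, h1, hxT, hyT⟩
          · exact Or.inl (Or.inr ⟨hya, T, h1, hxT, hyT⟩)
    · rintro ((h1 | ⟨-, T, hT, h2, h3⟩) | ⟨-, T, hT, h2, h3⟩)
      · exact Or.inl ⟨a, (hx a).2 rfl, h1⟩
      · exact Or.inr ⟨T, (hR₂' T hT).1, h2, h3⟩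
      · exact Or.inr ⟨T, (hR₀' T hT).1, h2, h3⟩
  · rw [Finset.disjoint_left]
    intro y hy hy'
    simp only [Finset.mem_filter, Finset.mem_univ, true_and, Finset.mem_union] at hy hy'
    obtain ⟨hya, T', hT', h3, h4⟩ := hy'
    rcases hy with h | ⟨-, T, hT, h1, h2⟩
    · exact hya h
    · apply hya
      refine H.fix_of_two_tori (hR₂' T hT).1 (hR₀' T' hT').1 (hR₂' T hT).2 (hR₀' T' hT').2 ?_ hx h1 h3 h2 h4
      rintro rfl
      obtain ⟨b, c, hbc, rfl⟩ := hT
      obtain ⟨g, hg, hgT⟩ := hT'
      have hmem : g ∈ (stabilizer G b ⊓ stabilizer G c : Subgroup G) := by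
        rw [hgT]
        exact Subgroup.mem_centralizer_singleton_iff.2 rfl
      exact hg b hmem.1
  · rw [Finset.disjoint_left]
    intro y hy hy'
    simp only [Finset.mem_filter, Finset.mem_univ, true_and] at hy hy'
    exact hy'.1 hy

/-! ### Counting the elements with exactly one fixed point -/

theorem card_fix1_at (a : Ω) : Nat.card {x : G // Fix1 x a} = n - 1 := by
  classical
  haveI := Fintype.ofFinite G
  haveI := Fintype.ofFinite Ω
  have h1 := H.card_map_one a a
  -- elements fixing `a` and a further point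
  have h2 : Nat.card {x : G // x ≠ 1 ∧ x • a = a ∧ ∃ b, b ≠ a ∧ x • b = b} = n * (d - 1) := by
    have e : {x : G // x ≠ 1 ∧ x • a = a ∧ ∃ b, b ≠ a ∧ x • b = b} ≃
        Σ b : {b : Ω // b ≠ a}, {x : G // x ≠ 1 ∧ x • a = a ∧ x • (b : Ω) = b} :=
      { toFun := fun x => ⟨⟨x.2.2.2.choose, x.2.2.2.choose_spec.1⟩,
          ⟨x.1, x.2.1, x.2.2.1, x.2.2.2.choose_spec.2⟩⟩
        invFun := fun t => ⟨t.2.1, t.2.2.1, t.2.2.2.1, ⟨t.1.1, t.1.2, t.2.2.2.2⟩⟩
        left_inv := fun x => rfl
        right_inv := by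
          rintro ⟨⟨b, hb⟩, ⟨x, hx⟩⟩
          have hex : ∃ b, b ≠ a ∧ x • b = b := ⟨b, hb, hx.2.2⟩
          have hb' : hex.choose = b := by
            by_contra hne
            exact hx.1 (H.three x a b hex.choose (Ne.symm hb) (Ne.symm hex.choose_spec.1)
              (Ne.symm hne) hx.2.1 hx.2.2 hex.choose_spec.2)
          have key : ∀ (c : Ω) (hc : c ≠ a) (hxc : x • c = c), c = b →
              (⟨⟨c, hc⟩, ⟨x, hx.1, hx.2.1, hxc⟩⟩ : Σ b : {b : Ω // b ≠ a},
                {x : G // x ≠ 1 ∧ x • a = a ∧ x • (b : Ω) = b}) = ⟨⟨b, hb⟩, ⟨x, hx⟩⟩ := by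
            rintro c hc hxc rfl
            rfl
          exact key _ hex.choose_spec.1 hex.choose_spec.2 hb' }
    rw [Nat.card_congr e, Nat.card_sigma]
    have h3 : ∀ b : {b : Ω // b ≠ a}, Nat.card {x : G // x ≠ 1 ∧ x • a = a ∧ x • (b : Ω) = b} = d - 1 := by
      rintro ⟨b, hb⟩
      have h4 := H.card_map (G := G) (Ne.symm hb) (Ne.symm hb)
      rw [Nat.card_eq_fintype_card, Fintype.card_subtype] at h4 ⊢
      rw [← h4]
      have e5 : (Finset.univ.filter (fun x : G => x ≠ 1 ∧ x • a = a ∧ x • b = b)) =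
          (Finset.univ.filter (fun x : G => x • a = a ∧ x • b = b)).erase 1 := by
        ext x
        simp only [Finset.mem_filter, Finset.mem_univ, true_and, Finset.mem_erase]
      rw [e5, Finset.card_erase_of_mem]
      simp
    rw [Finset.sum_congr rfl (fun b _ => h3 b), Finset.sum_const, smul_eq_mul, Finset.card_univ,
      ← Nat.card_eq_fintype_card, H.card_ne]
  rw [Nat.card_eq_fintype_card, Fintype.card_subtype] at h1 h2 ⊢
  have e1 : (Finset.univ.filter (fun x : G => x • a = a)) =
      ((Finset.univ.filter (fun x : G => Fix1 x a)) ∪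
      (Finset.univ.filter (fun x : G => x ≠ 1 ∧ x • a = a ∧ ∃ b, b ≠ a ∧ x • b = b))) ∪ {1} := by
    ext x
    simp only [Finset.mem_filter, Finset.mem_univ, true_and, Finset.mem_union, Finset.mem_singleton]
    constructor
    · intro hx
      by_cases hx1 : x = 1
      · exact Or.inr hx1
      · left
        by_cases h : ∃ b, b ≠ a ∧ x • b = b
        · exact Or.inr ⟨hx1, hx, h⟩
        · left
          intro b
          constructor
          · intro hb
            by_contra hne
            exact h ⟨b, hne, hb⟩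
          · rintro rfl
            exact hx
    · rintro ((h | h) | rfl)
      · exact (h a).2 rfl
      · exact h.2.1
      · exact one_smul _ _
  have d1 : Disjoint (Finset.univ.filter (fun x : G => Fix1 x a))
      (Finset.univ.filter (fun x : G => x ≠ 1 ∧ x • a = a ∧ ∃ b, b ≠ a ∧ x • b = b)) := by
    rw [Finset.disjoint_filter]
    rintro x - hx ⟨-, -, b, hb, hxb⟩
    exact hb ((hx b).1 hxb)
  have d2 : Disjoint ((Finset.univ.filter (fun x : G => Fix1 x a)) ∪
      (Finset.univ.filter (fun x : G => x ≠ 1 ∧ x • a = a ∧ ∃ b, b ≠ a ∧ x • b = b))) {1} := by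
    rw [Finset.disjoint_singleton_right]
    intro h
    simp only [Finset.mem_filter, Finset.mem_univ, true_and, Finset.mem_union] at h
    rcases h with h | h
    · exact H.ne_one_of_fix1 h rfl
    · exact h.1 rfl
  rw [e1, Finset.card_union_of_disjoint d2, Finset.card_union_of_disjoint d1, h2,
    Finset.card_singleton] at h1
  have h5 := H.n_pos
  obtain ⟨k, rfl⟩ : ∃ k, d = k + 1 := ⟨d - 1, by have := H.odd_d.pos; omega⟩
  have h6 : n * (k + 1) = n * k + n := by ring
  rw [Nat.add_sub_cancel, h6] at h1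
  omega

/-- The 2-elements form the union of the point stabilisers' normal 2-subgroups: counting a
conjugation-invariant set of elements with exactly one fixed point. -/
theorem card_of_fix1 (P : G → Prop) (hP : ∀ x : G, P x → ∃ a : Ω, Fix1 x a)
    (hc : ∀ g x : G, P x → P (g * x * g⁻¹)) (a : Ω) :
    Nat.card {x : G // P x} = (n + 1) * Nat.card {x : G // P x ∧ x • a = a} := by
  classical
  haveI := Fintype.ofFinite G
  haveI := Fintype.ofFinite Ω
  have e : {x : G // P x} ≃ Σ b : Ω, {x : G // P x ∧ x • b = b} :=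
    { toFun := fun x => ⟨(hP x.1 x.2).choose, ⟨x.1, x.2, ((hP x.1 x.2).choose_spec _).2 rfl⟩⟩
      invFun := fun t => ⟨t.2.1, t.2.2.1⟩
      left_inv := fun x => rfl
      right_inv := by
        rintro ⟨b, ⟨x, hx⟩⟩
        have hb' : (hP x hx.1).choose = b := (((hP x hx.1).choose_spec b).1 hx.2).symm
        have key : ∀ (c : Ω) (hxc : x • c = c), c = b →
            (⟨c, ⟨x, hx.1, hxc⟩⟩ : Σ b : Ω, {x : G // P x ∧ x • b = b}) = ⟨b, ⟨x, hx⟩⟩ := by
          rintro c hxc rfl
          rfl
        exact key _ (((hP x hx.1).choose_spec _).2 rfl) hb' }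
  rw [Nat.card_congr e, Nat.card_sigma]
  have h3 : ∀ b : Ω, Nat.card {x : G // P x ∧ x • b = b} = Nat.card {x : G // P x ∧ x • a = a} := by
    intro b
    obtain ⟨c, hc'⟩ := H.exists_ne_point b
    obtain ⟨c', hc''⟩ := H.exists_ne_point a
    obtain ⟨g, hg, -⟩ := H.trans b c a c' (Ne.symm hc') (Ne.symm hc'')
    apply Nat.card_congr
    refine (MulAut.conj g).toEquiv.subtypeEquiv ?_
    intro x
    show P x ∧ x • b = b ↔ P (g * x * g⁻¹) ∧ (g * x * g⁻¹) • a = a
    have hsm : (g * x * g⁻¹) • a = a ↔ x • b = b := by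
      rw [← hg, mul_smul, mul_smul, inv_smul_smul]
      exact smul_left_cancel_iff g
    rw [hsm]
    constructor
    · rintro ⟨h1, h2⟩
      exact ⟨hc g x h1, h2⟩
    · rintro ⟨h1, h2⟩
      refine ⟨?_, h2⟩
      have := hc g⁻¹ _ h1
      have e2 : g⁻¹ * (g * x * g⁻¹) * g⁻¹⁻¹ = x := by group
      rwa [e2] at this
  rw [Finset.sum_congr rfl (fun b _ => h3 b), Finset.sum_const, smul_eq_mul, Finset.card_univ,
    ← Nat.card_eq_fintype_card, H.card_set]

/-! ### Conjugacy of involutions and double counting -/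

theorem isConj_of_involution_ne {x y : G} (hx : orderOf x = 2) (hy : orderOf y = 2) {a b : Ω}
    (ha : Fix1 x a) (hb : Fix1 y b) (hab : a ≠ b) : ∃ g : G, g * y * g⁻¹ = x := by
  have hxx : x * x = 1 := by
    have := pow_orderOf_eq_one x
    rwa [hx, sq] at this
  have hyy : y * y = 1 := by
    have := pow_orderOf_eq_one y
    rwa [hy, sq] at this
  have hxi : x⁻¹ = x := inv_eq_of_mul_eq_one_left hxx
  have hyi : y⁻¹ = y := inv_eq_of_mul_eq_one_left hyy
  set w := x * y with hw
  have hwinv : w⁻¹ = y * x := by rw [hw, mul_inv_rev, hxi, hyi]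
  have hyw : ∀ k : ℕ, y * w ^ k * y⁻¹ = (w ^ k)⁻¹ := by
    intro k
    rw [← conj_pow, ← inv_pow]
    congr 1
    rw [hwinv, hw, hyi, mul_assoc, mul_assoc, hyy, mul_one]
  have hxw : ∀ k : ℕ, x * w ^ k * x⁻¹ = (w ^ k)⁻¹ := by
    intro k
    rw [← conj_pow, ← inv_pow]
    congr 1
    rw [hwinv, hw, hxi, ← mul_assoc, hxx, one_mul]
  have hodd : Odd (orderOf w) := by
    by_contra hev
    rw [Nat.not_odd_iff_even] at hev
    obtain ⟨k, hk⟩ := hev
    set z := w ^ k with hz
    have hpos := orderOf_pos w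
    have hzz : z * z = 1 := by
      rw [hz, ← pow_add, ← hk, pow_orderOf_eq_one]
    have hz1 : z ≠ 1 := by
      intro h1
      have := orderOf_le_of_pow_eq_one (by omega : 0 < k) h1
      omega
    have hzi : z⁻¹ = z := inv_eq_of_mul_eq_one_left hzz
    obtain ⟨c, hc⟩ := H.fix1_of_pow hz1 (k := 1) (by rw [pow_one, sq, hzz])
    have h1 : z • (x • c) = x • c := by
      have h2 := hxw k
      rw [← hz, hzi] at h2
      rw [mul_inv_eq_iff_eq_mul] at h2
      rw [← mul_smul, ← h2, mul_smul, (hc c).2 rfl]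
    have h2 : z • (y • c) = y • c := by
      have h2 := hyw k
      rw [← hz, hzi] at h2
      rw [mul_inv_eq_iff_eq_mul] at h2
      rw [← mul_smul, ← h2, mul_smul, (hc c).2 rfl]
    exact hab (((ha c).1 ((hc _).1 h1)).symm.trans ((hb c).1 ((hc _).1 h2)))
  obtain ⟨k, hk⟩ := hodd
  refine ⟨w ^ (k + 1), ?_⟩
  have h1 : y * (w ^ (k + 1))⁻¹ = w ^ (k + 1) * y := by
    have h2 := hyw (k + 1)
    rw [← h2, ← mul_assoc, ← mul_assoc, hyy, one_mul, hyi]
  rw [mul_assoc, h1, ← mul_assoc, ← pow_add]
  have h2 : k + 1 + (k + 1) = orderOf w + 1 := by omega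
  rw [h2, pow_succ, pow_orderOf_eq_one, one_mul, hw, mul_assoc, hyy, mul_one]

theorem isConj_of_involution {x y : G} (hx : orderOf x = 2) (hy : orderOf y = 2) :
    ∃ g : G, g * y * g⁻¹ = x := by
  have key : ∀ x : G, orderOf x = 2 → ∃ a : Ω, Fix1 x a := by
    intro x hx
    apply H.fix1_of_pow (k := 1)
    · intro h1
      rw [h1, orderOf_one] at hx
      omega
    · rw [pow_one, ← hx, pow_orderOf_eq_one]
  obtain ⟨a, ha⟩ := key x hx
  obtain ⟨b, hb⟩ := key y hy
  by_cases hab : a = b
  · subst hab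
    obtain ⟨c, hc⟩ := H.exists_ne_point a
    obtain ⟨g, hg, -⟩ := H.trans a c c a (Ne.symm hc) hc
    have hz : orderOf (g * x * g⁻¹) = 2 := by
      rw [← hx]
      exact (MulAut.conj g).orderOf_eq x
    have hfz : Fix1 (g * x * g⁻¹) c := by
      intro u
      rw [mul_smul, mul_smul, ← eq_inv_smul_iff, ha, inv_smul_eq_iff, hg]
    obtain ⟨g₁, hg₁⟩ := H.isConj_of_involution_ne hx hz ha hfz (Ne.symm hc)
    obtain ⟨g₂, hg₂⟩ := H.isConj_of_involution_ne hz hy hfz hb hc
    refine ⟨g₁ * g₂, ?_⟩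
    calc g₁ * g₂ * y * (g₁ * g₂)⁻¹ = g₁ * (g₂ * y * g₂⁻¹) * g₁⁻¹ := by group
      _ = x := by rw [hg₂, hg₁]
  · exact H.isConj_of_involution_ne hx hy ha hb hab

end Hyp

/-- the number of fixed-point-free elements `t` with `x ∈ N(C(t))` -/
noncomputable def phi (Ω : Type*) {G : Type*} [Group G] [MulAction G Ω] (x : G) : ℕ :=
  Nat.card {t : G // Free Ω t ∧
    x ∈ Subgroup.normalizer ((Subgroup.centralizer ({t} : Set G) : Subgroup G) : Set G)}

theorem free_conj {G Ω : Type*} [Group G] [MulAction G Ω] {t : G} (g : G) :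
    Free Ω (g * t * g⁻¹) ↔ Free Ω t := by
  constructor
  · intro h a ha
    apply h (g • a)
    rw [mul_smul, mul_smul, inv_smul_smul, ha]
  · intro h a ha
    apply h (g⁻¹ • a)
    rw [mul_smul, mul_smul] at ha
    rw [eq_inv_smul_iff]
    exact ha

theorem phi_conj {G Ω : Type*} [Group G] [MulAction G Ω] (g x : G) :
    phi Ω (g * x * g⁻¹) = phi Ω x := by
  symm
  apply Nat.card_congr
  refine (MulAut.conj g).toEquiv.subtypeEquiv ?_
  intro t
  show _ ↔ Free Ω (g * t * g⁻¹) ∧ g * x * g⁻¹ ∈
    Subgroup.normalizer ((Subgroup.centralizer ({g * t * g⁻¹} : Set G) : Subgroup G) : Set G)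
  rw [free_conj, mem_normalizer_centralizer_iff_conj]

theorem phi_inv {G Ω : Type*} [Group G] [MulAction G Ω] (x : G) :
    phi Ω x⁻¹ = phi Ω x := by
  apply Nat.card_congr
  apply Equiv.subtypeEquivRight
  intro t
  rw [inv_mem_iff]

/-- Double counting. -/
theorem card_mul_phi {G Ω : Type*} [Group G] [Finite G] [MulAction G Ω] (P : G → Prop) (f c : ℕ)
    (hf : ∀ x, P x → phi Ω x = f)
    (hc : ∀ t : G, Free Ω t → Nat.card {x : G // x ∈ Subgroup.normalizer
      ((Subgroup.centralizer ({t} : Set G) : Subgroup G) : Set G) ∧ P x} =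
        c * Nat.card (Subgroup.centralizer ({t} : Set G))) :
    Nat.card {x : G // P x} * f =
      c * ∑ᶠ t : {t : G // Free Ω t}, Nat.card (Subgroup.centralizer ({(t : G)} : Set G)) := by
  classical
  haveI := Fintype.ofFinite G
  rw [finsum_eq_sum_of_fintype, Finset.mul_sum]
  have e : (Σ x : {x : G // P x}, {t : G // Free Ω t ∧
      (x : G) ∈ Subgroup.normalizer ((Subgroup.centralizer ({t} : Set G) : Subgroup G) : Set G)}) ≃
      (Σ t : {t : G // Free Ω t}, {x : G // x ∈ Subgroup.normalizer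
      ((Subgroup.centralizer ({(t : G)} : Set G) : Subgroup G) : Set G) ∧ P x}) :=
    { toFun := fun u => ⟨⟨u.2.1, u.2.2.1⟩, ⟨u.1.1, u.2.2.2, u.1.2⟩⟩
      invFun := fun u => ⟨⟨u.2.1, u.2.2.2⟩, ⟨u.1.1, u.1.2, u.2.2.1⟩⟩
      left_inv := fun u => rfl
      right_inv := fun u => rfl }
  have h := Nat.card_congr e
  rw [Nat.card_sigma, Nat.card_sigma] at h
  have h1 : ∀ x : {x : G // P x}, Nat.card {t : G // Free Ω t ∧
      (x : G) ∈ Subgroup.normalizer ((Subgroup.centralizer ({t} : Set G) : Subgroup G) : Set G)} = f :=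
    fun x => hf x.1 x.2
  rw [Finset.sum_congr rfl (fun x _ => h1 x), Finset.sum_const, smul_eq_mul, Finset.card_univ,
    ← Nat.card_eq_fintype_card] at h
  rw [h]
  apply Finset.sum_congr rfl
  intro t _
  exact hc t.1 t.2

end Cfsg.Agent.H102.RankOneSol
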