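import Mathlib
import Cfsg.Agent.H102.PslAct
import Cfsg.Agent.H102.RankOneSol
import Cfsg.Agent.Blocks.ClassScalar

/-!
# Solubilizers in `PSL(2, 3 ^ p)`, `p` an odd prime
-/

set_option autoImplicit false
set_option linter.unusedSectionVars false
set_option linter.style.haveILetI false

namespace Cfsg.Agent.H102.PslThree

open Matrix OnePoint MulAction
open Cfsg.Agent.OddCyclic.Zass
open Cfsg.Agent.H102.PslAct
open Cfsg.Agent.H102.RankOneSol (Free Fix1 Fix2)

attribute [local instance] act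

variable {F : Type*} [Field F] [DecidableEq F]

theorem mk_eq_one {A : SpecialLinearGroup (Fin 2) F} (h01 : A 0 1 = 0) (h10 : A 1 0 = 0)
    (h : A 0 0 = A 1 1) : (QuotientGroup.mk A : PSL F) = 1 := by
  rw [QuotientGroup.eq_one_iff, Matrix.SpecialLinearGroup.mem_center_iff]
  refine ⟨A 0 0, ?_, ?_⟩
  · have := det_eq A
    rw [h01, zero_mul, sub_zero, ← h] at this
    rw [Fintype.card_fin, sq]
    exact this
  · ext i j
    fin_cases i <;> fin_cases j <;> simp [h01, h10, h]

theorem mk_neg (A : SpecialLinearGroup (Fin 2) F) :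
    (QuotientGroup.mk (-A) : PSL F) = QuotientGroup.mk A := by
  rw [← neg_one_mul A, QuotientGroup.mk_mul, mk_eq_one (A := -1), one_mul]
  · simp
  · simp
  · simp

/-- elements of `SL(2, F)` with the same image -/
theorem eq_or_eq_neg {A B : SpecialLinearGroup (Fin 2) F}
    (h : (QuotientGroup.mk A : PSL F) = QuotientGroup.mk B) : A = B ∨ A = -B := by
  have h1 : B⁻¹ * A ∈ Subgroup.center (SpecialLinearGroup (Fin 2) F) := by
    rw [← QuotientGroup.eq]
    exact h.symm
  rw [Matrix.SpecialLinearGroup.mem_center_iff] at h1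
  obtain ⟨r, hr, hr'⟩ := h1
  rw [Fintype.card_fin] at hr
  have h2 : B⁻¹ * A = 1 ∨ B⁻¹ * A = -1 := by
    have h3 : (r - 1) * (r + 1) = 0 := by linear_combination hr
    rcases mul_eq_zero.1 h3 with h | h
    · left
      have h4 : r = 1 := sub_eq_zero.1 h
      apply Subtype.ext
      rw [← hr', h4]
      ext i j
      fin_cases i <;> fin_cases j <;> simp
    · right
      have h4 : r = -1 := eq_neg_of_add_eq_zero_left h
      apply Subtype.ext
      rw [← hr', h4]
      ext i j
      fin_cases i <;> fin_cases j <;> simp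
  rcases h2 with h2 | h2
  · left
    rw [inv_mul_eq_one] at h2
    exact h2.symm
  · right
    rw [inv_mul_eq_iff_eq_mul] at h2
    rw [h2, mul_neg, mul_one]

/-- an element interchanging two points is an involution -/
theorem swap_sq {a b : OnePoint F} (hab : a ≠ b) {g : PSL F} (h1 : g • a = b) (h2 : g • b = a) :
    g * g = 1 := by
  obtain ⟨w, hw1, hw2⟩ := exists_pair hab
  obtain ⟨A, hA⟩ := QuotientGroup.mk_surjective (w⁻¹ * g * w)
  have e1 : (w⁻¹ * g * w) • (∞ : OnePoint F) = ((0 : F) : OnePoint F) := by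
    rw [mul_smul, mul_smul, hw1, h1, ← hw2, inv_smul_smul]
  have e2 : (w⁻¹ * g * w) • ((0 : F) : OnePoint F) = (∞ : OnePoint F) := by
    rw [mul_smul, mul_smul, hw2, h2, ← hw1, inv_smul_smul]
  rw [← hA, mk_smul, smul_infty'] at e1
  rw [← hA, mk_smul, smul_coe'] at e2
  have hA11 : A 1 1 = 0 := by
    by_contra h
    rw [mul_zero, zero_add, if_neg h] at e2
    exact OnePoint.coe_ne_infty _ e2
  have hA10 : A 1 0 ≠ 0 := by
    intro h
    have := det_eq A
    rw [h, hA11, mul_zero, mul_zero, sub_zero] at this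
    exact zero_ne_one this
  have hA00 : A 0 0 = 0 := by
    rw [if_neg hA10, OnePoint.coe_eq_coe] at e1
    rcases div_eq_zero_iff.1 e1 with h | h
    · exact h
    · exact absurd h hA10
  have e3 : (w⁻¹ * g * w) * (w⁻¹ * g * w) = 1 := by
    rw [← hA, ← QuotientGroup.mk_mul]
    apply mk_eq_one
    · rw [mul01, hA00, hA11]; ring
    · rw [mul10, hA00, hA11]; ring
    · rw [mul00, mul11, hA00, hA11]; ring
  have e4 : g * g = w * ((w⁻¹ * g * w) * (w⁻¹ * g * w)) * w⁻¹ := by group
  rw [e4, e3, mul_one, mul_inv_cancel]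

/-- an element interchanging two points inverts their stabiliser -/
theorem swap_conj {a b : OnePoint F} (hab : a ≠ b) {g t : PSL F} (h1 : g • a = b) (h2 : g • b = a)
    (ha : t • a = a) (hb : t • b = b) : g * t * g⁻¹ = t⁻¹ := by
  have h3 := swap_sq hab h1 h2
  have h4 := swap_sq (g := g * t) hab (by rw [mul_smul, ha, h1]) (by rw [mul_smul, hb, h2])
  have h5 : g⁻¹ = g := inv_eq_of_mul_eq_one_left h3
  rw [h5]
  apply eq_inv_of_mul_eq_one_left
  calc g * t * g * t = g * t * (g * t) := by group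
    _ = 1 := h4

theorem fix_cases {g : PSL F} (hg : g ≠ 1) :
    Free (OnePoint F) g ∨ (∃ a : OnePoint F, Fix1 g a) ∨
      (∃ a b : OnePoint F, a ≠ b ∧ Fix2 g a b) := by
  by_cases hf : Free (OnePoint F) g
  · exact Or.inl hf
  · right
    unfold Free at hf
    push Not at hf
    obtain ⟨a, ha⟩ := hf
    by_cases h1 : ∀ x : OnePoint F, g • x = x → x = a
    · exact Or.inl ⟨a, fun x => ⟨h1 x, fun h => h ▸ ha⟩⟩
    · push Not at h1
      obtain ⟨b, hb, hba⟩ := h1
      refine Or.inr ⟨a, b, Ne.symm hba, fun x => ⟨fun hx => ?_, ?_⟩⟩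
      · by_contra hcon
        push Not at hcon
        exact hg (three (Ne.symm hba) (Ne.symm hcon.1) (Ne.symm hcon.2) ha hb hx)
      · rintro (h | h)
        · rw [h]; exact ha
        · rw [h]; exact hb

theorem fix2_of_mem {a b : OnePoint F} (hab : a ≠ b) {t : PSL F} (ha : t • a = a) (hb : t • b = b)
    (h1 : t ≠ 1) : Fix2 t a b := by
  intro x
  constructor
  · intro hx
    by_contra hcon
    push Not at hcon
    exact h1 (three hab (Ne.symm hcon.1) (Ne.symm hcon.2) ha hb hx)
  · rintro (rfl | rfl)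
    · exact ha
    · exact hb

/-- an element fixing only infinity is a transvection -/
theorem exists_up {g : PSL F} (h : Fix1 g (∞ : OnePoint F)) :
    ∃ t : F, t ≠ 0 ∧ g = QuotientGroup.mk (up t) := by
  obtain ⟨A, hA, hg⟩ := exists_mk_of_infty ((h ∞).2 rfl)
  have hdet := det_eq A
  rw [hA, mul_zero, sub_zero] at hdet
  have h11 : A 1 1 ≠ 0 := fun h' => by rw [h', mul_zero] at hdet; exact zero_ne_one hdet
  have heq : A 0 0 = A 1 1 := by
    by_contra hne
    have hne' : A 1 1 - A 0 0 ≠ 0 := fun h' => hne (sub_eq_zero.1 h').symm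
    have h1 : g • ((A 0 1 / (A 1 1 - A 0 0) : F) : OnePoint F) =
        ((A 0 1 / (A 1 1 - A 0 0) : F) : OnePoint F) := by
      rw [hg, mk_smul, smul_coe', hA, zero_mul, zero_add, if_neg h11, OnePoint.coe_eq_coe]
      field_simp
      ring
    exact OnePoint.coe_ne_infty _ ((h _).1 h1)
  have h00 : A 0 0 ≠ 0 := by rw [heq]; exact h11
  have hg' : g = QuotientGroup.mk (up (A 0 1 / A 0 0)) := by
    have h1 : (QuotientGroup.mk A : PSL F) * QuotientGroup.mk (up (-(A 0 1 / A 0 0))) = 1 := by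
      rw [← QuotientGroup.mk_mul]
      apply mk_eq_one
      · rw [mul01]
        simp only [up, mk01, mk11]
        field_simp
        ring
      · rw [mul10, hA]
        simp [up]
      · rw [mul00, mul11, hA]
        simp [up, heq]
    have h2 : (QuotientGroup.mk (up (A 0 1 / A 0 0)) : PSL F) *
        QuotientGroup.mk (up (-(A 0 1 / A 0 0))) = 1 := by
      rw [← QuotientGroup.mk_mul, up_mul, add_neg_cancel]
      apply mk_eq_one <;> simp [up]
    rw [hg]
    exact mul_right_cancel (h1.trans h2.symm)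
  refine ⟨_, ?_, hg'⟩
  intro h0
  rw [h0] at hg'
  have h1 : g • ((0 : F) : OnePoint F) = ((0 : F) : OnePoint F) := by
    rw [hg', mk_smul, up_smul, add_zero]
  exact OnePoint.coe_ne_infty _ ((h _).1 h1)

/-- the numerical hypotheses -/
structure Q3 (F : Type*) [Field F] [Fintype F] (e d : ℕ) : Prop where
  three : (3 : F) = 0
  q_eq : Fintype.card F = 2 * d + 1
  e_eq : e = d + 1
  e_mod : e % 4 = 2
  e3 : ¬ 3 ∣ e
  d3 : ¬ 3 ∣ d

theorem q3 [Fintype F] {p : ℕ} (hodd : Odd p) (hF : Fintype.card F = 3 ^ p) :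
    Q3 F ((3 ^ p + 1) / 2) ((3 ^ p - 1) / 2) := by
  obtain ⟨k, hk⟩ := hodd
  have h8 : 3 ^ p % 8 = 3 := by
    rw [hk, pow_succ, pow_mul, Nat.mul_mod, Nat.pow_mod]
    norm_num
  have h3 : 3 ∣ 3 ^ p := dvd_pow_self 3 (by omega)
  refine ⟨?_, ?_, ?_, ?_, ?_, ?_⟩
  · haveI : CharP F 3 := charP_of_card_eq_prime_pow hF
    exact_mod_cast CharP.cast_eq_zero F 3
  · rw [hF]; omega
  · omega
  · omega
  · omega
  · omega

section q3

variable [Fintype F] {e d : ℕ} (hQ : Q3 F e d)
include hQ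

theorem d_odd : Odd d := by
  have h1 := hQ.e_mod
  have h2 := hQ.e_eq
  rw [Nat.odd_iff]
  omega

theorem e_even : 2 ∣ e := by
  have h1 := hQ.e_mod
  omega

theorem two_ne : (2 : F) ≠ 0 := by
  intro h
  have h1 := hQ.three
  have : (1 : F) = 0 := by linear_combination h1 - h
  exact one_ne_zero this

theorem ord : Ord F e d := by
  have h1 : Odd (Fintype.card F) := ⟨d, hQ.q_eq⟩
  have h2 := ord_odd h1
  have h3 : (Fintype.card F + 1) / 2 = e := by
    rw [hQ.q_eq, hQ.e_eq]; omega
  have h4 : (Fintype.card F - 1) / 2 = d := by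
    rw [hQ.q_eq]; omega
  rwa [h3, h4] at h2

theorem orderOf_dvd_d {g : PSL F} {a b : OnePoint F} (hab : a ≠ b) (ha : g • a = a)
    (hb : g • b = b) : orderOf g ∣ d := by
  haveI := finite_psl F
  rw [← card_two (ord hQ).card2 hab]
  have hmem : g ∈ (stabilizer (PSL F) a ⊓ stabilizer (PSL F) b : Subgroup (PSL F)) := ⟨ha, hb⟩
  have := orderOf_dvd_natCard (⟨g, hmem⟩ :
    (stabilizer (PSL F) a ⊓ stabilizer (PSL F) b : Subgroup (PSL F)))
  rwa [Subgroup.orderOf_mk] at this

theorem orderOf_dvd_e {a s : PSL F} (T : Tor a s e) {t : PSL F} (ht : t ∈ Subgroup.zpowers a) :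
    orderOf t ∣ e := by
  have := orderOf_dvd_natCard (⟨t, ht⟩ : Subgroup.zpowers a)
  rwa [Subgroup.orderOf_mk, Nat.card_zpowers, T.ord] at this

theorem up_pow_three (t : F) : (QuotientGroup.mk (up t) : PSL F) ^ 3 = 1 := by
  rw [pow_succ, sq, ← QuotientGroup.mk_mul, ← QuotientGroup.mk_mul, up_mul, up_mul]
  have h : t + t + t = 0 := by linear_combination t * hQ.three
  rw [h]
  apply mk_eq_one <;> simp [up]

theorem exists_conj_up {g : PSL F} {a : OnePoint F} (h : Fix1 g a) :
    ∃ (w : PSL F) (t : F), t ≠ 0 ∧ w⁻¹ * g * w = QuotientGroup.mk (up t) ∧ w • (∞ : OnePoint F) = a := by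
  obtain ⟨w, hw⟩ := exists_smul_infty a
  have h1 : Fix1 (w⁻¹ * g * w) (∞ : OnePoint F) := by
    intro x
    rw [mul_smul, mul_smul, inv_smul_eq_iff, h, ← hw]
    exact smul_left_cancel_iff w
  obtain ⟨t, ht, e⟩ := exists_up h1
  exact ⟨w, t, ht, e, hw⟩

theorem pow_three_of_fix1 {g : PSL F} {a : OnePoint F} (h : Fix1 g a) : g ^ 3 = 1 := by
  obtain ⟨w, t, -, e, -⟩ := exists_conj_up hQ h
  have h1 := up_pow_three hQ t
  rw [← e] at h1
  have h2 : g ^ 3 = w * (w⁻¹ * g * w) ^ 3 * w⁻¹ := by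
    rw [show (w⁻¹ * g * w) ^ 3 = w⁻¹ * g ^ 3 * w by
      rw [pow_succ, sq, pow_succ, sq]; group]
    group
  rw [h2, h1, mul_one, mul_inv_cancel]

theorem ne_one_of_fix1 {g : PSL F} {a : OnePoint F} (h : Fix1 g a) : g ≠ 1 := by
  rintro rfl
  have h1 := (h (∞ : OnePoint F)).1 (one_smul _ _)
  have h2 := (h ((0 : F) : OnePoint F)).1 (one_smul _ _)
  exact OnePoint.coe_ne_infty _ (h2.trans h1.symm)

theorem orderOf_fix1 {g : PSL F} {a : OnePoint F} (h : Fix1 g a) : orderOf g = 3 :=
  orderOf_eq_prime (p := 3) (pow_three_of_fix1 hQ h) (ne_one_of_fix1 hQ h)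

/-- no element has order 4 -/
theorem sq_of_pow_four {g : PSL F} (hg : g ^ 4 = 1) : g * g = 1 := by
  by_cases h1 : g = 1
  · rw [h1, mul_one]
  have h4 : orderOf g ∣ 4 := orderOf_dvd_of_pow_eq_one hg
  have h5 : orderOf g ∣ 2 := by
    rcases fix_cases h1 with h | ⟨a, ha⟩ | ⟨a, b, hab, hf⟩
    · obtain ⟨a, s, T, hga⟩ := exists_tor_of_free (ord hQ) h
      have h6 := Nat.dvd_gcd h4 (orderOf_dvd_e hQ T hga)
      have h7 : Nat.gcd 4 e = 2 := by
        rw [Nat.gcd_rec, hQ.e_mod]
        rfl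
      rwa [h7] at h6
    · rw [orderOf_fix1 hQ ha] at h4
      omega
    · have h6 := orderOf_dvd_d hQ hab ((hf a).2 (Or.inl rfl)) ((hf b).2 (Or.inr rfl))
      have h7 : Nat.Coprime 4 d := by
        have : (4 : ℕ) = 2 ^ 2 := rfl
        rw [this]
        exact Nat.Coprime.pow_left 2 (Nat.coprime_two_left.2 (d_odd hQ))
      have h8 := Nat.dvd_gcd h4 h6
      rw [h7] at h8
      exact h8.trans (one_dvd 2)
  have := orderOf_dvd_iff_pow_eq_one.1 h5
  rwa [sq] at this

/-- involutions have no fixed points -/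
theorem free_of_inv {z : PSL F} (hz : z * z = 1) (h1 : z ≠ 1) : Free (OnePoint F) z := by
  have h2 : orderOf z = 2 := orderOf_eq_prime (p := 2) (by rw [sq, hz]) h1
  rcases fix_cases h1 with h | ⟨a, ha⟩ | ⟨a, b, hab, hf⟩
  · exact h
  · rw [orderOf_fix1 hQ ha] at h2
    omega
  · have h6 := orderOf_dvd_d hQ hab ((hf a).2 (Or.inl rfl)) ((hf b).2 (Or.inr rfl))
    rw [h2] at h6
    exact absurd (d_odd hQ) (Nat.not_odd_iff_even.2 (even_iff_two_dvd.2 h6))

theorem tor_of_inv {z : PSL F} (hz : z * z = 1) (h1 : z ≠ 1) :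
    ∃ a s : PSL F, Tor a s e ∧ z ∈ Subgroup.zpowers a :=
  exists_tor_of_free (ord hQ) (free_of_inv hQ hz h1)

/-- the involution of a torus is unique -/
theorem unique_inv {a s : PSL F} (_T : Tor a s e) {z t : PSL F} (hz : z ∈ Subgroup.zpowers a)
    (ht : t ∈ Subgroup.zpowers a) (hzz : z * z = 1) (htt : t * t = 1) (hz1 : z ≠ 1) (ht1 : t ≠ 1) :
    t = z := by
  classical
  haveI := finite_psl F
  haveI := Fintype.ofFinite (PSL F)
  haveI : IsCyclic (Subgroup.zpowers a) := inferInstance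
  by_contra hne
  have h1 := IsCyclic.card_pow_eq_one_le (α := Subgroup.zpowers a) (n := 2) (by norm_num)
  have h2 : ({1, ⟨z, hz⟩, ⟨t, ht⟩} : Finset (Subgroup.zpowers a)) ⊆
      Finset.univ.filter (fun x : Subgroup.zpowers a => x ^ 2 = 1) := by
    intro x hx
    simp only [Finset.mem_insert, Finset.mem_singleton] at hx
    simp only [Finset.mem_filter, Finset.mem_univ, true_and]
    rcases hx with rfl | rfl | rfl
    · exact one_pow 2
    · rw [sq]; exact Subtype.ext hzz
    · rw [sq]; exact Subtype.ext htt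
  have h3 := (Finset.card_le_card h2).trans h1
  rw [Finset.card_insert_of_notMem, Finset.card_insert_of_notMem, Finset.card_singleton] at h3
  · omega
  · simp only [Finset.mem_singleton]
    intro h
    exact hne (congrArg Subtype.val h).symm
  · simp only [Finset.mem_insert, Finset.mem_singleton, not_or]
    refine ⟨fun h => hz1 (congrArg Subtype.val h).symm, fun h => ht1 (congrArg Subtype.val h).symm⟩

/-- elements outside the torus in its normalizer -/
theorem sq_of_mul_s {a s : PSL F} (T : Tor a s e) {g : PSL F} (hg : g * s ∈ Subgroup.zpowers a) :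
    g * g = 1 ∧ ∀ t ∈ Subgroup.zpowers a, g * t * g⁻¹ = t⁻¹ := by
  have hz : ∀ t ∈ Subgroup.zpowers a, ∀ u ∈ Subgroup.zpowers a, t * u = u * t := by
    rintro _ ⟨k, rfl⟩ _ ⟨j, rfl⟩
    change a ^ k * a ^ j = a ^ j * a ^ k
    rw [← _root_.zpow_add, ← _root_.zpow_add, add_comm]
  have h2 : g = g * s * s := by rw [mul_assoc, T.ss, mul_one]
  constructor
  · have h3 := T.conj_s hg
    rw [T.s_inv] at h3
    calc g * g = (g * s) * (s * (g * s) * s) := by
          calc g * g = g * s * s * (g * s * s) := by rw [← h2]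
            _ = _ := by group
      _ = (g * s) * (g * s)⁻¹ := by rw [h3]
      _ = 1 := mul_inv_cancel _
  · intro t ht
    have h3 := T.conj_s ht
    rw [h2, _root_.mul_inv_rev]
    calc g * s * s * t * (s⁻¹ * (g * s)⁻¹) = (g * s) * (s * t * s⁻¹) * (g * s)⁻¹ := by group
      _ = (g * s) * t⁻¹ * (g * s)⁻¹ := by rw [h3]
      _ = t⁻¹ := by
        rw [hz _ hg _ (inv_mem ht), mul_inv_cancel_right]

/-- the centralizer of an involution -/
theorem mem_of_commute {a s : PSL F} (T : Tor a s e) {z : PSL F} (hz : z ∈ Subgroup.zpowers a)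
    (h1 : z ≠ 1) {g : PSL F} (hg : g * z = z * g) :
    g ∈ Subgroup.zpowers a ∨ g * s ∈ Subgroup.zpowers a := by
  have h3 : g⁻¹ * z * g = z := by rw [mul_assoc, ← hg, inv_mul_cancel_left]
  rcases T.ti z hz h1 g (by rw [h3]; exact hz) with ⟨h, -⟩ | ⟨h, -⟩
  · exact Or.inl h
  · exact Or.inr h

/-- a Klein four-group is self-centralizing -/
theorem four_of_commute {z z' g : PSL F} (hz : z * z = 1) (hz' : z' * z' = 1) (h1 : z ≠ 1)
    (h1' : z' ≠ 1) (hne : z ≠ z') (hc : z * z' = z' * z) (hg : g * z = z * g)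
    (hg' : g * z' = z' * g) : g = 1 ∨ g = z ∨ g = z' ∨ g = z * z' := by
  obtain ⟨a, s, T, hza⟩ := tor_of_inv hQ hz h1
  have hz'a : z' * s ∈ Subgroup.zpowers a := by
    rcases mem_of_commute hQ T hza h1 hc.symm with h | h
    · exact absurd (unique_inv hQ T h hza hz' hz h1' h1) hne
    · exact h
  obtain ⟨-, hinv⟩ := sq_of_mul_s hQ T hz'a
  have key : ∀ t ∈ Subgroup.zpowers a, t * z' = z' * t → t = 1 ∨ t = z := by
    intro t ht htz
    by_cases ht1 : t = 1
    · exact Or.inl ht1
    · right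
      have h3 := hinv t ht
      rw [← htz, mul_inv_cancel_right] at h3
      have h4 : t * t = 1 := by
        nth_rewrite 1 [h3]
        exact inv_mul_cancel t
      exact unique_inv hQ T hza ht hz h4 h1 ht1
  rcases mem_of_commute hQ T hza h1 hg with h | h
  · rcases key g h hg' with h | h
    · exact Or.inl h
    · exact Or.inr (Or.inl h)
  · have h5 : g * z' ∈ Subgroup.zpowers a := by
      have h6 : (g * s) * (z' * s)⁻¹ ∈ Subgroup.zpowers a := mul_mem h (inv_mem hz'a)
      have h7 : (g * s) * (z' * s)⁻¹ = g * z' := by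
        rw [_root_.mul_inv_rev, inv_eq_of_mul_eq_one_left hz']
        group
      rwa [h7] at h6
    have h6 : g * z' * z' = z' * (g * z') := by
      rw [← mul_assoc, ← hg']
    have h7 : g = g * z' * z' := by rw [mul_assoc, hz', mul_one]
    rcases key _ h5 h6 with h | h
    · right; right; left
      rw [h7, h, one_mul]
    · right; right; right
      rw [h7, h]

/-- the elements of the four-group -/
def V4 (z z' : PSL F) (v : PSL F) : Prop := v = 1 ∨ v = z ∨ v = z' ∨ v = z * z'

/-- **Solvable subgroups.** -/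
theorem solv_cases {S : Subgroup (PSL F)} (hS : Group.IsSolvable S) (hne : ∃ x ∈ S, x ≠ 1) :
    (∃ c : OnePoint F, ∀ g ∈ S, g • c = c) ∨
    (∃ b c : OnePoint F, b ≠ c ∧ ∀ g ∈ S, (g • b = b ∧ g • c = c) ∨ (g • b = c ∧ g • c = b)) ∨
    (∃ a s : PSL F, Tor a s e ∧ ∀ g ∈ S, g ∈ Subgroup.zpowers a ∨ g * s ∈ Subgroup.zpowers a) ∨
    (∃ z z' : PSL F, z ≠ 1 ∧ z' ≠ 1 ∧ z ≠ z' ∧ z * z = 1 ∧ z' * z' = 1 ∧ z * z' = z' * z ∧
      z ∈ S ∧ z' ∈ S ∧ ∀ g ∈ S, ∀ v, V4 z z' v → V4 z z' (g * v * g⁻¹)) := by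
  classical
  haveI := finite_psl F
  obtain ⟨x₀, hx₀, hx₀1⟩ := hne
  haveI : Nontrivial S := ⟨⟨x₀, hx₀⟩, 1, fun h => hx₀1 (congrArg Subtype.val h)⟩
  obtain ⟨A, hAn, ⟨t₀, ht₀, ht₀1⟩, hAc⟩ := RankOneSol.exists_normal_abelian hS inferInstance
  have hcomm : ∀ x y : S, x ∈ A → y ∈ A → (x : PSL F) * y = y * x := fun x y hx hy =>
    congrArg Subtype.val (hAc x hx y hy)
  have hconj : ∀ g : S, ∀ x ∈ A, g * x * g⁻¹ ∈ A := fun g x hx => hAn.conj_mem x hx g
  have hone : ∀ x : S, x ≠ 1 → (x : PSL F) ≠ 1 := fun x hx h => hx (Subtype.ext h)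
  by_cases hfix1 : ∃ x ∈ A, ∃ c : OnePoint F, Fix1 (x : PSL F) c
  · -- an element with a single fixed point
    obtain ⟨x, hx, c, hc⟩ := hfix1
    left
    refine ⟨c, fun g hg => ?_⟩
    have hfixA : ∀ y ∈ A, (y : PSL F) • c = c := by
      intro y hy
      apply (hc _).1
      rw [← mul_smul, hcomm x y hx hy, mul_smul, (hc c).2 rfl]
    have h1 := hfixA _ (hconj (⟨g, hg⟩ : S)⁻¹ x hx)
    have h2 : (g⁻¹ * (x : PSL F) * g) • c = c := by
      have e1 : (((⟨g, hg⟩ : S)⁻¹ * x * ((⟨g, hg⟩ : S)⁻¹)⁻¹ : S) : PSL F) = g⁻¹ * (x : PSL F) * g := by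
        simp
      rwa [e1] at h1
    rw [mul_smul, mul_smul, inv_smul_eq_iff] at h2
    exact (hc _).1 h2
  right
  by_cases hfix2 : ∃ x ∈ A, ∃ b c : OnePoint F, b ≠ c ∧ Fix2 (x : PSL F) b c
  · obtain ⟨x, hx, b, c, hbc, hf⟩ := hfix2
    left
    refine ⟨b, c, hbc, fun g hg => ?_⟩
    have hxb := (hf b).2 (Or.inl rfl)
    have hxc := (hf c).2 (Or.inr rfl)
    have hx1 : (x : PSL F) ≠ 1 := by
      intro h
      obtain ⟨p, hp1, hp2⟩ : ∃ p : OnePoint F, p ≠ b ∧ p ≠ c := by
        by_contra hcon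
        push Not at hcon
        have h3 : Nat.card (OnePoint F) ≤ 2 := by
          have h4 : (Set.univ : Set (OnePoint F)) ⊆ {b, c} := by
            intro p _
            by_cases hp : p = b
            · exact Or.inl hp
            · exact Or.inr (hcon p hp)
          have h5 := Set.ncard_le_ncard h4 (Set.toFinite _)
          rw [Set.ncard_univ] at h5
          exact h5.trans (Set.ncard_pair hbc).le
        rw [card_onePoint, hQ.q_eq] at h3
        have := hQ.e_mod
        have := hQ.e_eq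
        omega
      rcases (hf p).1 (by rw [h, one_smul]) with h4 | h4
      · exact hp1 h4
      · exact hp2 h4
    have hxodd : Odd (orderOf (x : PSL F)) := Odd.of_dvd_nat (d_odd hQ) (orderOf_dvd_d hQ hbc hxb hxc)
    -- elements of `A` fix `b` and `c`
    have hfixA : ∀ y ∈ A, (y : PSL F) • b = b ∧ (y : PSL F) • c = c := by
      intro y hy
      have h1 : (x : PSL F) • ((y : PSL F) • b) = (y : PSL F) • b := by
        rw [← mul_smul, hcomm x y hx hy, mul_smul, hxb]
      have h2 : (x : PSL F) • ((y : PSL F) • c) = (y : PSL F) • c := by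
        rw [← mul_smul, hcomm x y hx hy, mul_smul, hxc]
      rcases (hf _).1 h1 with h3 | h3
      · rcases (hf _).1 h2 with h4 | h4
        · exact absurd ((smul_left_cancel (y : PSL F)) (h3.trans h4.symm)) hbc
        · exact ⟨h3, h4⟩
      · exfalso
        have h4 : (y : PSL F) • c = b := by
          rcases (hf _).1 h2 with h4 | h4
          · exact h4
          · exact absurd ((smul_left_cancel (y : PSL F)) (h3.trans h4.symm)) hbc
        have h5 := swap_conj hbc h3 h4 hxb hxc
        rw [← hcomm x y hx hy, mul_inv_cancel_right] at h5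
        have h6 : (x : PSL F) ^ 2 = 1 := by
          rw [sq]
          nth_rewrite 1 [h5]
          exact inv_mul_cancel _
        have h7 := orderOf_dvd_of_pow_eq_one h6
        rcases (Nat.dvd_prime Nat.prime_two).1 h7 with h8 | h8
        · exact hx1 (orderOf_eq_one_iff.1 h8)
        · rw [h8] at hxodd
          exact absurd hxodd (by decide)
    have h1 := hfixA _ (hconj (⟨g, hg⟩ : S)⁻¹ x hx)
    have e1 : (((⟨g, hg⟩ : S)⁻¹ * x * ((⟨g, hg⟩ : S)⁻¹)⁻¹ : S) : PSL F) = g⁻¹ * (x : PSL F) * g := by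
      simp
    rw [e1, mul_smul, mul_smul, inv_smul_eq_iff, mul_smul, mul_smul, inv_smul_eq_iff] at h1
    have h2 := (hf _).1 h1.1
    have h3 := (hf _).1 h1.2
    rcases h2 with h2 | h2
    · rcases h3 with h3 | h3
      · exact absurd ((smul_left_cancel g) (h2.trans h3.symm)) hbc
      · exact Or.inl ⟨h2, h3⟩
    · rcases h3 with h3 | h3
      · exact Or.inr ⟨h2, h3⟩
      · exact absurd ((smul_left_cancel g) (h2.trans h3.symm)) hbc
  right
  have hfree : ∀ x ∈ A, x ≠ 1 → Free (OnePoint F) (x : PSL F) := by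
    intro x hx hx1
    rcases fix_cases (hone x hx1) with h | ⟨c, h⟩ | ⟨b, c, hbc, h⟩
    · exact h
    · exact absurd ⟨x, hx, c, h⟩ hfix1
    · exact absurd ⟨x, hx, b, c, hbc, h⟩ hfix2
  by_cases hinv : ∃ x ∈ A, x ≠ 1 ∧ (x : PSL F) * x ≠ 1
  · left
    obtain ⟨x, hx, hx1, hxx⟩ := hinv
    obtain ⟨a, s, T, hxa⟩ := exists_tor_of_free (ord hQ) (hfree x hx hx1)
    refine ⟨a, s, T, fun g hg => ?_⟩
    have hcent := T.centralizer_eq hxa (hone x hx1) hxx
    have h1 : g⁻¹ * (x : PSL F) * g ∈ Subgroup.zpowers a := by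
      rw [← hcent, Subgroup.mem_centralizer_singleton_iff]
      have h2 := hcomm _ x (hconj (⟨g, hg⟩ : S)⁻¹ x hx) hx
      have e1 : (((⟨g, hg⟩ : S)⁻¹ * x * ((⟨g, hg⟩ : S)⁻¹)⁻¹ : S) : PSL F) = g⁻¹ * (x : PSL F) * g := by
        simp
      rwa [e1] at h2
    rcases T.ti x hxa (hone x hx1) g h1 with ⟨h, -⟩ | ⟨h, -⟩
    · exact Or.inl h
    · exact Or.inr h
  · push Not at hinv
    have ht₀' := hone t₀ ht₀1
    have ht₀s := hinv t₀ ht₀ ht₀1
    by_cases hsmall : ∀ x ∈ A, x = 1 ∨ x = t₀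
    · left
      obtain ⟨a, s, T, hta⟩ := tor_of_inv hQ ht₀s ht₀'
      refine ⟨a, s, T, fun g hg => ?_⟩
      apply mem_of_commute hQ T hta ht₀'
      rcases hsmall _ (hconj (⟨g, hg⟩ : S) t₀ ht₀) with h | h
      · exfalso
        apply ht₀1
        exact conj_eq_one_iff.1 h
      · have h1 : g * (t₀ : PSL F) * g⁻¹ = t₀ := congrArg Subtype.val h
        rw [mul_inv_eq_iff_eq_mul] at h1
        exact h1
    · right
      push Not at hsmall
      obtain ⟨t₁, ht₁, ht₁1, hne⟩ := hsmall
      have ht₁' := hone t₁ ht₁1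
      have ht₁s := hinv t₁ ht₁ ht₁1
      have hne' : (t₀ : PSL F) ≠ t₁ := fun h => hne (Subtype.ext h).symm
      have hc := hcomm t₀ t₁ ht₀ ht₁
      have hA4 : ∀ x ∈ A, V4 (t₀ : PSL F) t₁ x := fun x hx =>
        four_of_commute hQ ht₀s ht₁s ht₀' ht₁' hne' hc (hcomm x t₀ hx ht₀) (hcomm x t₁ hx ht₁)
      have hA4' : ∀ v, V4 (t₀ : PSL F) t₁ v → ∃ x ∈ A, (x : PSL F) = v := by
        rintro v (rfl | rfl | rfl | rfl)
        · exact ⟨1, A.one_mem, rfl⟩
        · exact ⟨t₀, ht₀, rfl⟩
        · exact ⟨t₁, ht₁, rfl⟩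
        · exact ⟨t₀ * t₁, A.mul_mem ht₀ ht₁, rfl⟩
      refine ⟨t₀, t₁, ht₀', ht₁', hne', ht₀s, ht₁s, hc, t₀.2, t₁.2, fun g hg v hv => ?_⟩
      obtain ⟨x, hx, rfl⟩ := hA4' v hv
      exact hA4 _ (hconj (⟨g, hg⟩ : S) x hx)

omit hQ in
theorem perm23 {G : Type*} [Group G] {z z' g : G} (hz : z * z = 1) (hz' : z' * z' = 1) (h1 : z ≠ 1)
    (h1' : z' ≠ 1) (hne : z ≠ z') (hc : z * z' = z' * z)
    (hg : g * z * g⁻¹ = 1 ∨ g * z * g⁻¹ = z ∨ g * z * g⁻¹ = z' ∨ g * z * g⁻¹ = z * z')
    (hg' : g * z' * g⁻¹ = 1 ∨ g * z' * g⁻¹ = z ∨ g * z' * g⁻¹ = z' ∨ g * z' * g⁻¹ = z * z') :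
    ((g ^ 2) * z = z * (g ^ 2) ∧ (g ^ 2) * z' = z' * (g ^ 2)) ∨
    ((g ^ 3) * z = z * (g ^ 3) ∧ (g ^ 3) * z' = z' * (g ^ 3)) := by
  have hne2 : g * z * g⁻¹ ≠ g * z' * g⁻¹ := fun h => hne (mul_left_cancel (mul_right_cancel h))
  have hn1 : g * z * g⁻¹ ≠ 1 := fun h => h1 (conj_eq_one_iff.1 h)
  have hn1' : g * z' * g⁻¹ ≠ 1 := fun h => h1' (conj_eq_one_iff.1 h)
  have hmul : g * (z * z') * g⁻¹ = (g * z * g⁻¹) * (g * z' * g⁻¹) := by group
  have h2 : ∀ v : G, g * (g * v * g⁻¹) * g⁻¹ = v → g ^ 2 * v = v * g ^ 2 := by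
    intro v hv
    rw [← mul_inv_eq_iff_eq_mul]
    rw [show g ^ 2 * v * (g ^ 2)⁻¹ = g * (g * v * g⁻¹) * g⁻¹ by rw [sq]; group]
    exact hv
  have h3 : ∀ v : G, g * (g * (g * v * g⁻¹) * g⁻¹) * g⁻¹ = v → g ^ 3 * v = v * g ^ 3 := by
    intro v hv
    rw [← mul_inv_eq_iff_eq_mul]
    rw [show g ^ 3 * v * (g ^ 3)⁻¹ = g * (g * (g * v * g⁻¹) * g⁻¹) * g⁻¹ by
      rw [pow_succ, sq]; group]
    exact hv
  rcases hg with h | h | h | h
  · exact absurd h hn1
  · rcases hg' with h' | h' | h' | h'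
    · exact absurd h' hn1'
    · exact absurd (h.trans h'.symm) hne2
    · exact Or.inl ⟨h2 z (by rw [h, h]), h2 z' (by rw [h', h'])⟩
    · refine Or.inl ⟨h2 z (by rw [h, h]), h2 z' ?_⟩
      rw [h', hmul, h, h', ← mul_assoc, hz, one_mul]
  · rcases hg' with h' | h' | h' | h'
    · exact absurd h' hn1'
    · exact Or.inl ⟨h2 z (by rw [h, h']), h2 z' (by rw [h', h])⟩
    · exact absurd (h.trans h'.symm) hne2
    · have h4 : g * (z * z') * g⁻¹ = z := by
        rw [hmul, h, h', hc, ← mul_assoc, hz', one_mul]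
      exact Or.inr ⟨h3 z (by rw [h, h', h4]), h3 z' (by rw [h', h4, h])⟩
  · rcases hg' with h' | h' | h' | h'
    · exact absurd h' hn1'
    · have h4 : g * (z * z') * g⁻¹ = z' := by
        rw [hmul, h, h', hc, mul_assoc, hz, mul_one]
      exact Or.inr ⟨h3 z (by rw [h, h4, h']), h3 z' (by rw [h', h, h4])⟩
    · have h4 : g * (z * z') * g⁻¹ = z := by
        rw [hmul, h, h', mul_assoc, hz', mul_one]
      exact Or.inl ⟨h2 z (by rw [h, h4]), h2 z' (by rw [h', h'])⟩
    · exact absurd (h.trans h'.symm) hne2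

theorem V4_sq {z z' : PSL F} (hz : z * z = 1) (hz' : z' * z' = 1) (hc : z * z' = z' * z) {v : PSL F}
    (hv : V4 z z' v) : v * v = 1 := by
  rcases hv with rfl | rfl | rfl | rfl
  · exact mul_one 1
  · exact hz
  · exact hz'
  · calc z * z' * (z * z') = z * (z' * z) * z' := by group
      _ = z * (z * z') * z' := by rw [hc]
      _ = (z * z) * (z' * z') := by group
      _ = 1 := by rw [hz, hz', mul_one]

/-- elements normalizing a four-group have order dividing 6 -/
theorem pow_six {z z' g : PSL F} (hz : z * z = 1) (hz' : z' * z' = 1) (h1 : z ≠ 1)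
    (h1' : z' ≠ 1) (hne : z ≠ z') (hc : z * z' = z' * z)
    (hg : ∀ v, V4 z z' v → V4 z z' (g * v * g⁻¹)) : g ^ 6 = 1 := by
  rcases perm23 hz hz' h1 h1' hne hc (hg z (Or.inr (Or.inl rfl)))
    (hg z' (Or.inr (Or.inr (Or.inl rfl)))) with ⟨h2, h2'⟩ | ⟨h2, h2'⟩
  · have h3 := V4_sq hQ hz hz' hc (four_of_commute hQ hz hz' h1 h1' hne hc h2 h2')
    have h4 : g ^ 4 = 1 := by
      rw [← h3, ← pow_add]
    have h5 := sq_of_pow_four hQ h4
    rw [show (6 : ℕ) = 2 * 3 by norm_num, pow_mul, sq, h5, one_pow]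
  · have h3 := V4_sq hQ hz hz' hc (four_of_commute hQ hz hz' h1 h1' hne hc h2 h2')
    rw [← h3, ← pow_add]

/-- the size of the solubilizer -/
noncomputable def sol {G : Type*} [Group G] (x : G) : ℕ :=
  Nat.card {y : G // Group.IsSolvable ↥(Subgroup.closure ({x, y} : Set G))}

/-! ### (A) elements with two fixed points -/

theorem ne_one_of_fix2 {g : PSL F} {a b : OnePoint F} (hab : a ≠ b) (h : Fix2 g a b) : g ≠ 1 := by
  rintro rfl
  have h1 : Nat.card (OnePoint F) ≤ 2 := by
    have h4 : (Set.univ : Set (OnePoint F)) ⊆ {a, b} := by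
      intro p _
      exact (h p).1 (one_smul _ _)
    have h5 := Set.ncard_le_ncard h4 (Set.toFinite _)
    rw [Set.ncard_univ] at h5
    exact h5.trans (Set.ncard_pair hab).le
  rw [card_onePoint, hQ.q_eq] at h1
  have := hQ.e_mod
  have := hQ.e_eq
  omega

theorem coprime_six : Nat.Coprime 6 d := by
  have h1 : Nat.Coprime 2 d := Nat.coprime_two_left.2 (d_odd hQ)
  have h2 : Nat.Coprime 3 d := (Nat.Prime.coprime_iff_not_dvd Nat.prime_three).2 hQ.d3
  exact Nat.Coprime.mul_left h1 h2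

theorem solv_fix2 {S : Subgroup (PSL F)} (hS : Group.IsSolvable S) {x : PSL F} (hxS : x ∈ S)
    {a b : OnePoint F} (hab : a ≠ b) (hx : Fix2 x a b) :
    (∀ g ∈ S, g • a = a) ∨ (∀ g ∈ S, g • b = b) ∨
      (∀ g ∈ S, (g • a = a ∧ g • b = b) ∨ (g • a = b ∧ g • b = a)) := by
  have hx1 := ne_one_of_fix2 hQ hab hx
  have hdvd := orderOf_dvd_d hQ hab ((hx a).2 (Or.inl rfl)) ((hx b).2 (Or.inr rfl))
  have hnsq : x * x ≠ 1 := by
    intro h
    have h2 : orderOf x ∣ 2 := orderOf_dvd_of_pow_eq_one (by rw [sq, h])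
    have h3 := Nat.dvd_gcd h2 hdvd
    rw [Nat.coprime_two_left.2 (d_odd hQ)] at h3
    exact hx1 (orderOf_eq_one_iff.1 (Nat.dvd_one.1 h3))
  rcases solv_cases hQ hS ⟨x, hxS, hx1⟩ with ⟨c, hc⟩ | ⟨b', c', hbc, h⟩ | ⟨a', s, T, h⟩ |
    ⟨z, z', hz1, hz1', hne, hz, hz', hc, -, -, h⟩
  · rcases (hx c).1 (hc x hxS) with rfl | rfl
    · exact Or.inl hc
    · exact Or.inr (Or.inl hc)
  · right; right
    rcases h x hxS with ⟨h1, h2⟩ | ⟨h1, h2⟩
    · rcases (hx b').1 h1 with rfl | rfl
      · rcases (hx c').1 h2 with rfl | rfl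
        · exact absurd rfl hbc
        · exact h
      · rcases (hx c').1 h2 with rfl | rfl
        · intro g hg
          rcases h g hg with ⟨h3, h4⟩ | ⟨h3, h4⟩
          · exact Or.inl ⟨h4, h3⟩
          · exact Or.inr ⟨h4, h3⟩
        · exact absurd rfl hbc
    · exact absurd (swap_sq hbc h1 h2) hnsq
  · exfalso
    rcases h x hxS with h1 | h1
    · exact T.free (ord hQ) h1 hx1 a ((hx a).2 (Or.inl rfl))
    · exact hnsq (sq_of_mul_s hQ T h1).1
  · exfalso
    have h6 := pow_six hQ hz hz' hz1 hz1' hne hc (h x hxS)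
    have h7 := Nat.dvd_gcd (orderOf_dvd_of_pow_eq_one h6) hdvd
    rw [coprime_six hQ] at h7
    exact hx1 (orderOf_eq_one_iff.1 (Nat.dvd_one.1 h7))

/-- the subgroup preserving `{a, b}` is solvable -/
theorem isSolvable_pair {S : Subgroup (PSL F)} {a b : OnePoint F} (hab : a ≠ b)
    (h : ∀ g ∈ S, (g • a = a ∧ g • b = b) ∨ (g • a = b ∧ g • b = a)) : Group.IsSolvable S := by
  -- the subgroup `stabilizer a` of `S` has index at most 2 and is commutative
  let N : Subgroup S := (stabilizer (PSL F) a).subgroupOf S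
  have hmem : ∀ g : S, g ∈ N ↔ (g : PSL F) • a = a := fun g => Iff.rfl
  have hNn : N.Normal := by
    constructor
    intro n hn g
    rw [hmem] at hn ⊢
    have hnb : (n : PSL F) • b = b := by
      rcases h n n.2 with h1 | h1
      · exact h1.2
      · exact absurd (hn.symm.trans h1.1) hab
    show ((g : PSL F) * n * (g : PSL F)⁻¹) • a = a
    have hg := h _ (S.inv_mem g.2)
    rcases hg with h1 | h1
    · rw [mul_smul, h1.1, mul_smul, hn]
      exact (inv_smul_eq_iff.1 h1.1).symm
    · rw [mul_smul, h1.1, mul_smul, hnb]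
      exact (inv_smul_eq_iff.1 h1.1).symm
  have hNs : Group.IsSolvable N := by
    apply Group.isSolvable_of_comm
    intro x y
    apply Subtype.ext
    apply Subtype.ext
    have hb : ∀ n : N, ((n : S) : PSL F) • b = b := by
      intro n
      rcases h _ (n : S).2 with h1 | h1
      · exact h1.2
      · exact absurd (((hmem n).1 n.2).symm.trans h1.1) hab
    exact comm_two hab ((hmem x).1 x.2) (hb x) ((hmem y).1 y.2) (hb y)
  have hQs : Group.IsSolvable (S ⧸ N) := by
    apply Group.isSolvable_of_comm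
    intro x y
    obtain ⟨x, rfl⟩ := QuotientGroup.mk_surjective x
    obtain ⟨y, rfl⟩ := QuotientGroup.mk_surjective y
    rw [← QuotientGroup.mk_mul, ← QuotientGroup.mk_mul, QuotientGroup.eq]
    rw [hmem]
    show (((x : PSL F) * y)⁻¹ * ((y : PSL F) * x)) • a = a
    have ha : ∀ g : S, ((g : PSL F) • a = a ∧ (g : PSL F) • b = b) ∨
        ((g : PSL F) • a = b ∧ (g : PSL F) • b = a) := fun g => h g g.2
    rw [mul_smul, inv_smul_eq_iff, mul_smul, mul_smul]
    rcases ha x with ⟨h1, h2⟩ | ⟨h1, h2⟩ <;> rcases ha y with ⟨h3, h4⟩ | ⟨h3, h4⟩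
    · rw [h1, h3, h1]
    · rw [h1, h3, h2]
    · rw [h1, h3, h1, h4]
    · rw [h1, h4, h3, h2]
  exact Group.isSolvable_of_ker_le_range N.subtype (QuotientGroup.mk' N) (by simp)

omit hQ in
theorem closure_pair_le {G : Type*} [Group G] (H : Subgroup G) {x y : G} (hx : x ∈ H) (hy : y ∈ H) :
    Subgroup.closure ({x, y} : Set G) ≤ H := by
  rw [Subgroup.closure_le]
  rintro z (rfl | rfl)
  · exact hx
  · exact hy

/-- the subgroup preserving `{a, b}` -/
def pairStab (a b : OnePoint F) : Subgroup (PSL F) where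
  carrier := {g | (g • a = a ∧ g • b = b) ∨ (g • a = b ∧ g • b = a)}
  mul_mem' := by
    rintro g h (⟨h1, h2⟩ | ⟨h1, h2⟩) (⟨h3, h4⟩ | ⟨h3, h4⟩)
    · exact Or.inl ⟨by rw [mul_smul, h3, h1], by rw [mul_smul, h4, h2]⟩
    · exact Or.inr ⟨by rw [mul_smul, h3, h2], by rw [mul_smul, h4, h1]⟩
    · exact Or.inr ⟨by rw [mul_smul, h3, h1], by rw [mul_smul, h4, h2]⟩
    · exact Or.inl ⟨by rw [mul_smul, h3, h2], by rw [mul_smul, h4, h1]⟩
  one_mem' := Or.inl ⟨one_smul _ _, one_smul _ _⟩
  inv_mem' := by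
    rintro g (⟨h1, h2⟩ | ⟨h1, h2⟩)
    · exact Or.inl ⟨by rw [inv_smul_eq_iff, h1], by rw [inv_smul_eq_iff, h2]⟩
    · exact Or.inr ⟨by rw [inv_smul_eq_iff, h2], by rw [inv_smul_eq_iff, h1]⟩

omit hQ in
theorem mem_pairStab {a b : OnePoint F} {g : PSL F} :
    g ∈ pairStab a b ↔ (g • a = a ∧ g • b = b) ∨ (g • a = b ∧ g • b = a) := Iff.rfl

omit hQ in
theorem solv_of_le {G : Type*} [Group G] {H K : Subgroup G} (hle : H ≤ K) (hK : Group.IsSolvable K) :
    Group.IsSolvable H :=
  Group.isSolvable_of_isSolvable_injective (Subgroup.inclusion_injective hle)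

theorem solvable_iff_fix2 {x : PSL F} {a b : OnePoint F} (hab : a ≠ b) (hx : Fix2 x a b) (y : PSL F) :
    Group.IsSolvable (Subgroup.closure ({x, y} : Set (PSL F))) ↔
      y • a = a ∨ y • b = b ∨ (y • a = b ∧ y • b = a) := by
  have hxa := (hx a).2 (Or.inl rfl)
  have hxb := (hx b).2 (Or.inr rfl)
  constructor
  · intro h
    have hy : y ∈ Subgroup.closure ({x, y} : Set (PSL F)) :=
      Subgroup.subset_closure (Set.mem_insert_of_mem _ rfl)
    rcases solv_fix2 hQ h (Subgroup.subset_closure (Set.mem_insert _ _)) hab hx with h1 | h1 | h1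
    · exact Or.inl (h1 y hy)
    · exact Or.inr (Or.inl (h1 y hy))
    · rcases h1 y hy with h2 | h2
      · exact Or.inl h2.1
      · exact Or.inr (Or.inr h2)
  · rintro (h | h | h)
    · exact solv_of_le (closure_pair_le (stabilizer (PSL F) a) hxa h) (solv_one a)
    · exact solv_of_le (closure_pair_le (stabilizer (PSL F) b) hxb h) (solv_one b)
    · exact solv_of_le (closure_pair_le (pairStab a b) (Or.inl ⟨hxa, hxb⟩) (Or.inr h))
        (isSolvable_pair hQ hab (fun g hg => hg))

/-- the number of elements interchanging two points -/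
theorem card_swap {a b : OnePoint F} (hab : a ≠ b) :
    Nat.card {g : PSL F // g • a = b ∧ g • b = a} = d := by
  rw [← card_two (ord hQ).card2 hab]
  obtain ⟨w, hw1, hw2⟩ := trans hab hab.symm
  symm
  apply Nat.card_congr
  refine ⟨fun g => ⟨w * g, ?_, ?_⟩, fun g => ⟨w⁻¹ * g, ?_, ?_⟩, fun g => ?_, fun g => ?_⟩
  · have := g.2.1
    have h1 : (g : PSL F) • a = a := this
    rw [mul_smul, h1, hw1]
  · have := g.2.2
    have h1 : (g : PSL F) • b = b := this
    rw [mul_smul, h1, hw2]
  · show (w⁻¹ * (g : PSL F)) • a = a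
    rw [mul_smul, g.2.1, ← hw1, inv_smul_smul]
  · show (w⁻¹ * (g : PSL F)) • b = b
    rw [mul_smul, g.2.2, ← hw2, inv_smul_smul]
  · exact Subtype.ext (inv_mul_cancel_left w g)
  · exact Subtype.ext (mul_inv_cancel_left w g)

theorem sol_fix2 {x : PSL F} {a b : OnePoint F} (hab : a ≠ b) (hx : Fix2 x a b) :
    sol x = 2 * (Fintype.card F * d) := by
  classical
  haveI := finite_psl F
  haveI := Fintype.ofFinite (PSL F)
  have h1 : sol x = Nat.card {y : PSL F // y • a = a ∨ y • b = b ∨ (y • a = b ∧ y • b = a)} :=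
    Nat.card_congr (Equiv.subtypeEquivRight (solvable_iff_fix2 hQ hab hx))
  rw [h1]
  have ha := card_stabilizer (ord hQ) a
  have hb := card_stabilizer (ord hQ) b
  have hc := card_two (ord hQ).card2 hab
  have hs := card_swap hQ hab
  have ha' : Nat.card {y : PSL F // y • a = a} = Fintype.card F * d := ha
  have hb' : Nat.card {y : PSL F // y • b = b} = Fintype.card F * d := hb
  have hc' : Nat.card {y : PSL F // y • a = a ∧ y • b = b} = d := hc
  rw [Nat.card_eq_fintype_card, Fintype.card_subtype] at ha' hb' hc' hs ⊢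
  have e1 : (Finset.univ.filter (fun y : PSL F => y • a = a ∨ y • b = b ∨ (y • a = b ∧ y • b = a))) =
      ((Finset.univ.filter (fun y : PSL F => y • a = a)) ∪
      (Finset.univ.filter (fun y : PSL F => y • b = b))) ∪
      (Finset.univ.filter (fun y : PSL F => y • a = b ∧ y • b = a)) := by
    ext y
    simp only [Finset.mem_union, Finset.mem_filter, Finset.mem_univ, true_and, or_assoc]
  have e2 : Disjoint ((Finset.univ.filter (fun y : PSL F => y • a = a)) ∪
      (Finset.univ.filter (fun y : PSL F => y • b = b)))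
      (Finset.univ.filter (fun y : PSL F => y • a = b ∧ y • b = a)) := by
    rw [Finset.disjoint_left]
    intro y hy hy'
    simp only [Finset.mem_union, Finset.mem_filter, Finset.mem_univ, true_and] at hy hy'
    rcases hy with h | h
    · exact hab (h.symm.trans hy'.1)
    · exact hab (hy'.2.symm.trans h)
  have e3 : (Finset.univ.filter (fun y : PSL F => y • a = a)) ∩
      (Finset.univ.filter (fun y : PSL F => y • b = b)) =
      (Finset.univ.filter (fun y : PSL F => y • a = a ∧ y • b = b)) := by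
    ext y
    simp
  have e4 := Finset.card_union_add_card_inter (Finset.univ.filter (fun y : PSL F => y • a = a))
    (Finset.univ.filter (fun y : PSL F => y • b = b))
  rw [e3, ha', hb', hc'] at e4
  rw [e1, Finset.card_union_of_disjoint e2, hs]
  omega

/-! ### (B) elements without fixed points, not involutions -/

theorem tor_eq {a s a' s' : PSL F} (T : Tor a s e) (T' : Tor a' s' e) {x : PSL F}
    (hx : x ∈ Subgroup.zpowers a) (hx' : x ∈ Subgroup.zpowers a') (h1 : x ≠ 1) (h2 : x * x ≠ 1) :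
    Subgroup.zpowers a' = Subgroup.zpowers a := by
  rw [← T.centralizer_eq hx h1 h2, ← T'.centralizer_eq hx' h1 h2]

theorem mem_norm_iff {a s : PSL F} (T : Tor a s e) {g : PSL F} :
    g ∈ Subgroup.normalizer (Subgroup.zpowers a : Set (PSL F)) ↔
      g ∈ Subgroup.zpowers a ∨ g * s ∈ Subgroup.zpowers a := by
  apply T.mem_normalizer_iff
  have := hQ.e_mod
  omega

theorem isSolvable_norm {a s : PSL F} (T : Tor a s e) :
    Group.IsSolvable (Subgroup.normalizer (Subgroup.zpowers a : Set (PSL F))) := by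
  set M := Subgroup.normalizer (Subgroup.zpowers a : Set (PSL F)) with hM
  have hz : ∀ t ∈ Subgroup.zpowers a, ∀ u ∈ Subgroup.zpowers a, t * u = u * t := by
    rintro _ ⟨k, rfl⟩ _ ⟨j, rfl⟩
    change a ^ k * a ^ j = a ^ j * a ^ k
    rw [← _root_.zpow_add, ← _root_.zpow_add, add_comm]
  let N : Subgroup M := (Subgroup.zpowers a).subgroupOf M
  haveI hNn : N.Normal := Subgroup.normal_in_normalizer
  have hNs : Group.IsSolvable N := by
    apply Group.isSolvable_of_comm
    intro x y
    apply Subtype.ext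
    apply Subtype.ext
    exact hz _ x.2 _ y.2
  have hQs : Group.IsSolvable (M ⧸ N) := by
    apply Group.isSolvable_of_comm
    intro x y
    obtain ⟨x, rfl⟩ := QuotientGroup.mk_surjective x
    obtain ⟨y, rfl⟩ := QuotientGroup.mk_surjective y
    rw [← QuotientGroup.mk_mul, ← QuotientGroup.mk_mul, QuotientGroup.eq, Subgroup.mem_subgroupOf]
    show (((x : PSL F) * y)⁻¹ * ((y : PSL F) * x)) ∈ Subgroup.zpowers a
    -- both are in `T` or `T s`
    have hx := (mem_norm_iff hQ T).1 x.2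
    have hy := (mem_norm_iff hQ T).1 y.2
    rcases hx with hx | hx
    · rcases hy with hy | hy
      · exact mul_mem (inv_mem (mul_mem hx hy)) (mul_mem hy hx)
      · obtain ⟨h1, h2⟩ := sq_of_mul_s hQ T hy
        have h3 := h2 _ (inv_mem hx)
        rw [inv_inv, mul_inv_eq_iff_eq_mul] at h3
        have h4 : ((x : PSL F) * y)⁻¹ * ((y : PSL F) * x) = (x : PSL F) * x := by
          have h5 : (y : PSL F)⁻¹ = y := inv_eq_of_mul_eq_one_left h1
          rw [_root_.mul_inv_rev, h5]
          calc (y : PSL F) * (x : PSL F)⁻¹ * (y * x) = ((y : PSL F) * (x : PSL F)⁻¹) * y * x := by group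
            _ = (x : PSL F) * (y * y) * x := by rw [h3]; group
            _ = (x : PSL F) * x := by rw [h1, mul_one]
        rw [h4]
        exact mul_mem hx hx
    · rcases hy with hy | hy
      · obtain ⟨h1, h2⟩ := sq_of_mul_s hQ T hx
        have h3 := h2 _ (inv_mem hy)
        rw [inv_inv] at h3
        have h5 : (x : PSL F)⁻¹ = x := inv_eq_of_mul_eq_one_left h1
        rw [h5] at h3
        have h4 : ((x : PSL F) * y)⁻¹ * ((y : PSL F) * x) = (y : PSL F)⁻¹ * (y : PSL F)⁻¹ := by
          have h6 := h2 _ hy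
          rw [h5] at h6
          rw [_root_.mul_inv_rev, h5, ← h6]
          group
        rw [h4]
        exact mul_mem (inv_mem hy) (inv_mem hy)
      · obtain ⟨h1, h2⟩ := sq_of_mul_s hQ T hx
        obtain ⟨h1', h2'⟩ := sq_of_mul_s hQ T hy
        have h5 : (x : PSL F)⁻¹ = x := inv_eq_of_mul_eq_one_left h1
        have h5' : (y : PSL F)⁻¹ = y := inv_eq_of_mul_eq_one_left h1'
        have h7 : (y : PSL F) * x ∈ Subgroup.zpowers a := by
          have h6 : ((y : PSL F) * s) * ((x : PSL F) * s)⁻¹ ∈ Subgroup.zpowers a := mul_mem hy (inv_mem hx)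
          have h8 : ((y : PSL F) * s) * ((x : PSL F) * s)⁻¹ = y * x := by
            rw [_root_.mul_inv_rev, h5]
            group
          rwa [h8] at h6
        rw [_root_.mul_inv_rev, h5, h5']
        exact mul_mem h7 h7
  exact Group.isSolvable_of_ker_le_range N.subtype (QuotientGroup.mk' N) (by simp)

theorem coprime_e {k : ℕ} (h1 : k ∣ e) (h2 : k ∣ 6) : k ∣ 2 := by
  have h3 : Nat.Coprime k 3 := by
    rw [Nat.coprime_comm, Nat.Prime.coprime_iff_not_dvd Nat.prime_three]
    exact fun h => hQ.e3 (h.trans h1)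
  have h4 : k ∣ 2 * 3 := h2
  exact h3.dvd_of_dvd_mul_right h4

theorem solv_free {S : Subgroup (PSL F)} (hS : Group.IsSolvable S) {x : PSL F} (hxS : x ∈ S)
    {a s : PSL F} (T : Tor a s e) (hx : x ∈ Subgroup.zpowers a) (h1 : x ≠ 1) (h2 : x * x ≠ 1) :
    S ≤ Subgroup.normalizer (Subgroup.zpowers a : Set (PSL F)) := by
  have hfree := T.free (ord hQ) hx h1
  rcases solv_cases hQ hS ⟨x, hxS, h1⟩ with ⟨c, hc⟩ | ⟨b', c', hbc, h⟩ | ⟨a', s', T', h⟩ |
    ⟨z, z', hz1, hz1', hne, hz, hz', hc, -, -, h⟩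
  · exact absurd (hc x hxS) (hfree c)
  · rcases h x hxS with ⟨h3, -⟩ | ⟨h3, h4⟩
    · exact absurd h3 (hfree b')
    · exact absurd (swap_sq hbc h3 h4) h2
  · rcases h x hxS with h3 | h3
    · have h4 := tor_eq hQ T T' hx h3 h1 h2
      intro g hg
      rw [← h4, mem_norm_iff hQ T']
      exact h g hg
    · exact absurd (sq_of_mul_s hQ T' h3).1 h2
  · exfalso
    have h6 := pow_six hQ hz hz' hz1 hz1' hne hc (h x hxS)
    have h7 := coprime_e hQ (orderOf_dvd_e hQ T hx) (orderOf_dvd_of_pow_eq_one h6)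
    have h8 := orderOf_dvd_iff_pow_eq_one.1 h7
    rw [sq] at h8
    exact h2 h8

theorem solvable_iff_free {x : PSL F} {a s : PSL F} (T : Tor a s e) (hx : x ∈ Subgroup.zpowers a)
    (h1 : x ≠ 1) (h2 : x * x ≠ 1) (y : PSL F) :
    Group.IsSolvable (Subgroup.closure ({x, y} : Set (PSL F))) ↔
      y ∈ Subgroup.normalizer (Subgroup.zpowers a : Set (PSL F)) := by
  constructor
  · intro h
    exact solv_free hQ h (Subgroup.subset_closure (Set.mem_insert _ _)) T hx h1 h2
      (Subgroup.subset_closure (Set.mem_insert_of_mem _ rfl))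
  · intro h
    exact solv_of_le (closure_pair_le _ (Subgroup.le_normalizer hx) h) (isSolvable_norm hQ T)

theorem sol_free {x : PSL F} {a s : PSL F} (T : Tor a s e) (hx : x ∈ Subgroup.zpowers a)
    (h1 : x ≠ 1) (h2 : x * x ≠ 1) : sol x = 2 * e := by
  haveI := finite_psl F
  have h3 : sol x = Nat.card {y : PSL F // y ∈ Subgroup.normalizer (Subgroup.zpowers a : Set (PSL F))} :=
    Nat.card_congr (Equiv.subtypeEquivRight (solvable_iff_free hQ T hx h1 h2))
  rw [h3]
  apply T.card_normalizer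
  have := hQ.e_mod
  omega

/-! ### (C) elements of order 3 -/

/-- an involution does not commute with an element fixing one point -/
theorem not_commute {x z : PSL F} {a : OnePoint F} (hx : Fix1 x a) (hz : z * z = 1) (h1 : z ≠ 1) :
    x * z ≠ z * x := by
  intro h
  have h2 : x • (z • a) = z • a := by
    rw [← mul_smul, h, mul_smul, (hx a).2 rfl]
  exact free_of_inv hQ hz h1 a ((hx _).1 h2)

/-- an involution does not invert an element fixing one point -/
theorem not_invert {x z : PSL F} {a : OnePoint F} (hx : Fix1 x a) (hz : z * z = 1) (h1 : z ≠ 1) :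
    z * x * z⁻¹ ≠ x⁻¹ := by
  intro h
  have h3 : z * x = x⁻¹ * z := by rw [← h]; group
  have h4 : z * x⁻¹ = x * z := by
    calc z * x⁻¹ = x * (x⁻¹ * z) * x⁻¹ := by group
      _ = x * (z * x) * x⁻¹ := by rw [h3]
      _ = x * z := by group
  have hxi : x⁻¹ • a = a := by rw [inv_smul_eq_iff, (hx a).2 rfl]
  have h2 : x • (z • a) = z • a := by
    rw [← mul_smul, ← h4, mul_smul, hxi]
  exact free_of_inv hQ hz h1 a ((hx _).1 h2)

/-- the third element of a four-group -/
theorem solv_fix1 {S : Subgroup (PSL F)} (hS : Group.IsSolvable S) {x : PSL F} (hxS : x ∈ S)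
    {a : OnePoint F} (hx : Fix1 x a) :
    (∀ g ∈ S, g • a = a) ∨
    (∃ z z' : PSL F, z ≠ 1 ∧ z' ≠ 1 ∧ z ≠ z' ∧ z * z = 1 ∧ z' * z' = 1 ∧ z * z' = z' * z ∧
      z ∈ S ∧ z' ∈ S ∧ ∀ g ∈ S, ∀ v, V4 z z' v → V4 z z' (g * v * g⁻¹)) := by
  have hx1 := ne_one_of_fix1 hQ hx
  have h3 := orderOf_fix1 hQ hx
  have hnsq : x * x ≠ 1 := by
    intro h
    have h2 : orderOf x ∣ 2 := orderOf_dvd_of_pow_eq_one (by rw [sq, h])
    rw [h3] at h2
    omega
  rcases solv_cases hQ hS ⟨x, hxS, hx1⟩ with ⟨c, hc⟩ | ⟨b', c', hbc, h⟩ | ⟨a', s, T, h⟩ | h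
  · left
    have := (hx c).1 (hc x hxS)
    rwa [← this]
  · exfalso
    rcases h x hxS with ⟨h1, h2⟩ | ⟨h1, h2⟩
    · exact hbc (((hx b').1 h1).trans ((hx c').1 h2).symm)
    · exact hnsq (swap_sq hbc h1 h2)
  · exfalso
    rcases h x hxS with h1 | h1
    · exact T.free (ord hQ) h1 hx1 a ((hx a).2 rfl)
    · exact hnsq (sq_of_mul_s hQ T h1).1
  · exact Or.inr h

/-- the structure of `S` in the second case: every element is in `V`, `x V` or `x⁻¹ V` -/
theorem mem_cosets {S : Subgroup (PSL F)} {x : PSL F} (hxS : x ∈ S)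
    {a : OnePoint F} (hx : Fix1 x a) {z z' : PSL F} (hz1 : z ≠ 1) (hz1' : z' ≠ 1) (hne : z ≠ z')
    (hz : z * z = 1) (hz' : z' * z' = 1) (hc : z * z' = z' * z)
    (h : ∀ g ∈ S, ∀ v, V4 z z' v → V4 z z' (g * v * g⁻¹)) {g : PSL F} (hg : g ∈ S) :
    V4 z z' g ∨ V4 z z' (x * g) ∨ V4 z z' (x⁻¹ * g) := by
  have hx3 := pow_three_of_fix1 hQ hx
  have hxx : x⁻¹ = x * x := by
    rw [inv_eq_iff_mul_eq_one, ← hx3, pow_succ, sq]
    group
  -- the key: `h ∈ S` commuting with an involution of `V` is in `V`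
  have key : ∀ v : PSL F, V4 z z' v → v ≠ 1 → ∀ k ∈ S, k * v * k⁻¹ = v → V4 z z' k := by
    intro v hv hv1 k hk hkv
    have hkc : k * v = v * k := by rwa [mul_inv_eq_iff_eq_mul] at hkv
    have hvv := V4_sq hQ hz hz' hc hv
    -- another involution of `V`
    obtain ⟨w, hw, hw1, hwv⟩ : ∃ w, V4 z z' w ∧ w ≠ 1 ∧ w ≠ v := by
      by_cases hzv : z = v
      · exact ⟨z', Or.inr (Or.inr (Or.inl rfl)), hz1', fun h => hne (hzv.trans h.symm)⟩
      · exact ⟨z, Or.inr (Or.inl rfl), hz1, hzv⟩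
    have hww := V4_sq hQ hz hz' hc hw
    have hcomm : ∀ u v, V4 z z' u → V4 z z' v → u * v = v * u := by
      have e1 : z * (z * z') = z * z' * z := by rw [mul_assoc, ← hc]
      have e2 : z' * (z * z') = z * z' * z' := by rw [← mul_assoc, ← hc]
      rintro u v (rfl | rfl | rfl | rfl) (rfl | rfl | rfl | rfl)
      · rfl
      · rw [one_mul, mul_one]
      · rw [one_mul, mul_one]
      · rw [one_mul, mul_one]
      · rw [one_mul, mul_one]
      · rfl
      · exact hc
      · exact e1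
      · rw [one_mul, mul_one]
      · exact hc.symm
      · rfl
      · exact e2
      · rw [one_mul, mul_one]
      · exact e1.symm
      · exact e2.symm
      · rfl
    have hmul : ∀ u v, V4 z z' u → V4 z z' v → V4 z z' (u * v) := by
      intro u v hu hv
      apply four_of_commute hQ hz hz' hz1 hz1' hne hc
      · have h1 := hcomm u z hu (Or.inr (Or.inl rfl))
        have h2 := hcomm v z hv (Or.inr (Or.inl rfl))
        rw [mul_assoc, h2, ← mul_assoc, h1, mul_assoc]
      · have h1 := hcomm u z' hu (Or.inr (Or.inr (Or.inl rfl)))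
        have h2 := hcomm v z' hv (Or.inr (Or.inr (Or.inl rfl)))
        rw [mul_assoc, h2, ← mul_assoc, h1, mul_assoc]
    have hvw : v * w = w * v := hcomm v w hv hw
    -- `V` is also generated by `v`, `w`
    have hV : ∀ u, V4 z z' u → V4 v w u := fun u hu =>
      four_of_commute hQ hvv hww hv1 hw1 (Ne.symm hwv) hvw (hcomm u v hu hv) (hcomm u w hu hw)
    have hV' : ∀ u, V4 v w u → V4 z z' u := by
      rintro u (rfl | rfl | rfl | rfl)
      · exact Or.inl rfl
      · exact hv
      · exact hw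
      · exact hmul _ _ hv hw
    have hkw := hV _ (h k hk w hw)
    rcases hkw with h1 | h1 | h1 | h1
    · exact absurd (conj_eq_one_iff.1 h1) hw1
    · exact absurd (mul_left_cancel (mul_right_cancel (h1.trans hkv.symm))) hwv
    · apply hV'
      apply four_of_commute hQ hvv hww hv1 hw1 (Ne.symm hwv) hvw hkc
      rwa [mul_inv_eq_iff_eq_mul] at h1
    · -- `k ^ 2` is in `V`
      exfalso
      have h2 : k * k * w = w * (k * k) := by
        have e1 : k * w = v * w * k := by rwa [mul_inv_eq_iff_eq_mul] at h1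
        calc k * k * w = k * (k * w) := by group
          _ = k * (v * w * k) := by rw [e1]
          _ = (k * v) * w * k := by group
          _ = v * (k * w) * k := by rw [hkc]; group
          _ = v * (v * w * k) * k := by rw [e1]
          _ = (v * v) * w * (k * k) := by group
          _ = w * (k * k) := by rw [hvv, one_mul]
      have h3 : k * k * v = v * (k * k) := by
        rw [mul_assoc, hkc, ← mul_assoc, hkc, mul_assoc]
      have h4 := V4_sq hQ hvv hww hvw (four_of_commute hQ hvv hww hv1 hw1 (Ne.symm hwv) hvw h3 h2)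
      have h5 : k * k = 1 := by
        apply sq_of_pow_four hQ
        rw [← h4, pow_succ, pow_succ, sq]
        group
      have hki : k⁻¹ = k := inv_eq_of_mul_eq_one_left h5
      have h6 : (k * w) * (k * w) = v := by
        calc (k * w) * (k * w) = (k * w * k) * w := by group
          _ = (k * w * k⁻¹) * w := by rw [hki]
          _ = v * (w * w) := by rw [h1]; group
          _ = v := by rw [hww, mul_one]
      have h7 : (k * w) ^ 4 = 1 := by
        calc (k * w) ^ 4 = ((k * w) * (k * w)) * ((k * w) * (k * w)) := by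
              rw [pow_succ, pow_succ, sq]; group
          _ = 1 := by rw [h6, hvv]
      have h8 := sq_of_pow_four hQ h7
      rw [h6] at h8
      exact hv1 h8
  -- `x z x⁻¹` etc. are the three involutions
  have hxz : ∀ v, V4 z z' v → v ≠ 1 → x * v * x⁻¹ ≠ v := by
    intro v hv hv1 h1
    rw [mul_inv_eq_iff_eq_mul] at h1
    exact not_commute hQ hx (V4_sq hQ hz hz' hc hv) hv1 h1
  have hVx := h x hxS
  have hz0 : V4 z z' z := Or.inr (Or.inl rfl)
  have hne1 : ∀ (k v : PSL F), v ≠ 1 → k * v * k⁻¹ ≠ 1 := fun k v hv h => hv (conj_eq_one_iff.1 h)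
  set z₁ := x * z * x⁻¹ with hz₁
  set z₂ := x * z₁ * x⁻¹ with hz₂
  have hz₃ : x * z₂ * x⁻¹ = z := by
    rw [hz₂, hz₁]
    have : x * (x * (x * z * x⁻¹) * x⁻¹) * x⁻¹ = x ^ 3 * z * (x ^ 3)⁻¹ := by
      rw [pow_succ, sq]; group
    rw [this, hx3]
    group
  have hV1 : V4 z z' z₁ := hVx z hz0
  have hV2 : V4 z z' z₂ := hVx z₁ hV1
  have hn1 : z₁ ≠ 1 := hne1 x z hz1
  have hn2 : z₂ ≠ 1 := hne1 x z₁ hn1
  have hne01 : z₁ ≠ z := hxz z hz0 hz1
  have hne12 : z₂ ≠ z₁ := hxz z₁ hV1 hn1
  have hne20 : z₂ ≠ z := fun h => by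
    rw [h] at hz₃
    exact hne01 hz₃
  -- every involution of `V` is one of the three
  have hthree : ∀ v, V4 z z' v → v ≠ 1 → v = z ∨ v = z₁ ∨ v = z₂ := by
    intro v hv hv1
    rcases hv with h0 | h0 | h0 | h0
    · exact absurd h0 hv1
    · exact Or.inl h0
    · rcases hV1 with h1 | h1 | h1 | h1
      · exact absurd h1 hn1
      · exact absurd h1 hne01
      · exact Or.inr (Or.inl (h0.trans h1.symm))
      · rcases hV2 with h2 | h2 | h2 | h2
        · exact absurd h2 hn2
        · exact absurd h2 hne20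
        · exact Or.inr (Or.inr (h0.trans h2.symm))
        · exact absurd (h2.trans h1.symm) hne12
    · rcases hV1 with h1 | h1 | h1 | h1
      · exact absurd h1 hn1
      · exact absurd h1 hne01
      · rcases hV2 with h2 | h2 | h2 | h2
        · exact absurd h2 hn2
        · exact absurd h2 hne20
        · exact absurd (h2.trans h1.symm) hne12
        · exact Or.inr (Or.inr (h0.trans h2.symm))
      · exact Or.inr (Or.inl (h0.trans h1.symm))
  have hgz := h g hg z hz0
  rcases hthree _ hgz (hne1 g z hz1) with h1 | h1 | h1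
  · exact Or.inl (key z hz0 hz1 g hg h1)
  · -- `g z g⁻¹ = x z x⁻¹`
    right; right
    apply key z hz0 hz1 _ (S.mul_mem (S.inv_mem hxS) hg)
    calc x⁻¹ * g * z * (x⁻¹ * g)⁻¹ = x⁻¹ * (g * z * g⁻¹) * x := by group
      _ = x⁻¹ * (x * z * x⁻¹) * x := by rw [h1]
      _ = z := by group
  · right; left
    apply key z hz0 hz1 _ (S.mul_mem hxS hg)
    calc x * g * z * (x * g)⁻¹ = x * (g * z * g⁻¹) * x⁻¹ := by group
      _ = x * z₂ * x⁻¹ := by rw [h1]
      _ = z := hz₃

omit hQ in
theorem V4_comm {z z' : PSL F} (hc : z * z' = z' * z) :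
    ∀ u v, V4 z z' u → V4 z z' v → u * v = v * u := by
  have e1 : z * (z * z') = z * z' * z := by rw [mul_assoc, ← hc]
  have e2 : z' * (z * z') = z * z' * z' := by rw [← mul_assoc, ← hc]
  rintro u v (rfl | rfl | rfl | rfl) (rfl | rfl | rfl | rfl)
  · rfl
  · rw [one_mul, mul_one]
  · rw [one_mul, mul_one]
  · rw [one_mul, mul_one]
  · rw [one_mul, mul_one]
  · rfl
  · exact hc
  · exact e1
  · rw [one_mul, mul_one]
  · exact hc.symm
  · rfl
  · exact e2
  · rw [one_mul, mul_one]
  · exact e1.symm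
  · exact e2.symm
  · rfl

/-- the involutions generating a solvable group with `x` -/
def Iv {G : Type*} [Group G] (x z : G) : Prop :=
  z * z = 1 ∧ z ≠ 1 ∧ z * (x * z * x⁻¹) = (x * z * x⁻¹) * z

omit hQ in
theorem isSolvable_closure_of_normal {G : Type*} [Group G] (V : Subgroup G)
    (hV : ∀ a ∈ V, ∀ b ∈ V, a * b = b * a) {x z : G} (hz : z ∈ V)
    (hx : x ∈ Subgroup.normalizer (V : Set G)) :
    Group.IsSolvable (Subgroup.closure ({x, z} : Set G)) := by
  set M := Subgroup.normalizer (V : Set G) with hM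
  have hle : Subgroup.closure ({x, z} : Set G) ≤ M := closure_pair_le M hx (Subgroup.le_normalizer hz)
  let N : Subgroup M := V.subgroupOf M
  haveI hNn : N.Normal := Subgroup.normal_in_normalizer
  let π : M →* M ⧸ N := QuotientGroup.mk' N
  let f : Subgroup.closure ({x, z} : Set G) →* M ⧸ N := π.comp (Subgroup.inclusion hle)
  have hf : ∀ s, f s ∈ Subgroup.zpowers (π ⟨x, hx⟩) := by
    rintro ⟨s, hs⟩
    have h1 : s ∈ ((Subgroup.zpowers (π ⟨x, hx⟩)).comap π).map M.subtype := by
      have h2 : Subgroup.closure ({x, z} : Set G) ≤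
          ((Subgroup.zpowers (π ⟨x, hx⟩)).comap π).map M.subtype := by
        apply closure_pair_le
        · exact ⟨⟨x, hx⟩, Subgroup.mem_zpowers _, rfl⟩
        · refine ⟨⟨z, Subgroup.le_normalizer hz⟩, ?_, rfl⟩
          have h3 : π ⟨z, Subgroup.le_normalizer hz⟩ = 1 := by
            rw [QuotientGroup.mk'_apply, QuotientGroup.eq_one_iff, Subgroup.mem_subgroupOf]
            exact hz
          show π ⟨z, Subgroup.le_normalizer hz⟩ ∈ Subgroup.zpowers (π ⟨x, hx⟩)
          rw [h3]
          exact Subgroup.one_mem _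
      exact h2 hs
    obtain ⟨y, hy, hys⟩ := h1
    have h4 : y = Subgroup.inclusion hle ⟨s, hs⟩ := Subtype.ext hys
    rw [h4] at hy
    exact hy
  let f' := f.codRestrict (Subgroup.zpowers (π ⟨x, hx⟩)) hf
  haveI : Group.IsSolvable (Subgroup.zpowers (π ⟨x, hx⟩)) := by
    apply Group.isSolvable_of_comm
    rintro ⟨_, ⟨i, rfl⟩⟩ ⟨_, ⟨j, rfl⟩⟩
    apply Subtype.ext
    show π ⟨x, hx⟩ ^ i * π ⟨x, hx⟩ ^ j = π ⟨x, hx⟩ ^ j * π ⟨x, hx⟩ ^ i
    rw [← _root_.zpow_add, ← _root_.zpow_add, add_comm]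
  haveI : Group.IsSolvable (V.subgroupOf (Subgroup.closure ({x, z} : Set G))) := by
    apply Group.isSolvable_of_comm
    intro u v
    apply Subtype.ext
    apply Subtype.ext
    exact hV _ u.2 _ v.2
  refine Group.isSolvable_of_ker_le_range
    (V.subgroupOf (Subgroup.closure ({x, z} : Set G))).subtype f' ?_
  intro s hs
  rw [Subgroup.range_subtype, Subgroup.mem_subgroupOf]
  have h1 : f s = 1 := congrArg Subtype.val hs
  have h2 : (QuotientGroup.mk (Subgroup.inclusion hle s) : M ⧸ N) = 1 := h1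
  rw [QuotientGroup.eq_one_iff, Subgroup.mem_subgroupOf] at h2
  exact h2

theorem solvable_of_Iv {x : PSL F} {a : OnePoint F} (hx : Fix1 x a) {z : PSL F} (hz : Iv x z) :
    Group.IsSolvable (Subgroup.closure ({x, z} : Set (PSL F))) := by
  obtain ⟨hzz, hz1, hc⟩ := hz
  have hx3 := pow_three_of_fix1 hQ hx
  set z' := x * z * x⁻¹ with hz'
  have hz'1 : z' ≠ 1 := fun h => hz1 (conj_eq_one_iff.1 h)
  have hz'z' : z' * z' = 1 := by
    rw [hz']
    calc x * z * x⁻¹ * (x * z * x⁻¹) = x * (z * z) * x⁻¹ := by group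
      _ = 1 := by rw [hzz]; group
  have hne : z ≠ z' := by
    intro h
    apply not_commute hQ hx hzz hz1
    rw [hz'] at h
    calc x * z = x * z * x⁻¹ * x := by group
      _ = z * x := by rw [← h]
  -- third involution
  set z₃ := x * z' * x⁻¹ with hz₃
  have hz₃1 : z₃ ≠ 1 := fun h => hz'1 (conj_eq_one_iff.1 h)
  have h4 : x * z₃ * x⁻¹ = z := by
    rw [hz₃, hz']
    have : x * (x * (x * z * x⁻¹) * x⁻¹) * x⁻¹ = x ^ 3 * z * (x ^ 3)⁻¹ := by
      rw [pow_succ, sq]; group
    rw [this, hx3]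
    group
  have h5 : z₃ * z' = z' * z₃ := by
    have h6 : x * (z * z') * x⁻¹ = x * (z' * z) * x⁻¹ := by rw [hc]
    have h7 : x * (z * z') * x⁻¹ = z' * z₃ := by rw [hz₃, hz']; group
    have h8 : x * (z' * z) * x⁻¹ = z₃ * z' := by rw [hz₃, hz']; group
    rw [← h7, ← h8, h6]
  have h6 : z₃ * z = z * z₃ := by
    have h7 : x * (z₃ * z') * x⁻¹ = z * z₃ := by
      calc x * (z₃ * z') * x⁻¹ = (x * z₃ * x⁻¹) * (x * z' * x⁻¹) := by group
        _ = z * z₃ := by rw [h4]
    have h8 : x * (z' * z₃) * x⁻¹ = z₃ * z := by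
      calc x * (z' * z₃) * x⁻¹ = (x * z' * x⁻¹) * (x * z₃ * x⁻¹) := by group
        _ = z₃ * z := by rw [h4]
    rw [← h7, ← h8, h5]
  have h7 := four_of_commute hQ hzz hz'z' hz1 hz'1 hne hc h6 h5
  have h8 : z₃ = z * z' := by
    rcases h7 with h | h | h | h
    · exact absurd h hz₃1
    · exfalso
      rw [h] at h4
      exact hne h4.symm
    · exfalso
      rw [h] at hz₃
      apply not_commute hQ hx hz'z' hz'1
      calc x * z' = x * z' * x⁻¹ * x := by group
        _ = z' * x := by rw [← hz₃]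
    · exact h
  -- the four-group
  have hmul : ∀ u v, V4 z z' u → V4 z z' v → V4 z z' (u * v) := by
    intro u v hu hv
    apply four_of_commute hQ hzz hz'z' hz1 hz'1 hne hc
    · have h1 := V4_comm hc u z hu (Or.inr (Or.inl rfl))
      have h2 := V4_comm hc v z hv (Or.inr (Or.inl rfl))
      rw [mul_assoc, h2, ← mul_assoc, h1, mul_assoc]
    · have h1 := V4_comm hc u z' hu (Or.inr (Or.inr (Or.inl rfl)))
      have h2 := V4_comm hc v z' hv (Or.inr (Or.inr (Or.inl rfl)))
      rw [mul_assoc, h2, ← mul_assoc, h1, mul_assoc]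
  let V : Subgroup (PSL F) :=
    { carrier := {v | V4 z z' v}
      mul_mem' := fun {u v} hu hv => hmul u v hu hv
      one_mem' := Or.inl rfl
      inv_mem' := by
        intro v hv
        have h1 := V4_sq hQ hzz hz'z' hc hv
        show V4 z z' v⁻¹
        rw [inv_eq_of_mul_eq_one_left h1]
        exact hv }
  have hVm : ∀ v, v ∈ V ↔ V4 z z' v := fun v => Iff.rfl
  have hxV : ∀ v, V4 z z' v → V4 z z' (x * v * x⁻¹) := by
    rintro v (rfl | rfl | rfl | rfl)
    · exact Or.inl (by group)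
    · exact Or.inr (Or.inr (Or.inl rfl))
    · exact Or.inr (Or.inr (Or.inr h8))
    · have h9 : x * (z * z') * x⁻¹ = z := by rw [← h8]; exact h4
      rw [h9]
      exact Or.inr (Or.inl rfl)
  apply isSolvable_closure_of_normal V (fun u hu v hv => V4_comm hc u v hu hv)
    (show V4 z z' z from Or.inr (Or.inl rfl))
  rw [Subgroup.mem_normalizer_iff]
  intro v
  rw [hVm, hVm]
  constructor
  · exact hxV v
  · intro hv
    have h9 := hxV _ (hxV _ hv)
    have h10 : x * (x * (x * v * x⁻¹) * x⁻¹) * x⁻¹ = x ^ 3 * v * (x ^ 3)⁻¹ := by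
      rw [pow_succ, sq]; group
    rw [h10, hx3, one_mul, inv_one, mul_one] at h9
    exact h9

theorem solvable_iff_fix1 {x : PSL F} {a : OnePoint F} (hx : Fix1 x a) {y : PSL F}
    (hy : y • a ≠ a) :
    Group.IsSolvable (Subgroup.closure ({x, y} : Set (PSL F))) ↔
      Iv x y ∨ Iv x (x * y) ∨ Iv x (x⁻¹ * y) := by
  have hxS : x ∈ Subgroup.closure ({x, y} : Set (PSL F)) :=
    Subgroup.subset_closure (Set.mem_insert _ _)
  have hyS : y ∈ Subgroup.closure ({x, y} : Set (PSL F)) :=
    Subgroup.subset_closure (Set.mem_insert_of_mem _ rfl)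
  have hxa := (hx a).2 rfl
  constructor
  · intro h
    rcases solv_fix1 hQ h hxS hx with h1 | ⟨z, z', hz1, hz1', hne, hz, hz', hc, -, -, hV⟩
    · exact absurd (h1 y hyS) hy
    · have key : ∀ u, V4 z z' u → u ≠ 1 → Iv x u := fun u hu hu1 =>
        ⟨V4_sq hQ hz hz' hc hu, hu1, V4_comm hc _ _ hu (hV x hxS u hu)⟩
      rcases mem_cosets hQ hxS hx hz1 hz1' hne hz hz' hc hV hyS with h2 | h2 | h2
      · left
        apply key _ h2
        rintro rfl
        exact hy (one_smul _ _)
      · right; left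
        apply key _ h2
        intro h3
        have h4 : y = x⁻¹ := (inv_eq_of_mul_eq_one_right h3).symm
        apply hy
        rw [h4, inv_smul_eq_iff, hxa]
      · right; right
        apply key _ h2
        intro h3
        have h4 : y = x := (inv_mul_eq_one.1 h3).symm
        apply hy
        rw [h4, hxa]
  · rintro (h | h | h)
    · exact solvable_of_Iv hQ hx h
    · apply solv_of_le _ (solvable_of_Iv hQ hx h)
      apply closure_pair_le
      · exact Subgroup.subset_closure (Set.mem_insert _ _)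
      · have h1 : x ∈ Subgroup.closure ({x, x * y} : Set (PSL F)) :=
          Subgroup.subset_closure (Set.mem_insert _ _)
        have h2 : x * y ∈ Subgroup.closure ({x, x * y} : Set (PSL F)) :=
          Subgroup.subset_closure (Set.mem_insert_of_mem _ rfl)
        have h3 := mul_mem (inv_mem h1) h2
        rwa [inv_mul_cancel_left] at h3
    · apply solv_of_le _ (solvable_of_Iv hQ hx h)
      apply closure_pair_le
      · exact Subgroup.subset_closure (Set.mem_insert _ _)
      · have h1 : x ∈ Subgroup.closure ({x, x⁻¹ * y} : Set (PSL F)) :=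
          Subgroup.subset_closure (Set.mem_insert _ _)
        have h2 : x⁻¹ * y ∈ Subgroup.closure ({x, x⁻¹ * y} : Set (PSL F)) :=
          Subgroup.subset_closure (Set.mem_insert_of_mem _ rfl)
        have h3 := mul_mem h1 h2
        rwa [mul_inv_cancel_left] at h3

theorem not_Iv_mul {x : PSL F} {a : OnePoint F} (hx : Fix1 x a) {y : PSL F} (hy : Iv x y)
    (hxy : Iv x (x * y)) : False := by
  apply not_invert hQ hx hy.1 hy.2.1
  have h1 := hxy.1
  have h2 : y⁻¹ = y := inv_eq_of_mul_eq_one_left hy.1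
  rw [h2]
  apply eq_inv_of_mul_eq_one_right
  calc x * (y * x * y) = x * y * (x * y) := by group
    _ = 1 := h1

theorem sol_fix1 {x : PSL F} {a : OnePoint F} (hx : Fix1 x a) :
    sol x = Fintype.card F * d + 3 * Nat.card {z : PSL F // Iv x z} := by
  classical
  haveI := finite_psl F
  haveI := Fintype.ofFinite (PSL F)
  have hx3 := pow_three_of_fix1 hQ hx
  have hxa := (hx a).2 rfl
  have hxia : x⁻¹ • a = a := by rw [inv_smul_eq_iff, hxa]
  have hiff : ∀ y : PSL F, Group.IsSolvable (Subgroup.closure ({x, y} : Set (PSL F))) ↔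
      (y • a = a ∨ Iv x y ∨ Iv x (x * y) ∨ Iv x (x⁻¹ * y)) := by
    intro y
    have hfree : ∀ u : PSL F, Iv x u → u • a ≠ a := fun u hu =>
      free_of_inv hQ hu.1 hu.2.1 a
    by_cases hy : y • a = a
    · refine ⟨fun _ => Or.inl hy, fun _ => ?_⟩
      exact solv_of_le (closure_pair_le (stabilizer (PSL F) a) hxa hy) (solv_one a)
    · rw [solvable_iff_fix1 hQ hx hy]
      exact ⟨fun h => Or.inr h, fun h => h.resolve_left hy⟩
  have h1 : sol x = Nat.card {y : PSL F // y • a = a ∨ Iv x y ∨ Iv x (x * y) ∨ Iv x (x⁻¹ * y)} :=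
    Nat.card_congr (Equiv.subtypeEquivRight hiff)
  rw [h1]
  have ha : Nat.card {y : PSL F // y • a = a} = Fintype.card F * d := card_stabilizer (ord hQ) a
  have hc1 : Nat.card {y : PSL F // Iv x (x * y)} = Nat.card {z : PSL F // Iv x z} :=
    Nat.card_congr ((Equiv.mulLeft x).subtypeEquiv (fun y => Iff.rfl))
  have hc2 : Nat.card {y : PSL F // Iv x (x⁻¹ * y)} = Nat.card {z : PSL F // Iv x z} :=
    Nat.card_congr ((Equiv.mulLeft x⁻¹).subtypeEquiv (fun y => Iff.rfl))
  have hfree : ∀ u : PSL F, Iv x u → u • a ≠ a := fun u hu => free_of_inv hQ hu.1 hu.2.1 a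
  rw [Nat.card_eq_fintype_card, Fintype.card_subtype] at ha hc1 hc2 ⊢
  have e1 : (Finset.univ.filter (fun y : PSL F => y • a = a ∨ Iv x y ∨ Iv x (x * y) ∨
      Iv x (x⁻¹ * y))) = (Finset.univ.filter (fun y : PSL F => y • a = a)) ∪
      ((Finset.univ.filter (fun y : PSL F => Iv x y)) ∪
      ((Finset.univ.filter (fun y : PSL F => Iv x (x * y))) ∪
      (Finset.univ.filter (fun y : PSL F => Iv x (x⁻¹ * y))))) := by
    ext y
    simp only [Finset.mem_union, Finset.mem_filter, Finset.mem_univ, true_and]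
  have hd1 : Disjoint (Finset.univ.filter (fun y : PSL F => Iv x (x * y)))
      (Finset.univ.filter (fun y : PSL F => Iv x (x⁻¹ * y))) := by
    rw [Finset.disjoint_left]
    intro y hy hy'
    simp only [Finset.mem_filter, Finset.mem_univ, true_and] at hy hy'
    have h2 : x⁻¹ * y = x * (x * y) := by
      have h3 : x⁻¹ = x * x := by
        rw [inv_eq_iff_mul_eq_one, ← hx3, pow_succ, sq]
        group
      rw [h3, mul_assoc]
    rw [h2] at hy'
    exact not_Iv_mul hQ hx hy hy'
  have hd2 : Disjoint (Finset.univ.filter (fun y : PSL F => Iv x y))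
      ((Finset.univ.filter (fun y : PSL F => Iv x (x * y))) ∪
      (Finset.univ.filter (fun y : PSL F => Iv x (x⁻¹ * y)))) := by
    rw [Finset.disjoint_left]
    intro y hy hy'
    simp only [Finset.mem_union, Finset.mem_filter, Finset.mem_univ, true_and] at hy hy'
    rcases hy' with hy' | hy'
    · exact not_Iv_mul hQ hx hy hy'
    · have h2 : y = x * (x⁻¹ * y) := by group
      rw [h2] at hy
      exact not_Iv_mul hQ hx hy' hy
  have hd3 : Disjoint (Finset.univ.filter (fun y : PSL F => y • a = a))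
      ((Finset.univ.filter (fun y : PSL F => Iv x y)) ∪
      ((Finset.univ.filter (fun y : PSL F => Iv x (x * y))) ∪
      (Finset.univ.filter (fun y : PSL F => Iv x (x⁻¹ * y))))) := by
    rw [Finset.disjoint_left]
    intro y hy hy'
    simp only [Finset.mem_union, Finset.mem_filter, Finset.mem_univ, true_and] at hy hy'
    rcases hy' with hy' | hy' | hy'
    · exact hfree _ hy' hy
    · exact hfree _ hy' (by rw [mul_smul, hy, hxa])
    · exact hfree _ hy' (by rw [mul_smul, hy, hxia])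
  have hI : Nat.card {z : PSL F // Iv x z} = (Finset.univ.filter (fun y : PSL F => Iv x y)).card := by
    rw [Nat.card_eq_fintype_card, Fintype.card_subtype]
  rw [hI] at hc1 hc2 ⊢
  rw [e1, Finset.card_union_of_disjoint hd3, Finset.card_union_of_disjoint hd2,
    Finset.card_union_of_disjoint hd1, ha, hc1, hc2]
  ring

omit hQ in
theorem card_Iv_conj {G : Type*} [Group G] (x w : G) :
    Nat.card {z : G // Iv (w⁻¹ * x * w) z} = Nat.card {z : G // Iv x z} := by
  apply Nat.card_congr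
  refine (MulAut.conj w).toEquiv.subtypeEquiv ?_
  intro z
  show Iv (w⁻¹ * x * w) z ↔ Iv x (w * z * w⁻¹)
  have e1 : w * z * w⁻¹ * (w * z * w⁻¹) = w * (z * z) * w⁻¹ := by group
  have e2 : w * z * w⁻¹ * (x * (w * z * w⁻¹) * x⁻¹) =
      w * (z * (w⁻¹ * x * w * z * (w⁻¹ * x * w)⁻¹)) * w⁻¹ := by group
  have e3 : (x * (w * z * w⁻¹) * x⁻¹) * (w * z * w⁻¹) =
      w * ((w⁻¹ * x * w * z * (w⁻¹ * x * w)⁻¹) * z) * w⁻¹ := by group
  unfold Iv
  rw [e1, e2, e3, conj_eq_one_iff, Ne, Ne, conj_eq_one_iff]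
  constructor
  · rintro ⟨h1, h2, h3⟩
    exact ⟨h1, h2, by rw [h3]⟩
  · rintro ⟨h1, h2, h3⟩
    exact ⟨h1, h2, mul_left_cancel (mul_right_cancel h3)⟩

omit hQ in
theorem mk_up_inv (t : F) : (QuotientGroup.mk (up t) : PSL F)⁻¹ = QuotientGroup.mk (up (-t)) := by
  apply inv_eq_of_mul_eq_one_right
  rw [← QuotientGroup.mk_mul, up_mul, add_neg_cancel]
  apply mk_eq_one <;> simp [up]

theorem mk_mul_self {A : SpecialLinearGroup (Fin 2) F} (h : A 1 1 = - A 0 0) :
    (QuotientGroup.mk A : PSL F) * QuotientGroup.mk A = 1 := by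
  rw [← QuotientGroup.mk_mul]
  apply mk_eq_one
  · rw [mul01, h]; ring
  · rw [mul10, h]; ring
  · rw [mul00, mul11, h]; ring

/-- the relevant involutions for `x = up t` -/
theorem commute_up {A : SpecialLinearGroup (Fin 2) F} (h : A 1 1 = - A 0 0) {t : F}
    (ht : (t * A 1 0) ^ 2 = 1) : (QuotientGroup.mk A : PSL F) *
      (QuotientGroup.mk (up t) * QuotientGroup.mk A * (QuotientGroup.mk (up t))⁻¹) =
      (QuotientGroup.mk (up t) * QuotientGroup.mk A * (QuotientGroup.mk (up t))⁻¹) *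
      QuotientGroup.mk A := by
  rw [mk_up_inv]
  simp only [← QuotientGroup.mk_mul]
  have hd := det_eq A
  rw [h] at hd
  have h3 := hQ.three
  have e : A * (up t * A * up (-t)) = -(up t * A * up (-t) * A) := by
    apply ext2
    · simp only [SpecialLinearGroup.coe_neg, Matrix.neg_apply, mul00, mul01, mul10, mul11, up, mk00, mk01, mk10, mk11, h]
      linear_combination (-1 : F) * ht - 2 * hd - h3
    · simp only [SpecialLinearGroup.coe_neg, Matrix.neg_apply, mul00, mul01, mul10, mul11, up, mk00, mk01, mk10, mk11, h]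
      ring
    · simp only [SpecialLinearGroup.coe_neg, Matrix.neg_apply, mul00, mul01, mul10, mul11, up, mk00, mk01, mk10, mk11, h]
      ring
    · simp only [SpecialLinearGroup.coe_neg, Matrix.neg_apply, mul00, mul01, mul10, mul11, up, mk00, mk01, mk10, mk11, h]
      linear_combination (-1 : F) * ht - 2 * hd - h3
  rw [e, mk_neg]

/-- the matrices -/
def zm {t : F} (ht : t ≠ 0) (α : F) : SpecialLinearGroup (Fin 2) F :=
  mk α (-(1 + α ^ 2) * t) t⁻¹ (-α) (by field_simp; ring)

theorem Iv_zm {t : F} (ht : t ≠ 0) (α : F) :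
    Iv (QuotientGroup.mk (up t) : PSL F) (QuotientGroup.mk (zm ht α)) := by
  refine ⟨mk_mul_self hQ (by simp [zm]), ?_, commute_up hQ (by simp [zm]) ?_⟩
  · intro h
    have h1 : (QuotientGroup.mk (zm ht α) : PSL F) • (∞ : OnePoint F) = ∞ := by rw [h, one_smul]
    rw [mk_smul, smul_infty'] at h1
    have h2 : (zm ht α) 1 0 ≠ 0 := by
      simp only [zm, mk10]
      exact inv_ne_zero ht
    rw [if_neg h2] at h1
    exact OnePoint.coe_ne_infty _ h1
  · simp only [zm, mk10]
    rw [mul_inv_cancel₀ ht, one_pow]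

theorem card_Iv_up {t : F} (ht : t ≠ 0) :
    Nat.card {z : PSL F // Iv (QuotientGroup.mk (up t) : PSL F) z} = Fintype.card F := by
  rw [← Nat.card_eq_fintype_card]
  symm
  apply Nat.card_congr
  refine Equiv.ofBijective (fun α : F => ⟨QuotientGroup.mk (zm ht α), Iv_zm hQ ht α⟩) ⟨?_, ?_⟩
  · intro α β hαβ
    have h1 : (QuotientGroup.mk (zm ht α) : PSL F) = QuotientGroup.mk (zm ht β) :=
      congrArg Subtype.val hαβ
    rcases eq_or_eq_neg h1 with h2 | h2
    · have h3 : (zm ht α) 0 0 = (zm ht β) 0 0 := by rw [h2]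
      simpa [zm] using h3
    · exfalso
      have h3 : (zm ht α) 1 0 = (-(zm ht β)) 1 0 := by rw [h2]
      simp only [zm, mk10, SpecialLinearGroup.coe_neg, Matrix.neg_apply] at h3
      have h4 : (2 : F) * t⁻¹ = 0 := by linear_combination h3
      rcases mul_eq_zero.1 h4 with h5 | h5
      · exact two_ne hQ h5
      · exact inv_ne_zero ht h5
  · rintro ⟨z, hzz, hz1, hzc⟩
    have hfree := free_of_inv hQ hzz hz1
    obtain ⟨A, rfl⟩ := QuotientGroup.mk_surjective z
    have hd := det_eq A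
    have hA10 : A 1 0 ≠ 0 := fun h => hfree ∞ (mk_smul_infty h)
    have hA11 : A 1 1 = - A 0 0 := by
      have h1 : (QuotientGroup.mk (A * A) : PSL F) = QuotientGroup.mk 1 := hzz
      have h2 : (A * A) 1 0 = 0 := by
        rcases eq_or_eq_neg h1 with h | h
        · rw [h]; simp
        · rw [h]; simp
      rw [mul10] at h2
      have h3 : A 1 0 * (A 0 0 + A 1 1) = 0 := by linear_combination h2
      rcases mul_eq_zero.1 h3 with h | h
      · exact absurd h hA10
      · linear_combination h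
    have hsq : (t * A 1 0) ^ 2 = 1 := by
      rw [mk_up_inv] at hzc
      simp only [← QuotientGroup.mk_mul] at hzc
      rcases eq_or_eq_neg hzc with h | h
      · exfalso
        have h1 : (A * (up t * A * up (-t))) 1 0 = (up t * A * up (-t) * A) 1 0 := by rw [h]
        simp only [mul00, mul01, mul10, mul11, up, mk00, mk01, mk10, mk11, hA11] at h1
        have h2 : (2 : F) * (t * (A 1 0 * A 1 0)) = 0 := by linear_combination h1
        rcases mul_eq_zero.1 h2 with h3 | h3
        · exact two_ne hQ h3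
        · exact mul_ne_zero ht (mul_ne_zero hA10 hA10) h3
      · have h1 : (A * (up t * A * up (-t))) 0 0 = (-(up t * A * up (-t) * A)) 0 0 := by rw [h]
        rw [hA11] at hd
        simp only [SpecialLinearGroup.coe_neg, Matrix.neg_apply, mul00, mul01, mul10, mul11, up,
          mk00, mk01, mk10, mk11, hA11] at h1
        linear_combination (-1 : F) * h1 - 2 * hd - hQ.three
    have hsign : t * A 1 0 = 1 ∨ t * A 1 0 = -1 := by
      have h1 : (t * A 1 0 - 1) * (t * A 1 0 + 1) = 0 := by linear_combination hsq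
      rcases mul_eq_zero.1 h1 with h | h
      · exact Or.inl (by linear_combination h)
      · exact Or.inr (by linear_combination h)
    rw [hA11] at hd
    rcases hsign with h | h
    · refine ⟨A 0 0, Subtype.ext ?_⟩
      show (QuotientGroup.mk (zm ht (A 0 0)) : PSL F) = QuotientGroup.mk A
      congr 1
      have h10 : t⁻¹ = A 1 0 := inv_eq_of_mul_eq_one_right h
      apply ext2
      · rfl
      · simp only [zm, mk01]
        linear_combination t * hd + A 0 1 * h
      · simp only [zm, mk10]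
        exact h10
      · simp only [zm, mk11]
        exact hA11.symm
    · refine ⟨- A 0 0, Subtype.ext ?_⟩
      show (QuotientGroup.mk (zm ht (-A 0 0)) : PSL F) = QuotientGroup.mk A
      rw [← mk_neg A]
      congr 1
      have h10 : t⁻¹ = - A 1 0 := by
        have h' : t * (- A 1 0) = 1 := by linear_combination (-1 : F) * h
        exact inv_eq_of_mul_eq_one_right h'
      apply ext2
      · simp [zm]
      · simp only [zm, mk01, SpecialLinearGroup.coe_neg, Matrix.neg_apply]
        linear_combination t * hd + A 0 1 * h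
      · simp only [zm, mk10, SpecialLinearGroup.coe_neg, Matrix.neg_apply]
        exact h10
      · simp only [zm, mk11, SpecialLinearGroup.coe_neg, Matrix.neg_apply, hA11]

theorem card_Iv {x : PSL F} {a : OnePoint F} (hx : Fix1 x a) :
    Nat.card {z : PSL F // Iv x z} = Fintype.card F := by
  obtain ⟨w, t, ht, e, -⟩ := exists_conj_up hQ hx
  rw [← card_Iv_conj x w, e, card_Iv_up hQ ht]

/-! ### (D) involutions -/

/-- involutions -/
def Inv {G : Type*} [Group G] (z : G) : Prop := z * z = 1 ∧ z ≠ 1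

theorem isConj_inv {z z' : PSL F} (hz : Inv z) (hz' : Inv z') : IsConj z z' := by
  haveI := finite_psl F
  obtain ⟨a, s, T, hza⟩ := tor_of_inv hQ hz.1 hz.2
  obtain ⟨y, hy⟩ := T.exists_conj (ord hQ) (free_of_inv hQ hz'.1 hz'.2)
  have h1 : y⁻¹ * z' * y = z := by
    apply unique_inv hQ T hza hy hz.1 _ hz.2
    · intro h
      apply hz'.2
      have : z' = y * (y⁻¹ * z' * y) * y⁻¹ := by group
      rw [this, h]
      group
    · calc y⁻¹ * z' * y * (y⁻¹ * z' * y) = y⁻¹ * (z' * z') * y := by group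
        _ = 1 := by rw [hz'.1]; group
  rw [isConj_iff]
  refine ⟨y, ?_⟩
  rw [← h1]
  group

theorem card_centralizer_inv {z : PSL F} (hz : Inv z) :
    Nat.card (Subgroup.centralizer ({z} : Set (PSL F))) = 2 * e := by
  haveI := finite_psl F
  obtain ⟨a, s, T, hza⟩ := tor_of_inv hQ hz.1 hz.2
  rw [← T.card_normalizer (by have := hQ.e_mod; omega)]
  congr 1
  have : Subgroup.centralizer ({z} : Set (PSL F)) =
      Subgroup.normalizer (Subgroup.zpowers a : Set (PSL F)) := by
    ext g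
    rw [Subgroup.mem_centralizer_singleton_iff, mem_norm_iff hQ T]
    constructor
    · exact mem_of_commute hQ T hza hz.2
    · rintro (h | h)
      · obtain ⟨i, rfl⟩ := h
        obtain ⟨j, hj⟩ := hza
        have hj' : a ^ j = z := hj
        rw [← hj']
        change a ^ i * a ^ j = a ^ j * a ^ i
        rw [← _root_.zpow_add, ← _root_.zpow_add, add_comm]
      · have h1 := (sq_of_mul_s hQ T h).2 z hza
        rw [inv_eq_of_mul_eq_one_left hz.1, mul_inv_eq_iff_eq_mul] at h1
        exact h1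
  rw [this]

theorem exists_inv : ∃ z : PSL F, Inv z := by
  haveI := finite_psl F
  obtain ⟨a, s, T⟩ := exists_tor (ord hQ)
  exact ⟨s, T.ss, fun h => T.nmem (h ▸ Subgroup.one_mem _)⟩

theorem card_inv : Nat.card {z : PSL F // Inv z} = Fintype.card F * d := by
  haveI := finite_psl F
  obtain ⟨z, hz⟩ := exists_inv hQ
  have h1 : Nat.card {z : PSL F // Inv z} = Nat.card {x : PSL F // IsConj z x} := by
    apply Nat.card_congr
    apply Equiv.subtypeEquivRight
    intro x
    constructor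
    · exact fun hx => isConj_inv hQ hz hx
    · intro hx
      obtain ⟨g, rfl⟩ := isConj_iff.1 hx
      refine ⟨?_, fun h => hz.2 (conj_eq_one_iff.1 h)⟩
      calc g * z * g⁻¹ * (g * z * g⁻¹) = g * (z * z) * g⁻¹ := by group
        _ = 1 := by rw [hz.1]; group
  rw [h1, ← Cfsg.Agent.Blocks.ClassScalar.index_centralizer]
  have h2 := Subgroup.card_mul_index (Subgroup.centralizer ({z} : Set (PSL F)))
  rw [card_centralizer_inv hQ hz, (ord hQ).card1, hQ.q_eq] at h2
  have e1 : 2 * d + 1 - 1 = 2 * d := by omega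
  rw [e1] at h2
  rw [hQ.q_eq]
  have hpos : 0 < 2 * e := by have := hQ.e_mod; omega
  apply Nat.eq_of_mul_eq_mul_left hpos
  rw [h2]
  ring

/-- two involutions generate a solvable group -/
theorem solvable_two_inv {G : Type*} [Group G] {x y : G} (hx : x * x = 1) (hy : y * y = 1) :
    Group.IsSolvable (Subgroup.closure ({x, y} : Set G)) := by
  have hxi : x⁻¹ = x := inv_eq_of_mul_eq_one_left hx
  have hyi : y⁻¹ = y := inv_eq_of_mul_eq_one_left hy
  have hinv : x * (x * y) * x⁻¹ = (x * y)⁻¹ := by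
    rw [_root_.mul_inv_rev, hxi, hyi]
    calc x * (x * y) * x = (x * x) * y * x := by group
      _ = y * x := by rw [hx, one_mul]
  have h1 : Group.IsSolvable (Subgroup.closure ({x, x * y} : Set G)) := by
    apply isSolvable_closure_of_normal (Subgroup.zpowers (x * y))
    · rintro _ ⟨i, rfl⟩ _ ⟨j, rfl⟩
      change (x * y) ^ i * (x * y) ^ j = (x * y) ^ j * (x * y) ^ i
      rw [← _root_.zpow_add, ← _root_.zpow_add, add_comm]
    · exact Subgroup.mem_zpowers _
    · have key : ∀ v ∈ Subgroup.zpowers (x * y), x * v * x⁻¹ ∈ Subgroup.zpowers (x * y) := by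
        rintro _ ⟨i, rfl⟩
        change x * (x * y) ^ i * x⁻¹ ∈ Subgroup.zpowers (x * y)
        rw [← conj_zpow, hinv]
        exact Subgroup.zpow_mem _ (inv_mem (Subgroup.mem_zpowers _)) i
      rw [Subgroup.mem_normalizer_iff]
      intro v
      refine ⟨key v, fun hv => ?_⟩
      have h2 := key _ hv
      rw [hxi] at h2
      have h3 : x * (x * v * x) * x = (x * x) * v * (x * x) := by group
      rw [h3, hx, one_mul, mul_one] at h2
      exact h2
  refine solv_of_le (closure_pair_le _ ?_ ?_) h1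
  · exact Subgroup.subset_closure (Set.mem_insert _ _)
  · have h2 : x ∈ Subgroup.closure ({x, x * y} : Set G) :=
      Subgroup.subset_closure (Set.mem_insert _ _)
    have h3 : x * y ∈ Subgroup.closure ({x, x * y} : Set G) :=
      Subgroup.subset_closure (Set.mem_insert_of_mem _ rfl)
    have h4 := mul_mem (inv_mem h2) h3
    rwa [inv_mul_cancel_left] at h4

/-- the number of involutions generating with `y` a solvable group -/
noncomputable def Ni {G : Type*} [Group G] (y : G) : ℕ :=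
  Nat.card {x : G // Inv x ∧ Group.IsSolvable (Subgroup.closure ({x, y} : Set G))}

theorem Ni_one : Ni (1 : PSL F) = Fintype.card F * d := by
  rw [← card_inv hQ]
  apply Nat.card_congr
  apply Equiv.subtypeEquivRight
  intro x
  refine ⟨fun h => h.1, fun h => ⟨h, ?_⟩⟩
  exact solvable_two_inv hQ h.1 (one_mul 1)

theorem Ni_inv {y : PSL F} (hy : Inv y) : Ni y = Fintype.card F * d := by
  rw [← card_inv hQ]
  apply Nat.card_congr
  apply Equiv.subtypeEquivRight
  intro x
  refine ⟨fun h => h.1, fun h => ⟨h, ?_⟩⟩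
  exact solvable_two_inv hQ h.1 hy.1

theorem card_inv_norm {a s : PSL F} (T : Tor a s e) :
    Nat.card {x : PSL F // Inv x ∧ x ∈ Subgroup.normalizer (Subgroup.zpowers a : Set (PSL F))} =
      e + 1 := by
  classical
  haveI := finite_psl F
  haveI := Fintype.ofFinite (PSL F)
  have he := hQ.e_mod
  -- the involution of the torus
  have hz : Inv (a ^ (e / 2)) := by
    constructor
    · rw [← pow_add]
      have : e / 2 + e / 2 = e := by omega
      rw [this, ← T.ord, pow_orderOf_eq_one]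
    · intro h
      have h1 := orderOf_dvd_of_pow_eq_one h
      rw [T.ord] at h1
      have := Nat.le_of_dvd (by omega) h1
      omega
  have hza : a ^ (e / 2) ∈ Subgroup.zpowers a := Subgroup.npow_mem_zpowers a _
  have h1 : (Finset.univ.filter (fun x : PSL F => Inv x ∧
      x ∈ Subgroup.normalizer (Subgroup.zpowers a : Set (PSL F)))) =
      insert (a ^ (e / 2)) (Finset.univ.filter (fun x : PSL F => x * s ∈ Subgroup.zpowers a)) := by
    ext x
    simp only [Finset.mem_insert, Finset.mem_filter, Finset.mem_univ, true_and]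
    rw [mem_norm_iff hQ T]
    constructor
    · rintro ⟨hx, h | h⟩
      · exact Or.inl (unique_inv hQ T hza h hz.1 hx.1 hz.2 hx.2)
      · exact Or.inr h
    · rintro (rfl | h)
      · exact ⟨hz, Or.inl hza⟩
      · refine ⟨⟨(sq_of_mul_s hQ T h).1, ?_⟩, Or.inr h⟩
        rintro rfl
        rw [one_mul] at h
        exact T.nmem h
  have h2 : (a ^ (e / 2)) ∉ (Finset.univ.filter (fun x : PSL F => x * s ∈ Subgroup.zpowers a)) := by
    simp only [Finset.mem_filter, Finset.mem_univ, true_and]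
    intro h
    apply T.nmem
    have := mul_mem (inv_mem hza) h
    rwa [inv_mul_cancel_left] at this
  have h3 : (Finset.univ.filter (fun x : PSL F => x * s ∈ Subgroup.zpowers a)).card = e := by
    rw [← Fintype.card_subtype, ← Nat.card_eq_fintype_card]
    have h4 : Nat.card {x : PSL F // x * s ∈ Subgroup.zpowers a} = Nat.card (Subgroup.zpowers a) :=
      Nat.card_congr ((Equiv.mulRight s).subtypeEquiv (fun x => Iff.rfl))
    rw [h4, Nat.card_zpowers, T.ord]
  rw [Nat.card_eq_fintype_card, Fintype.card_subtype, h1, Finset.card_insert_of_notMem h2, h3]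

theorem Ni_free {y : PSL F} (hy : Free (OnePoint F) y) (hyy : y * y ≠ 1) : Ni y = e + 1 := by
  haveI := finite_psl F
  obtain ⟨a, s, T, hya⟩ := exists_tor_of_free (ord hQ) hy
  rw [← card_inv_norm hQ T]
  have hy1 : y ≠ 1 := by
    rintro rfl
    exact hyy (mul_one 1)
  apply Nat.card_congr
  apply Equiv.subtypeEquivRight
  intro x
  rw [Set.pair_comm, solvable_iff_free hQ T hya hy1 hyy]

theorem Ni_fix2 {y : PSL F} {a b : OnePoint F} (hab : a ≠ b) (hy : Fix2 y a b) : Ni y = d := by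
  rw [← card_swap hQ hab]
  apply Nat.card_congr
  apply Equiv.subtypeEquivRight
  intro x
  rw [Set.pair_comm, solvable_iff_fix2 hQ hab hy]
  constructor
  · rintro ⟨hx, h⟩
    have hf := free_of_inv hQ hx.1 hx.2
    rcases h with h | h | h
    · exact absurd h (hf a)
    · exact absurd h (hf b)
    · exact h
  · intro h
    refine ⟨⟨swap_sq hab h.1 h.2, ?_⟩, Or.inr (Or.inr h)⟩
    rintro rfl
    exact hab ((one_smul (PSL F) a).symm.trans h.1)

theorem Ni_fix1 {y : PSL F} {a : OnePoint F} (hy : Fix1 y a) : Ni y = Fintype.card F := by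
  rw [← card_Iv hQ hy]
  apply Nat.card_congr
  apply Equiv.subtypeEquivRight
  intro x
  constructor
  · rintro ⟨hx, h⟩
    have hf := free_of_inv hQ hx.1 hx.2
    rw [Set.pair_comm, solvable_iff_fix1 hQ hy (hf a)] at h
    have hxi : x⁻¹ = x := inv_eq_of_mul_eq_one_left hx.1
    rcases h with h | h | h
    · exact h
    · exfalso
      apply not_invert hQ hy hx.1 hx.2
      rw [hxi]
      apply eq_inv_of_mul_eq_one_right
      calc y * (x * y * x) = y * x * (y * x) := by group
        _ = 1 := h.1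
    · exfalso
      apply not_invert hQ hy hx.1 hx.2
      have h1 := h.1
      have h2 : x * y⁻¹ * x = y := by
        have h3 : y * (y⁻¹ * x * (y⁻¹ * x)) = x * y⁻¹ * x := by group
        rw [← h3, h1, mul_one]
      rw [hxi]
      calc x * y * x = x * (x * y⁻¹ * x) * x := by rw [h2]
        _ = (x * x) * y⁻¹ * (x * x) := by group
        _ = y⁻¹ := by rw [hx.1, one_mul, mul_one]
  · intro h
    refine ⟨⟨h.1, h.2.1⟩, ?_⟩
    rw [Set.pair_comm]
    exact solvable_of_Iv hQ hy h

theorem fix1_up {t : F} (ht : t ≠ 0) : Fix1 (QuotientGroup.mk (up t) : PSL F) (∞ : OnePoint F) := by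
  intro x
  constructor
  · intro hx
    induction x using OnePoint.rec with
    | infty => rfl
    | coe x =>
      exfalso
      rw [mk_smul, up_smul, OnePoint.coe_eq_coe] at hx
      exact ht (by linear_combination hx)
  · rintro rfl
    rw [mk_smul, up_infty]

theorem card_fix1_infty : Nat.card {x : PSL F // Fix1 x (∞ : OnePoint F)} = Fintype.card F - 1 := by
  have h1 : Nat.card Fˣ = Fintype.card F - 1 := by
    rw [Nat.card_eq_fintype_card, Fintype.card_units]
  rw [← h1]
  symm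
  apply Nat.card_congr
  refine Equiv.ofBijective (fun t : Fˣ => ⟨QuotientGroup.mk (up (t : F)), fix1_up hQ t.ne_zero⟩) ⟨?_, ?_⟩
  · intro s t hst
    have h3 : (QuotientGroup.mk (up (s : F)) : PSL F) = QuotientGroup.mk (up (t : F)) :=
      congrArg Subtype.val hst
    have h4 : (QuotientGroup.mk (up (s : F)) : PSL F) • ((0 : F) : OnePoint F) =
        (QuotientGroup.mk (up (t : F)) : PSL F) • ((0 : F) : OnePoint F) := by rw [h3]
    rw [mk_smul, up_smul, mk_smul, up_smul, OnePoint.coe_eq_coe, zero_add, zero_add] at h4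
    exact Units.ext h4
  · rintro ⟨x, hx⟩
    obtain ⟨t, ht, rfl⟩ := exists_up hx
    exact ⟨Units.mk0 t ht, rfl⟩

theorem card_fix1_at (a : OnePoint F) : Nat.card {x : PSL F // Fix1 x a} = Fintype.card F - 1 := by
  rw [← card_fix1_infty hQ]
  obtain ⟨w, hw⟩ := exists_smul_infty a
  symm
  apply Nat.card_congr
  refine (MulAut.conj w).toEquiv.subtypeEquiv ?_
  intro x
  show Fix1 x (∞ : OnePoint F) ↔ Fix1 (w * x * w⁻¹) a
  constructor
  · intro h p
    rw [mul_smul, mul_smul, ← eq_inv_smul_iff, h, inv_smul_eq_iff, hw]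
  · intro h p
    have h1 := h (w • p)
    rw [mul_smul, mul_smul, inv_smul_smul, ← hw] at h1
    rw [smul_left_cancel_iff, smul_left_cancel_iff] at h1
    exact h1

theorem card_fix1 : Nat.card {x : PSL F // ∃ a : OnePoint F, Fix1 x a} =
    (Fintype.card F + 1) * (Fintype.card F - 1) := by
  classical
  haveI := finite_psl F
  haveI := Fintype.ofFinite (OnePoint F)
  have e : {x : PSL F // ∃ a : OnePoint F, Fix1 x a} ≃ Σ a : OnePoint F, {x : PSL F // Fix1 x a} :=
    { toFun := fun x => ⟨x.2.choose, ⟨x.1, x.2.choose_spec⟩⟩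
      invFun := fun t => ⟨t.2.1, ⟨t.1, t.2.2⟩⟩
      left_inv := fun x => rfl
      right_inv := by
        rintro ⟨b, ⟨x, hx⟩⟩
        have hb' : (⟨b, hx⟩ : ∃ a : OnePoint F, Fix1 x a).choose = b :=
          (hx _).1 (((⟨b, hx⟩ : ∃ a : OnePoint F, Fix1 x a).choose_spec _).2 rfl)
        apply Sigma.ext hb'
        have key : ∀ (c : OnePoint F) (hc : Fix1 x c), c = b →
            HEq (⟨x, hc⟩ : {x : PSL F // Fix1 x c}) (⟨x, hx⟩ : {x : PSL F // Fix1 x b}) := by
          rintro c hc rfl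
          rfl
        exact key _ _ hb' }
  rw [Nat.card_congr e, Nat.card_sigma, Finset.sum_congr rfl (fun a _ => card_fix1_at hQ a),
    Finset.sum_const, Finset.card_univ, smul_eq_mul, ← Nat.card_eq_fintype_card, card_onePoint]

theorem sol_conj {G : Type*} [Group G] (x w : G) : sol (w * x * w⁻¹) = sol x := by
  symm
  apply Nat.card_congr
  refine (MulAut.conj w).toEquiv.subtypeEquiv ?_
  intro y
  show _ ↔ Group.IsSolvable (Subgroup.closure ({w * x * w⁻¹, w * y * w⁻¹} : Set G))
  have h1 : Subgroup.closure ({w * x * w⁻¹, w * y * w⁻¹} : Set G) =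
      (Subgroup.closure ({x, y} : Set G)).map (MulAut.conj w).toMonoidHom := by
    rw [MonoidHom.map_closure]
    congr 1
    ext z
    simp [eq_comm]
  have e2 : Subgroup.closure ({x, y} : Set G) ≃* Subgroup.closure ({w * x * w⁻¹, w * y * w⁻¹} : Set G) := by
    rw [h1]
    exact (Subgroup.closure ({x, y} : Set G)).equivMapOfInjective _ (MulAut.conj w).injective
  constructor
  · intro h
    exact Group.isSolvable_of_isSolvable_injective (f := e2.symm.toMonoidHom) e2.symm.injective
  · intro h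
    exact Group.isSolvable_of_isSolvable_injective (f := e2.toMonoidHom) e2.injective

theorem sol_inv {x : PSL F} (hx : Inv x) : sol x = Fintype.card F * (Fintype.card F + 1) := by
  classical
  haveI := finite_psl F
  haveI := Fintype.ofFinite (PSL F)
  -- double counting
  have eq0 : (Σ x : {x : PSL F // Inv x}, {y : PSL F //
      Group.IsSolvable (Subgroup.closure ({(x : PSL F), y} : Set (PSL F)))}) ≃
      (Σ y : PSL F, {x : PSL F // Inv x ∧ Group.IsSolvable (Subgroup.closure ({x, y} : Set (PSL F)))}) :=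
    { toFun := fun u => ⟨u.2.1, ⟨u.1.1, u.1.2, u.2.2⟩⟩
      invFun := fun u => ⟨⟨u.2.1, u.2.2.1⟩, ⟨u.1, u.2.2.2⟩⟩
      left_inv := fun u => rfl
      right_inv := fun u => rfl }
  have h := Nat.card_congr eq0
  rw [Nat.card_sigma, Nat.card_sigma] at h
  have h1 : ∀ z : {x : PSL F // Inv x}, Nat.card {y : PSL F //
      Group.IsSolvable (Subgroup.closure ({(z : PSL F), y} : Set (PSL F)))} = sol x := by
    intro z
    obtain ⟨g, hg⟩ := isConj_iff.1 (isConj_inv hQ hx z.2)
    rw [← sol_conj hQ x g, hg]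
    rfl
  rw [Finset.sum_congr rfl (fun z _ => h1 z), Finset.sum_const, Finset.card_univ, smul_eq_mul,
    ← Nat.card_eq_fintype_card (α := {x : PSL F // Inv x}), card_inv hQ] at h
  -- the types of elements
  have hF1 : ∀ y : PSL F, (∃ a : OnePoint F, Fix1 y a) → y ≠ 1 ∧ ¬ Free (OnePoint F) y := by
    rintro y ⟨a, ha⟩
    exact ⟨ne_one_of_fix1 hQ ha, fun hf => hf a ((ha a).2 rfl)⟩
  have hF2 : ∀ y : PSL F, (∃ a b : OnePoint F, a ≠ b ∧ Fix2 y a b) → y ≠ 1 ∧
      ¬ Free (OnePoint F) y ∧ ¬ (∃ a : OnePoint F, Fix1 y a) := by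
    rintro y ⟨a, b, hab, hf⟩
    refine ⟨ne_one_of_fix2 hQ hab hf, fun h => h a ((hf a).2 (Or.inl rfl)), ?_⟩
    rintro ⟨c, hc⟩
    exact hab (((hc a).1 ((hf a).2 (Or.inl rfl))).trans ((hc b).1 ((hf b).2 (Or.inr rfl))).symm)
  have hone : ¬ Free (OnePoint F) (1 : PSL F) := fun h => h ∞ (one_smul _ _)
  have hval : ∀ (c1 c2 c3 c4 c5 : ℕ) (g : PSL F → ℕ), g 1 = c1 → (∀ y, Inv y → g y = c2) →
      (∀ y, Free (OnePoint F) y → y * y ≠ 1 → g y = c3) →
      (∀ y, (∃ a : OnePoint F, Fix1 y a) → g y = c4) →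
      (∀ y, (∃ a b : OnePoint F, a ≠ b ∧ Fix2 y a b) → g y = c5) →
      ∑ y : PSL F, g y = c1 + Nat.card {y : PSL F // Inv y} * c2 +
        Nat.card {y : PSL F // Free (OnePoint F) y ∧ y * y ≠ 1} * c3 +
        Nat.card {y : PSL F // ∃ a : OnePoint F, Fix1 y a} * c4 +
        Nat.card {y : PSL F // ∃ a b : OnePoint F, a ≠ b ∧ Fix2 y a b} * c5 := by
    intro c1 c2 c3 c4 c5 g h1 h2 h3 h4 h5
    have hpt : ∀ y : PSL F, g y = (if y = 1 then c1 else 0) + (if Inv y then c2 else 0) +
        (if Free (OnePoint F) y ∧ y * y ≠ 1 then c3 else 0) +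
        (if ∃ a : OnePoint F, Fix1 y a then c4 else 0) +
        (if ∃ a b : OnePoint F, a ≠ b ∧ Fix2 y a b then c5 else 0) := by
      intro y
      by_cases hy1 : y = 1
      · have a1 : ¬ Inv y := fun h => h.2 hy1
        have a2 : ¬ (Free (OnePoint F) y ∧ y * y ≠ 1) := fun h => hone (hy1 ▸ h.1)
        have a3 : ¬ ∃ a : OnePoint F, Fix1 y a := fun h => (hF1 y h).1 hy1
        have a4 : ¬ ∃ a b : OnePoint F, a ≠ b ∧ Fix2 y a b := fun h => (hF2 y h).1 hy1
        rw [if_pos hy1, if_neg a1, if_neg a2, if_neg a3, if_neg a4, hy1, h1]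
        rfl
      · rw [if_neg hy1]
        rcases fix_cases hy1 with h | h | h
        · have a3 : ¬ ∃ a : OnePoint F, Fix1 y a := fun h' => (hF1 y h').2 h
          have a4 : ¬ ∃ a b : OnePoint F, a ≠ b ∧ Fix2 y a b := fun h' => (hF2 y h').2.1 h
          rw [if_neg a3, if_neg a4]
          by_cases hyy : y * y = 1
          · have a1 : Inv y := ⟨hyy, hy1⟩
            have a2 : ¬ (Free (OnePoint F) y ∧ y * y ≠ 1) := fun h' => h'.2 hyy
            rw [if_pos a1, if_neg a2, h2 y a1]
            ring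
          · have a1 : ¬ Inv y := fun h' => hyy h'.1
            rw [if_neg a1, if_pos ⟨h, hyy⟩, h3 y h hyy]
            ring
        · have a1 : ¬ Inv y := fun h' => (hF1 y h).2 (free_of_inv hQ h'.1 h'.2)
          have a2 : ¬ (Free (OnePoint F) y ∧ y * y ≠ 1) := fun h' => (hF1 y h).2 h'.1
          have a4 : ¬ ∃ a b : OnePoint F, a ≠ b ∧ Fix2 y a b := fun h' => (hF2 y h').2.2 h
          rw [if_neg a1, if_neg a2, if_pos h, if_neg a4, h4 y h]
          ring
        · have a1 : ¬ Inv y := fun h' => (hF2 y h).2.1 (free_of_inv hQ h'.1 h'.2)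
          have a2 : ¬ (Free (OnePoint F) y ∧ y * y ≠ 1) := fun h' => (hF2 y h).2.1 h'.1
          have a3 : ¬ ∃ a : OnePoint F, Fix1 y a := (hF2 y h).2.2
          rw [if_neg a1, if_neg a2, if_neg a3, if_pos h, h5 y h]
          ring
    have hcard : ∀ (P : PSL F → Prop) [DecidablePred P] (c : ℕ),
        ∑ y : PSL F, (if P y then c else 0) = Nat.card {y : PSL F // P y} * c := by
      intro P _ c
      rw [← Finset.sum_filter, Finset.sum_const, smul_eq_mul, Nat.card_eq_fintype_card,
        Fintype.card_subtype]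
    rw [Finset.sum_congr rfl (fun y _ => hpt y), Finset.sum_add_distrib, Finset.sum_add_distrib,
      Finset.sum_add_distrib, Finset.sum_add_distrib, hcard (fun y => y = 1),
      hcard (fun y => Inv y), hcard (fun y => Free (OnePoint F) y ∧ y * y ≠ 1),
      hcard (fun y => ∃ a : OnePoint F, Fix1 y a),
      hcard (fun y => ∃ a b : OnePoint F, a ≠ b ∧ Fix2 y a b)]
    have h11 : Nat.card {y : PSL F // y = 1} = 1 := by
      rw [Nat.card_eq_fintype_card, Fintype.card_subtype_eq]
    rw [h11, one_mul]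
  have htot := hval 1 1 1 1 1 (fun _ => 1) rfl (fun _ _ => rfl) (fun _ _ _ => rfl) (fun _ _ => rfl)
    (fun _ _ => rfl)
  have hN := hval (Fintype.card F * d) (Fintype.card F * d) (e + 1) (Fintype.card F) d (fun y => Ni y)
    (Ni_one hQ) (fun y hy => Ni_inv hQ hy) (fun y hy hyy => Ni_free hQ hy hyy)
    (fun y hy => by obtain ⟨a, ha⟩ := hy; exact Ni_fix1 hQ ha)
    (fun y hy => by obtain ⟨a, b, hab, h⟩ := hy; exact Ni_fix2 hQ hab h)
  have hfr : Nat.card {y : PSL F // Free (OnePoint F) y} = Nat.card {y : PSL F // Inv y} +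
      Nat.card {y : PSL F // Free (OnePoint F) y ∧ y * y ≠ 1} := by
    have h1 := hval 0 1 1 0 0 (fun y => if Free (OnePoint F) y then 1 else 0)
      (if_neg hone) (fun y hy => if_pos (free_of_inv hQ hy.1 hy.2)) (fun y hy _ => if_pos hy)
      (fun y hy => if_neg (hF1 y hy).2) (fun y hy => if_neg (hF2 y hy).2.1)
    rw [← Finset.sum_filter, Finset.sum_const, smul_eq_mul, mul_one] at h1
    rw [Nat.card_eq_fintype_card, Fintype.card_subtype, h1]
    ring
  have hfree := two_mul_card_free (F := F)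
  have hfree' : Nat.card {g : PSL F // ∀ x : OnePoint F, g • x ≠ x} =
      Nat.card {y : PSL F // Free (OnePoint F) y} := rfl
  rw [hfree', hfr, (ord hQ).card1] at hfree
  have hG : ∑ _y : PSL F, 1 = Nat.card (PSL F) := by
    rw [Finset.sum_const, smul_eq_mul, mul_one, Finset.card_univ, Nat.card_eq_fintype_card]
  rw [hG, (ord hQ).card1] at htot
  have h6 : Fintype.card F * d * sol x = ∑ y : PSL F, Ni y := h
  rw [h6.symm] at hN
  rw [card_inv hQ, card_fix1 hQ] at htot hN
  rw [card_inv hQ] at hfree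
  rw [hQ.q_eq, hQ.e_eq] at htot hN hfree
  rw [hQ.q_eq]
  generalize Nat.card {y : PSL F // Free (OnePoint F) y ∧ y * y ≠ 1} = n3 at htot hN hfree
  generalize Nat.card {y : PSL F // ∃ a b : OnePoint F, a ≠ b ∧ Fix2 y a b} = n5 at htot hN
  generalize sol x = S at hN ⊢
  have hd1 : 1 ≤ d := by
    have := hQ.e_eq
    have := hQ.e_mod
    omega
  obtain ⟨k, rfl⟩ : ∃ k, d = k + 1 := ⟨d - 1, by omega⟩
  have e1 : 2 * (k + 1) + 1 - 1 = 2 * (k + 1) := by omega
  rw [e1] at htot hfree hN
  have h3 : n3 = (2 * (k + 1) + 1) * (k + 1) * k := by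
    have : 2 * n3 = 2 * ((2 * (k + 1) + 1) * (k + 1) * k) := by nlinarith
    omega
  rw [h3] at htot hN
  have h5 : n5 = (2 * (k + 1) + 1) * (k + 2) * k := by nlinarith
  rw [h5] at hN
  have hpos : 0 < (2 * (k + 1) + 1) * (k + 1) := by positivity
  apply Nat.eq_of_mul_eq_mul_left hpos
  rw [hN]
  ring

end q3

end Cfsg.Agent.H102.PslThree
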