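import Mathlib
import Cfsg.Agent.H98.SzReal
import Cfsg.Agent.H98.SzPartition
import Cfsg.Agent.H102.RankOneSol

/-!
# Solubilizers in the Suzuki groups
-/

set_option autoImplicit false
set_option linter.style.haveILetI false

namespace Cfsg.Agent.H102.SzSol

open scoped MatrixGroups Matrix Pointwise
open Matrix MulAction
open Cfsg.Agent.LieExceptional
open Cfsg.Agent.LieExceptional.SuzukiBasic Cfsg.Agent.LieExceptional.SuzukiSylow
open Cfsg.Agent.LieExceptional.SuzukiCN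
open Cfsg.Agent.H98.SzBasic
open Cfsg.Agent.H102.RankOneSol (Hyp Free Fix1 Fix2 IsT phi)

variable {F : Type*} [Field F] [Fintype F] {m : ℕ}

theorem free_iff {g : Cfsg.Sz F m} :
    Free (Cfsg.suzukiOvoid F m) g ↔
      g ∈ SuzukiTori.Hyp.free (Cfsg.Sz F m) (Cfsg.suzukiOvoid F m) := by
  haveI := finite_ovoid F m
  rw [SuzukiTori.Hyp.mem_free_iff]
  rfl

section borel

variable (hm : 1 ≤ m) (hF : Fintype.card F = 2 ^ (2 * m + 1))

/-- the diagonal part of an element fixing infinity -/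
noncomputable def kk (g : stabilizer (Cfsg.Sz F m) (inf F m)) : Fˣ :=
  (eq_u_mul_h hm hF g.2).choose_spec.choose_spec.choose

theorem kk_spec (g : stabilizer (Cfsg.Sz F m) (inf F m)) :
    ∃ a b, (g : Cfsg.Sz F m) = u hF a b * h hF (kk hm hF g) :=
  ⟨_, _, (eq_u_mul_h hm hF g.2).choose_spec.choose_spec.choose_spec⟩

theorem kk_eq (g : stabilizer (Cfsg.Sz F m) (inf F m)) {a b : F} {k : Fˣ}
    (e : (g : Cfsg.Sz F m) = u hF a b * h hF k) : kk hm hF g = k := by
  obtain ⟨c, d, h1⟩ := kk_spec hm hF g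
  exact (u_mul_h_inj hF (h1.symm.trans e)).2.2

/-- the diagonal part as a homomorphism -/
noncomputable def kkHom : stabilizer (Cfsg.Sz F m) (inf F m) →* Fˣ where
  toFun := kk hm hF
  map_one' := kk_eq hm hF 1 (a := 0) (b := 0) (k := 1) (by rw [u_zero_zero, h_one, mul_one]; rfl)
  map_mul' := by
    intro x y
    obtain ⟨a, b, hx⟩ := kk_spec hm hF x
    obtain ⟨c, d, hy⟩ := kk_spec hm hF y
    refine kk_eq hm hF (x * y) (a := a + (kk hm hF x) * c)
      (b := b + (kk hm hF x : F) ^ (2 ^ (m + 1) + 1) * d + a ^ 2 ^ (m + 1) * ((kk hm hF x) * c)) ?_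
    rw [← u_mul, h_mul]
    show (x : Cfsg.Sz F m) * y = _
    conv_lhs => rw [hx, hy]
    calc u hF a b * h hF (kk hm hF x) * (u hF c d * h hF (kk hm hF y)) =
        u hF a b * (h hF (kk hm hF x) * u hF c d) * h hF (kk hm hF y) := by group
      _ = _ := by
        rw [h_mul_u]
        simp only [mul_assoc]

theorem kkHom_ker {g : stabilizer (Cfsg.Sz F m) (inf F m)} (hg : kkHom hm hF g = 1) :
    (g : Cfsg.Sz F m) ∈ Q hF := by
  obtain ⟨a, b, h1⟩ := kk_spec hm hF g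
  have h2 : kk hm hF g = 1 := hg
  rw [h2, h_one, mul_one] at h1
  exact ⟨a, b, h1⟩

theorem le_stab : Q hF ≤ stabilizer (Cfsg.Sz F m) (inf F m) := by
  rintro g ⟨a, b, rfl⟩
  exact u_smul_inf hF a b

include hm hF

theorem isSolvable_stabilizer_inf : Group.IsSolvable (stabilizer (Cfsg.Sz F m) (inf F m)) := by
  haveI : Fact (Nat.Prime 2) := ⟨Nat.prime_two⟩
  haveI : Finite (Q hF) := Finite.of_equiv _ (equivQ hF)
  haveI : Group.IsNilpotent (Q hF) := (isPGroup_Q hF).isNilpotent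
  haveI : Group.IsSolvable (Q hF) := inferInstance
  haveI : Group.IsSolvable Fˣ := inferInstance
  refine Group.isSolvable_of_ker_le_range (Subgroup.inclusion (le_stab hF)) (kkHom hm hF) ?_
  intro g hg
  exact ⟨⟨g, kkHom_ker hm hF hg⟩, Subtype.ext rfl⟩

theorem isSolvable_stabilizer (a : Cfsg.suzukiOvoid F m) :
    Group.IsSolvable (stabilizer (Cfsg.Sz F m) a) := by
  obtain ⟨w, hw⟩ := exists_move_inf hF a
  haveI := isSolvable_stabilizer_inf hm hF
  have e := stabilizerEquivStabilizer (G := Cfsg.Sz F m) (a := a) (b := inf F m) (g := w) hw.symm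
  exact Group.isSolvable_of_isSolvable_injective (f := e.toMonoidHom) e.injective

theorem card_stab_two {a b : Cfsg.suzukiOvoid F m} (hab : a ≠ b) :
    Nat.card (stabilizer (Cfsg.Sz F m) a ⊓ stabilizer (Cfsg.Sz F m) b : Subgroup (Cfsg.Sz F m)) =
      2 ^ (2 * m + 1) - 1 := by
  rw [← card_T hF]
  obtain ⟨w, hw1, hw2⟩ := exists_move hF hab
  apply Nat.card_congr
  refine (MulAut.conj w).toEquiv.subtypeEquiv ?_
  intro g
  show (g • a = a ∧ g • b = b) ↔ w * g * w⁻¹ ∈ T hF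
  rw [mem_T_iff]
  have e1 : a = w⁻¹ • inf F m := by rw [← hw1, inv_smul_smul]
  have e2 : b = w⁻¹ • zer F m := by rw [← hw2, inv_smul_smul]
  constructor
  · rintro ⟨h1, h2⟩
    obtain ⟨k, hk⟩ := eq_h hm hF (g := w * g * w⁻¹) (by
      rw [mul_smul, mul_smul, ← e1, h1, hw1]) (by rw [mul_smul, mul_smul, ← e2, h2, hw2])
    exact ⟨k, hk.symm⟩
  · rintro ⟨k, hk⟩
    have hg : g = w⁻¹ * h hF k * w := by rw [hk]; group
    constructor
    · rw [hg, mul_smul, mul_smul, hw1, h_smul_inf, ← e1]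
    · rw [hg, mul_smul, mul_smul, hw2, h_smul_zer, ← e2]

theorem comm_two {a b : Cfsg.suzukiOvoid F m} (hab : a ≠ b) (x y : Cfsg.Sz F m)
    (hxa : x • a = a) (hxb : x • b = b) (hya : y • a = a) (hyb : y • b = b) : x * y = y * x := by
  obtain ⟨w, hw1, hw2⟩ := exists_move hF hab
  have e1 : a = w⁻¹ • inf F m := by rw [← hw1, inv_smul_smul]
  have e2 : b = w⁻¹ • zer F m := by rw [← hw2, inv_smul_smul]
  obtain ⟨k, hk⟩ := eq_h hm hF (g := w * x * w⁻¹) (by
    rw [mul_smul, mul_smul, ← e1, hxa, hw1]) (by rw [mul_smul, mul_smul, ← e2, hxb, hw2])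
  obtain ⟨l, hl⟩ := eq_h hm hF (g := w * y * w⁻¹) (by
    rw [mul_smul, mul_smul, ← e1, hya, hw1]) (by rw [mul_smul, mul_smul, ← e2, hyb, hw2])
  have hx : x = w⁻¹ * h hF k * w := by rw [← hk]; group
  have hy : y = w⁻¹ * h hF l * w := by rw [← hl]; group
  have h3 : h hF k * h hF l = h hF l * h hF k := by rw [← h_mul, ← h_mul, mul_comm]
  calc x * y = w⁻¹ * (h hF k * h hF l) * w := by rw [hx, hy]; group
    _ = w⁻¹ * (h hF l * h hF k) * w := by rw [h3]
    _ = y * x := by rw [hx, hy]; group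

theorem hyp : Hyp (Cfsg.Sz F m) (Cfsg.suzukiOvoid F m) ((2 ^ (2 * m + 1)) ^ 2)
    (2 ^ (2 * m + 1) - 1) := by
  haveI := finite_ovoid F m
  have HH := SuzukiHyp.hyp hm hF
  refine ⟨HH.card_set, ⟨(2 * m + 1) * 2, by omega, by rw [pow_mul]⟩, ?_, ?_, ?_,
    fun a b hab => card_stab_two hm hF hab, fun a b hab g h => comm_two hm hF hab g h,
    fun a => isSolvable_stabilizer hm hF a, ?_, ?_⟩
  · exact Cfsg.Agent.H98.SzPartition.odd_of_mem (m := m) (Or.inl rfl)
  · intro g a b c hab hac hbc h1 h2 h3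
    apply Subtype.ext
    exact SuzukiBasic.eq_one_of_fix_three hm hF g.2 a.2 b.2 c.2 (fun h => hab (Subtype.ext h))
      (fun h => hac (Subtype.ext h)) (fun h => hbc (Subtype.ext h))
      (congrArg Subtype.val h1) (congrArg Subtype.val h2) (congrArg Subtype.val h3)
  · intro a b a' b' hab hab'
    obtain ⟨g, h1, h2⟩ := exists_move hF hab
    obtain ⟨g', h1', h2'⟩ := exists_move hF hab'
    refine ⟨g'⁻¹ * g, ?_, ?_⟩
    · rw [mul_smul, h1, ← h1', inv_smul_smul]
    · rw [mul_smul, h2, ← h2', inv_smul_smul]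
  · intro g hg
    have h1 := card_centralizer_free hm hF (free_iff.1 hg)
    apply Cfsg.Agent.H98.SzPartition.odd_of_mem (m := m)
    exact Or.inr h1
  · intro g hg
    exact HH.comm_of_free (free_iff.1 hg)

end borel

section counting

variable (hm : 1 ≤ m) (hF : Fintype.card F = 2 ^ (2 * m + 1))

local notation "C(" g ")" => Subgroup.centralizer ({g} : Set (Cfsg.Sz F m))

theorem card_normalizer_conj {G : Type*} [Group G] (g t : G) :
    Nat.card (Subgroup.normalizer ((Subgroup.centralizer ({g * t * g⁻¹} : Set G) : Subgroup G) : Set G)) =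
    Nat.card (Subgroup.normalizer ((Subgroup.centralizer ({t} : Set G) : Subgroup G) : Set G)) := by
  symm
  apply Nat.card_congr
  refine (MulAut.conj g).toEquiv.subtypeEquiv ?_
  intro x
  exact (RankOneSol.mem_normalizer_centralizer_iff_conj (t := t) (g := g) (x := x)).symm

include hm hF

theorem exists_model {g : Cfsg.Sz F m} (hg : Free (Cfsg.suzukiOvoid F m) g) {n : ℕ}
    (hn : Nat.card C(g) = n) :
    ∃ g₁ : Cfsg.Sz F m, Free (Cfsg.suzukiOvoid F m) g₁ ∧ Nat.card C(g₁) = n ∧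
      Nat.card (Subgroup.normalizer ((C(g₁) : Subgroup (Cfsg.Sz F m)) : Set (Cfsg.Sz F m))) = 4 * n ∧
      ∃ y : Cfsg.Sz F m, C(y * g * y⁻¹) = C(g₁) := by
  haveI := finite_ovoid F m
  have HH := SuzukiHyp.hyp hm hF
  have h1 := card_centralizer_free hm hF (free_iff.1 hg)
  rw [hn] at h1
  obtain ⟨g₁, hg₁, hc₁, hN₁⟩ := HH.exists_tori rfl n h1
  have hn1 : 1 < n := Cfsg.Agent.H98.SzPartition.one_lt_of_mem hm (Or.inr h1)
  obtain ⟨p, hp, hpn⟩ := Nat.exists_prime_and_dvd hn1.ne'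
  have h2 : g ∈ SuzukiTori.tset (Subgroup.centralizer ({g₁} : Set (Cfsg.Sz F m))) :=
    HH.mem_tset_of_dvd hg₁ (free_iff.1 hg) hp (by rw [hc₁]; exact hpn) (by rw [hn]; exact hpn)
  obtain ⟨hg1, y, hy⟩ := h2
  refine ⟨g₁, free_iff.2 hg₁, hc₁, hN₁, y⁻¹, ?_⟩
  rw [inv_inv]
  apply HH.centralizer_eq hg₁ hy
  intro e
  apply hg1
  have : g = y * (y⁻¹ * g * y) * y⁻¹ := by group
  rw [this, e]
  group

theorem norm_free (g : Cfsg.Sz F m) (hg : Free (Cfsg.suzukiOvoid F m) g) :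
    Nat.card (Subgroup.normalizer ((C(g) : Subgroup (Cfsg.Sz F m)) : Set (Cfsg.Sz F m))) =
      2 ^ 2 * Nat.card C(g) := by
  obtain ⟨g₁, h1, h2, h3, y, hy⟩ := exists_model hm hF hg rfl
  rw [← hy, card_normalizer_conj] at h3
  exact h3

theorem card_type {n : ℕ} (hn : n = 2 ^ (2 * m + 1) + 2 ^ (m + 1) + 1 ∨
      n = 2 ^ (2 * m + 1) - 2 ^ (m + 1) + 1) :
    4 * (Nat.card {t : Cfsg.Sz F m // Free (Cfsg.suzukiOvoid F m) t ∧ Nat.card C(t) = n} * n) =
      Nat.card (Cfsg.Sz F m) * (n - 1) := by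
  haveI := finite_ovoid F m
  have HH := SuzukiHyp.hyp hm hF
  obtain ⟨g₁, hg₁, hc₁, hN₁⟩ := HH.exists_tori rfl n hn
  have h1 := HH.card_tset_eq hg₁
  rw [hN₁, hc₁] at h1
  rw [← h1]
  have h2 : Nat.card (SuzukiTori.tset (Subgroup.centralizer ({g₁} : Set (Cfsg.Sz F m)))) =
      Nat.card {t : Cfsg.Sz F m // Free (Cfsg.suzukiOvoid F m) t ∧ Nat.card C(t) = n} := by
    apply Nat.card_congr
    apply Equiv.subtypeEquivRight
    intro t
    constructor
    · intro ht
      have hfree := HH.tset_subset_free hg₁ ht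
      refine ⟨free_iff.2 hfree, ?_⟩
      obtain ⟨ht1, y, hy⟩ := ht
      have h3 : Subgroup.centralizer ({y⁻¹ * t * y} : Set (Cfsg.Sz F m)) = Subgroup.centralizer {g₁} := by
        apply HH.centralizer_eq hg₁ hy
        intro e
        apply ht1
        have : t = y * (y⁻¹ * t * y) * y⁻¹ := by group
        rw [this, e]
        group
      have h4 := card_centralizer_conj y⁻¹ t
      rw [inv_inv, h3, hc₁] at h4
      exact h4.symm
    · rintro ⟨hf, hc⟩
      have hn1 : 1 < n := Cfsg.Agent.H98.SzPartition.one_lt_of_mem hm (Or.inr hn)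
      obtain ⟨p, hp, hpn⟩ := Nat.exists_prime_and_dvd hn1.ne'
      exact HH.mem_tset_of_dvd hg₁ (free_iff.1 hf) hp (by rw [hc₁]; exact hpn) (by rw [hc]; exact hpn)
  rw [h2]
  ring

theorem sum_centralizer :
    4 * ∑ᶠ t : {t : Cfsg.Sz F m // Free (Cfsg.suzukiOvoid F m) t}, Nat.card C((t : Cfsg.Sz F m)) =
      Nat.card (Cfsg.Sz F m) * (2 * 2 ^ (2 * m + 1)) := by
  classical
  haveI := finite_ovoid F m
  haveI := Fintype.ofFinite (Cfsg.Sz F m)
  have h1 := card_type hm hF (Or.inl rfl)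
  have h2 := card_type hm hF (Or.inr rfl)
  set n₁ := 2 ^ (2 * m + 1) + 2 ^ (m + 1) + 1 with hn₁
  set n₂ := 2 ^ (2 * m + 1) - 2 ^ (m + 1) + 1 with hn₂
  have hle : 2 ^ (m + 1) ≤ 2 ^ (2 * m + 1) := Nat.pow_le_pow_right (by norm_num) (by omega)
  have hpos : 0 < 2 ^ (m + 1) := by positivity
  have hne : n₁ ≠ n₂ := by omega
  rw [finsum_eq_sum_of_fintype]
  have hs : ∑ t : {t : Cfsg.Sz F m // Free (Cfsg.suzukiOvoid F m) t}, Nat.card C((t : Cfsg.Sz F m)) =
      Nat.card {t : Cfsg.Sz F m // Free (Cfsg.suzukiOvoid F m) t ∧ Nat.card C(t) = n₁} * n₁ +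
      Nat.card {t : Cfsg.Sz F m // Free (Cfsg.suzukiOvoid F m) t ∧ Nat.card C(t) = n₂} * n₂ := by
    have e1 : ∀ n : ℕ, Nat.card {t : Cfsg.Sz F m // Free (Cfsg.suzukiOvoid F m) t ∧ Nat.card C(t) = n} * n =
        ∑ t : {t : Cfsg.Sz F m // Free (Cfsg.suzukiOvoid F m) t},
          if Nat.card C((t : Cfsg.Sz F m)) = n then n else 0 := by
      intro n
      rw [← Finset.sum_filter, Finset.sum_const, smul_eq_mul]
      congr 1
      rw [← Fintype.card_subtype, ← Nat.card_eq_fintype_card]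
      apply Nat.card_congr
      exact (Equiv.subtypeSubtypeEquivSubtypeInter (fun t : Cfsg.Sz F m => Free (Cfsg.suzukiOvoid F m) t)
        (fun t => Nat.card C(t) = n)).symm
    rw [e1, e1, ← Finset.sum_add_distrib]
    apply Finset.sum_congr rfl
    intro t _
    have h3 := card_centralizer_free hm hF (free_iff.1 t.2)
    rcases h3 with h3 | h3
    · have h3' : Nat.card C((t : Cfsg.Sz F m)) = n₁ := h3
      rw [if_pos h3', if_neg (by rw [h3']; exact hne), h3', add_zero]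
    · have h3' : Nat.card C((t : Cfsg.Sz F m)) = n₂ := h3
      rw [if_pos h3', if_neg (by rw [h3']; exact hne.symm), h3', zero_add]
  rw [hs, mul_add, h1, h2, ← mul_add]
  congr 1
  omega

end counting

section two

variable (hm : 1 ≤ m) (hF : Fintype.card F = 2 ^ (2 * m + 1))

theorem u_sq (a b : F) : u hF a b ^ 2 = u hF 0 (a ^ 2 ^ (m + 1) * a) := by
  rw [sq, u_mul, add_self hF, add_self hF, zero_add]

theorem u_pow_four (a b : F) : u hF a b ^ 4 = 1 := by
  have h1 : u hF a b ^ 4 = (u hF a b ^ 2) ^ 2 := by rw [← pow_mul]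
  rw [h1, u_sq, u_sq, mul_zero, u_zero_zero]

theorem orderOf_u_zero {b : F} (hb : b ≠ 0) : orderOf (u hF 0 b : Cfsg.Sz F m) = 2 := by
  apply orderOf_eq_prime
  · rw [u_sq, mul_zero, u_zero_zero]
  · intro h
    exact hb ((u_eq_one_iff hF 0 b).1 h).2

theorem orderOf_u {a : F} (ha : a ≠ 0) (b : F) : orderOf (u hF a b : Cfsg.Sz F m) = 4 := by
  have h1 : orderOf (u hF a b : Cfsg.Sz F m) = 2 ^ (1 + 1) := by
    apply orderOf_eq_prime_pow
    · rw [pow_one, u_sq, u_eq_one_iff]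
      rintro ⟨-, h⟩
      exact (mul_ne_zero (pow_ne_zero _ ha) ha) h
    · exact u_pow_four hF a b
  rw [h1]
  norm_num

/-- the map `c ↦ c ^ σ + c` -/
def sadd : F →+ F where
  toFun c := c ^ 2 ^ (m + 1) + c
  map_zero' := by rw [zero_pow (sigma_ne_zero m), add_zero]
  map_add' x y := by
    show (x + y) ^ 2 ^ (m + 1) + (x + y) = _
    rw [sigma_add hF]
    ring

include hF in
theorem exists_sadd (b : F) : ∃ c : F, c ^ 2 ^ (m + 1) + c = b ∨ c ^ 2 ^ (m + 1) + c = b + 1 := by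
  classical
  have := charP_two hF
  have h2 : (2 : F) = 0 := CharTwo.two_eq_zero
  set f : F →+ F := sadd hF with hf
  have hker : Nat.card f.ker ≤ 2 := by
    have h1 : (f.ker : Set F) ⊆ ({0, 1} : Set F) := by
      intro c hc
      have h3 : c ^ 2 ^ (m + 1) + c = 0 := hc
      have h4 : c ^ 2 ^ (m + 1) = c := by linear_combination h3 - c * h2
      have h5 : (c ^ 2 ^ (m + 1)) ^ 2 ^ (m + 1) = c ^ 2 ^ (m + 1) :=
        congrArg (fun x : F => x ^ 2 ^ (m + 1)) h4
      rw [sigma_sigma hF, h4] at h5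
      have h6 : c * (c - 1) = 0 := by linear_combination h5
      rcases mul_eq_zero.1 h6 with h7 | h7
      · exact Or.inl h7
      · exact Or.inr (sub_eq_zero.1 h7)
    calc Nat.card f.ker = Set.ncard (f.ker : Set F) := Nat.card_coe_set_eq _
      _ ≤ Set.ncard ({0, 1} : Set F) := Set.ncard_le_ncard h1 (Set.toFinite _)
      _ ≤ 2 := Set.ncard_insert_le _ _ |>.trans (by rw [Set.ncard_singleton])
  have hidx : f.range.index ≤ 2 := by
    have h1 := AddSubgroup.card_mul_index f.ker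
    have h3 := AddSubgroup.card_mul_index f.range
    rw [AddSubgroup.index_ker] at h1
    have hpos : 0 < Nat.card f.range := Nat.card_pos
    have h4 : f.range.index = Nat.card f.ker := by
      apply Nat.eq_of_mul_eq_mul_left hpos
      rw [h3, ← h1, mul_comm]
    rw [h4]
    exact hker
  have hone : (1 : F) ∉ f.range := by
    rintro ⟨c, hc⟩
    exact Cfsg.Agent.H98.SzReal.sigma_add_ne_one hF c hc
  by_cases hb : b ∈ f.range
  · obtain ⟨c, hc⟩ := hb
    exact ⟨c, Or.inl hc⟩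
  · have hidx0 : f.range.index ≠ 0 := AddSubgroup.index_ne_zero_of_finite
    have hidx1 : f.range.index ≠ 1 := by
      intro h
      rw [AddSubgroup.index_eq_one] at h
      apply hone
      rw [h]
      exact AddSubgroup.mem_top _
    have hidx2 : f.range.index = 2 := by omega
    have h3 := (AddSubgroup.add_mem_iff_of_index_two hidx2 (a := b) (b := 1)).2
      ⟨fun h => absurd h hb, fun h => absurd h hone⟩
    obtain ⟨c, hc⟩ := h3
    exact ⟨c, Or.inr hc⟩

include hm hF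

theorem eq_u_of_fix1 {x : Cfsg.Sz F m} (h : Fix1 x (inf F m)) : ∃ a b, x = u hF a b := by
  obtain ⟨a, b, e⟩ := eq_U_of_fix_only_infinity hm hF x.2 (congrArg Subtype.val ((h _).2 rfl))
    (fun p hp hfix => congrArg Subtype.val ((h ⟨p, hp⟩).1 (Subtype.ext hfix)))
  exact ⟨a, b, Subtype.ext e⟩

theorem eq_u_of_pow {x : Cfsg.Sz F m} {k : ℕ} (hk : x ^ 2 ^ k = 1) (h : x • inf F m = inf F m) :
    ∃ a b, x = u hF a b := by
  haveI := finite_ovoid F m
  by_cases hx : x = 1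
  · exact ⟨0, 0, by rw [hx, u_zero_zero]⟩
  · obtain ⟨a, ha⟩ := (hyp hm hF).fix1_of_pow hx hk
    have h1 : inf F m = a := (ha _).1 h
    rw [← h1] at ha
    exact eq_u_of_fix1 hm hF ha

theorem card_inv_inf : Nat.card {x : Cfsg.Sz F m // orderOf x = 2 ∧ x • inf F m = inf F m} =
    2 ^ (2 * m + 1) - 1 := by
  have h1 : Nat.card Fˣ = 2 ^ (2 * m + 1) - 1 := by
    rw [Nat.card_units, Nat.card_eq_fintype_card, hF]
  rw [← h1]
  symm
  apply Nat.card_congr
  refine Equiv.ofBijective (fun t : Fˣ => ⟨u hF 0 t, orderOf_u_zero hF t.ne_zero, u_smul_inf hF 0 t⟩) ?_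
  constructor
  · intro s t hst
    have h2 : u hF (0 : F) s = u hF 0 t := congrArg Subtype.val hst
    exact Units.ext ((u_eq_iff hF _ _ _ _).1 h2).2
  · rintro ⟨x, hx, hxi⟩
    have h3 : x ^ 2 ^ 1 = 1 := by
      have := pow_orderOf_eq_one x
      rwa [hx] at this
    obtain ⟨a, b, rfl⟩ := eq_u_of_pow hm hF h3 hxi
    have ha : a = 0 := by
      by_contra ha
      rw [orderOf_u hF ha] at hx
      omega
    subst ha
    have hb : b ≠ 0 := by
      rintro rfl
      rw [u_zero_zero, orderOf_one] at hx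
      omega
    exact ⟨Units.mk0 b hb, Subtype.ext rfl⟩

theorem card_four_inf : Nat.card {x : Cfsg.Sz F m // orderOf x = 4 ∧ x • inf F m = inf F m} =
    (2 ^ (2 * m + 1) - 1) * 2 ^ (2 * m + 1) := by
  have h1 : Nat.card (Fˣ × F) = (2 ^ (2 * m + 1) - 1) * 2 ^ (2 * m + 1) := by
    rw [Nat.card_prod, Nat.card_units, Nat.card_eq_fintype_card, hF]
  rw [← h1]
  symm
  apply Nat.card_congr
  refine Equiv.ofBijective (fun t : Fˣ × F => ⟨u hF t.1 t.2, orderOf_u hF t.1.ne_zero t.2,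
    u_smul_inf hF t.1 t.2⟩) ?_
  constructor
  · rintro ⟨s, s'⟩ ⟨t, t'⟩ hst
    have h2 : u hF (s : F) s' = u hF t t' := congrArg Subtype.val hst
    have h3 := (u_eq_iff hF _ _ _ _).1 h2
    exact Prod.ext (Units.ext h3.1) h3.2
  · rintro ⟨x, hx, hxi⟩
    have h3 : x ^ 2 ^ 2 = 1 := by
      have := pow_orderOf_eq_one x
      rwa [hx] at this
    obtain ⟨a, b, rfl⟩ := eq_u_of_pow hm hF h3 hxi
    have ha : a ≠ 0 := by
      rintro rfl
      by_cases hb : b = 0
      · rw [hb, u_zero_zero, orderOf_one] at hx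
        omega
      · rw [orderOf_u_zero hF hb] at hx
        omega
    exact ⟨(Units.mk0 a ha, b), Subtype.ext rfl⟩

/-- all elements of order 4 are conjugate to `u 1 0` or its inverse -/
theorem exists_conj_four {x : Cfsg.Sz F m} (hx : orderOf x = 4) :
    ∃ g : Cfsg.Sz F m, g * x * g⁻¹ = u hF 1 0 ∨ g * x * g⁻¹ = (u hF 1 0)⁻¹ := by
  haveI := finite_ovoid F m
  have := charP_two hF
  have h2 : (2 : F) = 0 := CharTwo.two_eq_zero
  have hx1 : x ≠ 1 := by
    rintro rfl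
    rw [orderOf_one] at hx
    omega
  have hx4 : x ^ 2 ^ 2 = 1 := by
    have := pow_orderOf_eq_one x
    rwa [hx] at this
  obtain ⟨p, hp⟩ := (hyp hm hF).fix1_of_pow hx1 hx4
  obtain ⟨w, hw⟩ := exists_move_inf hF p
  have hwp : w⁻¹ • inf F m = p := by rw [← hw, inv_smul_smul]
  have hyord : orderOf (w * x * w⁻¹) = 4 := ((MulAut.conj w).orderOf_eq x).trans hx
  obtain ⟨a, b, hab⟩ := eq_u_of_pow hm hF (x := w * x * w⁻¹) (k := 2) (by
    have := pow_orderOf_eq_one (w * x * w⁻¹)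
    rwa [hyord] at this) (by rw [mul_smul, mul_smul, hwp, (hp p).2 rfl, hw])
  have ha : a ≠ 0 := by
    rintro rfl
    rw [hab] at hyord
    by_cases hb : b = 0
    · rw [hb, u_zero_zero, orderOf_one] at hyord
      omega
    · rw [orderOf_u_zero hF hb] at hyord
      omega
  set k : Fˣ := (Units.mk0 a ha)⁻¹ with hk
  have hka : (k : F) * a = 1 := by
    rw [hk, Units.val_inv_eq_inv_val, Units.val_mk0]
    exact inv_mul_cancel₀ ha
  set b' : F := (k : F) ^ (2 ^ (m + 1) + 1) * b with hb'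
  have hconj : h hF k * u hF a b * (h hF k)⁻¹ = u hF 1 b' := by
    rw [h_mul_u, hka, mul_inv_cancel_right]
  obtain ⟨c, hc⟩ := exists_sadd hF b'
  refine ⟨u hF c 0 * h hF k * w, ?_⟩
  have hall : ∀ b'' : F, b' + c ^ 2 ^ (m + 1) = b'' + c →
      u hF c 0 * h hF k * w * x * (u hF c 0 * h hF k * w)⁻¹ = u hF 1 b'' := by
    intro b'' hb''
    have e1 : u hF c 0 * h hF k * w * x * (u hF c 0 * h hF k * w)⁻¹ =
        u hF c 0 * (h hF k * (w * x * w⁻¹) * (h hF k)⁻¹) * (u hF c 0)⁻¹ := by group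
    rw [e1, hab, hconj, mul_inv_eq_iff_eq_mul, u_mul, u_mul, u_eq_iff]
    refine ⟨by ring, ?_⟩
    rw [one_pow]
    linear_combination hb''
  rcases hc with hc | hc
  · left
    apply hall
    linear_combination (-1 : F) * hc + c ^ 2 ^ (m + 1) * h2
  · right
    rw [u_inv, one_pow, zero_add]
    apply hall
    linear_combination (-1 : F) * hc + (c ^ 2 ^ (m + 1) - 1) * h2

theorem two_mul_phi_two {x : Cfsg.Sz F m} (hx : orderOf x = 2) :
    2 * phi (Cfsg.suzukiOvoid F m) x = (2 ^ (2 * m + 1)) ^ 3 := by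
  haveI := finite_ovoid F m
  have H := hyp hm hF
  have h1 := RankOneSol.card_mul_phi (Ω := Cfsg.suzukiOvoid F m)
    (fun x : Cfsg.Sz F m => orderOf x = 2)
    (phi (Cfsg.suzukiOvoid F m) x) 1 (fun y hy => by
      obtain ⟨g, hg⟩ := H.isConj_of_involution hx hy
      rw [← hg, RankOneSol.phi_conj]) (fun t ht => by
      rw [one_mul]
      exact (H.isT_free ht).card_involutions one_le_two (norm_free hm hF t ht))
  rw [one_mul, H.card_of_fix1 (fun x : Cfsg.Sz F m => orderOf x = 2) (fun x hx => by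
      apply H.fix1_of_pow (k := 1)
      · intro h1
        rw [h1, orderOf_one] at hx
        omega
      · have h5 := pow_orderOf_eq_one x
        rwa [hx] at h5) (fun g x hx => ((MulAut.conj g).orderOf_eq x).trans hx) (inf F m),
    card_inv_inf hm hF] at h1
  have h2 := sum_centralizer hm hF
  rw [← h1, card_Sz hm hF] at h2
  have h8 : 8 ≤ 2 ^ (2 * m + 1) := (SuzukiHyp.hyp hm hF).eight_le
  generalize 2 ^ (2 * m + 1) = q at h2 h8 ⊢
  generalize phi (Cfsg.suzukiOvoid F m) x = f at h2 ⊢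
  obtain ⟨k, rfl⟩ : ∃ k, q = k + 2 := ⟨q - 2, by omega⟩
  have e1 : k + 2 - 1 = k + 1 := by omega
  rw [e1] at h2
  have h3 : (2 * ((k + 2) ^ 2 + 1) * (k + 1)) * (2 * f) =
      (2 * ((k + 2) ^ 2 + 1) * (k + 1)) * (k + 2) ^ 3 := by
    calc (2 * ((k + 2) ^ 2 + 1) * (k + 1)) * (2 * f) =
          4 * ((((k + 2) ^ 2) + 1) * (k + 1) * f) := by ring
      _ = _ := by rw [h2]; ring
  exact Nat.eq_of_mul_eq_mul_left (by positivity) h3

theorem phi_four {x : Cfsg.Sz F m} (hx : orderOf x = 4) :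
    phi (Cfsg.suzukiOvoid F m) x = (2 ^ (2 * m + 1)) ^ 2 := by
  haveI := finite_ovoid F m
  have H := hyp hm hF
  have hconst : ∀ y : Cfsg.Sz F m, orderOf y = 4 →
      phi (Cfsg.suzukiOvoid F m) y = phi (Cfsg.suzukiOvoid F m) (u hF 1 0) := by
    intro y hy
    obtain ⟨g, hg⟩ := exists_conj_four hm hF hy
    rcases hg with hg | hg
    · rw [← hg, RankOneSol.phi_conj]
    · rw [← RankOneSol.phi_inv (u hF 1 0), ← hg, RankOneSol.phi_conj]
  have h1 := RankOneSol.card_mul_phi (Ω := Cfsg.suzukiOvoid F m)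
    (fun x : Cfsg.Sz F m => orderOf x = 4)
    (phi (Cfsg.suzukiOvoid F m) x) 2 (fun y hy => by
      rw [hconst y hy, hconst x hx]) (fun t ht =>
      (H.isT_free ht).card_order_four (norm_free hm hF t ht))
  rw [H.card_of_fix1 (fun x : Cfsg.Sz F m => orderOf x = 4) (fun x hx => by
      apply H.fix1_of_pow (k := 2)
      · intro h1
        rw [h1, orderOf_one] at hx
        omega
      · have h5 := pow_orderOf_eq_one x
        rwa [hx] at h5) (fun g x hx => ((MulAut.conj g).orderOf_eq x).trans hx) (inf F m),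
    card_four_inf hm hF] at h1
  have h2 := sum_centralizer hm hF
  rw [card_Sz hm hF] at h2
  generalize (∑ᶠ t : {t : Cfsg.Sz F m // Free (Cfsg.suzukiOvoid F m) t},
    Nat.card (Subgroup.centralizer ({(t : Cfsg.Sz F m)} : Set (Cfsg.Sz F m)))) = S at h1 h2
  have h8 : 8 ≤ 2 ^ (2 * m + 1) := (SuzukiHyp.hyp hm hF).eight_le
  generalize 2 ^ (2 * m + 1) = q at h1 h2 h8 ⊢
  generalize phi (Cfsg.suzukiOvoid F m) x = f at h1 ⊢
  obtain ⟨k, rfl⟩ : ∃ k, q = k + 2 := ⟨q - 2, by omega⟩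
  have e1 : k + 2 - 1 = k + 1 := by omega
  rw [e1] at h1 h2
  have h3 : (2 * (((k + 2) ^ 2 + 1) * ((k + 1) * (k + 2)))) * f =
      (2 * (((k + 2) ^ 2 + 1) * ((k + 1) * (k + 2)))) * (k + 2) ^ 2 := by
    calc (2 * (((k + 2) ^ 2 + 1) * ((k + 1) * (k + 2)))) * f =
          2 * (((k + 2) ^ 2 + 1) * ((k + 1) * (k + 2)) * f) := by ring
      _ = 4 * S := by rw [h1]; ring
      _ = _ := by rw [h2]; ring
  exact Nat.eq_of_mul_eq_mul_left (by positivity) h3

/-! ### The main theorem for `Cfsg.Sz F m` -/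

/-- the size of the solubilizer -/
noncomputable def sol {G : Type*} [Group G] (x : G) : ℕ :=
  Nat.card {y : G // Group.IsSolvable ↥(Subgroup.closure ({x, y} : Set G))}

theorem one_lt_d : 1 < 2 ^ (2 * m + 1) - 1 := by
  have h8 : 8 ≤ 2 ^ (2 * m + 1) := (SuzukiHyp.hyp hm hF).eight_le
  omega

theorem sol_two {x : Cfsg.Sz F m} (hx : orderOf x = 2) :
    sol x = (2 ^ (2 * m + 1)) ^ 2 * (4 * 2 ^ (2 * m + 1) - 3) := by
  haveI := finite_ovoid F m
  have H := hyp hm hF
  have hd := one_lt_d hm hF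
  have hx1 : x ≠ 1 := by
    rintro rfl
    rw [orderOf_one] at hx
    omega
  have hxx : x * x = 1 := by
    have h5 := pow_orderOf_eq_one x
    rw [hx, sq] at h5
    exact h5
  obtain ⟨a, ha⟩ := H.fix1_of_pow (k := 1) hx1 (by rw [pow_one, sq, hxx])
  have h1 : sol x = _ := H.card_sol_one hd (norm_free hm hF) ha
  have h2 := H.card_two_of_sq hd ha hxx
  have h3 := two_mul_phi_two hm hF hx
  have h5 : phi (Cfsg.suzukiOvoid F m) x = Nat.card {t : Cfsg.Sz F m // Free (Cfsg.suzukiOvoid F m) t ∧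
        x ∈ Subgroup.normalizer ((Subgroup.centralizer ({t} : Set (Cfsg.Sz F m)) :
          Subgroup (Cfsg.Sz F m)) : Set (Cfsg.Sz F m))} := rfl
  rw [← h5, h2] at h1
  refine h1.trans ?_
  have h4 : 2 ^ 2 * phi (Cfsg.suzukiOvoid F m) x = 2 * (2 ^ (2 * m + 1)) ^ 3 := by
    rw [← h3]; ring
  rw [h4]
  have h8 : 8 ≤ 2 ^ (2 * m + 1) := (SuzukiHyp.hyp hm hF).eight_le
  generalize 2 ^ (2 * m + 1) = q at h8 ⊢
  obtain ⟨k, rfl⟩ : ∃ k, q = k + 2 := ⟨q - 2, by omega⟩
  have e1 : k + 2 - 1 = k + 1 := by omega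
  have e2 : k + 1 - 1 = k := by omega
  have e3 : 4 * (k + 2) - 3 = 4 * k + 5 := by omega
  rw [e1, e2, e3]
  ring

theorem sol_four {x : Cfsg.Sz F m} (hx : orderOf x = 4) :
    sol x = (2 ^ (2 * m + 1)) ^ 2 * (2 ^ (2 * m + 1) + 3) := by
  haveI := finite_ovoid F m
  have H := hyp hm hF
  have hd := one_lt_d hm hF
  have hx1 : x ≠ 1 := by
    rintro rfl
    rw [orderOf_one] at hx
    omega
  have hxx : x * x ≠ 1 := by
    intro h
    have h2 := orderOf_dvd_of_pow_eq_one (show x ^ 2 = 1 by rw [sq, h])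
    rw [hx] at h2
    omega
  obtain ⟨a, ha⟩ := H.fix1_of_pow (k := 2) hx1 (by
    have h5 := pow_orderOf_eq_one x
    rwa [hx] at h5)
  have h1 : sol x = _ := H.card_sol_one hd (norm_free hm hF) ha
  have h2 := H.card_two_of_sq_ne hd ha hxx
  have h3 := phi_four hm hF hx
  have h5 : phi (Cfsg.suzukiOvoid F m) x = Nat.card {t : Cfsg.Sz F m // Free (Cfsg.suzukiOvoid F m) t ∧
        x ∈ Subgroup.normalizer ((Subgroup.centralizer ({t} : Set (Cfsg.Sz F m)) :
          Subgroup (Cfsg.Sz F m)) : Set (Cfsg.Sz F m))} := rfl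
  rw [← h5, h2, h3] at h1
  refine h1.trans ?_
  have h8 : 8 ≤ 2 ^ (2 * m + 1) := (SuzukiHyp.hyp hm hF).eight_le
  generalize 2 ^ (2 * m + 1) = q at h8 ⊢
  obtain ⟨k, rfl⟩ : ∃ k, q = k + 2 := ⟨q - 2, by omega⟩
  have e1 : k + 2 - 1 = k + 1 := by omega
  rw [e1]
  ring

/-- the three kinds of elements of odd order -/
theorem exists_torus_order {x : Cfsg.Sz F m} (hx : x ≠ 1) (hodd : Odd (orderOf x)) :
    (Free (Cfsg.suzukiOvoid F m) x ∧
      (orderOf x ∣ Nat.card (Subgroup.centralizer ({x} : Set (Cfsg.Sz F m))))) ∨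
    (orderOf x ∣ 2 ^ (2 * m + 1) - 1 ∧ ∃ a b : Cfsg.suzukiOvoid F m, a ≠ b ∧ x • a = a ∧ x • b = b) := by
  haveI := finite_ovoid F m
  have H := hyp hm hF
  rcases H.fix_cases hx with h | ⟨a, ha⟩ | ⟨a, b, hab, hf⟩
  · left
    refine ⟨h, ?_⟩
    exact Subgroup.orderOf_dvd_natCard _ (Subgroup.mem_centralizer_singleton_iff.2 rfl)
  · exfalso
    obtain ⟨k, hk⟩ := H.exists_pow_of_fix1 ha
    have h1 := orderOf_dvd_of_pow_eq_one hk
    have h2 : Nat.Coprime (orderOf x) (2 ^ k) := by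
      apply Nat.Coprime.pow_right
      exact Nat.coprime_two_right.mpr hodd
    have h3 := Nat.dvd_gcd dvd_rfl h1
    rw [h2] at h3
    exact hx (orderOf_eq_one_iff.1 (Nat.dvd_one.1 h3))
  · right
    have ha := (hf a).2 (Or.inl rfl)
    have hb := (hf b).2 (Or.inr rfl)
    exact ⟨H.orderOf_dvd_d hab ha hb, a, b, hab, ha, hb⟩

open Cfsg.Agent.H98.SzPartition in
theorem sol_split {x : Cfsg.Sz F m} (hx : x ≠ 1) (hord : orderOf x ∣ 2 ^ (2 * m + 1) - 1) :
    sol x = 2 * (2 ^ (2 * m + 1)) ^ 2 * (2 ^ (2 * m + 1) - 1) := by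
  haveI := finite_ovoid F m
  have H := hyp hm hF
  have hd := one_lt_d hm hF
  have hodd : Odd (orderOf x) := Odd.of_dvd_nat H.odd_d hord
  rcases exists_torus_order hm hF hx hodd with ⟨h1, h2⟩ | ⟨-, a, b, hab, ha, hb⟩
  · exfalso
    have h3 := card_centralizer_free hm hF (free_iff.1 h1)
    have h4 : orderOf x ≠ 1 := fun h => hx (orderOf_eq_one_iff.1 h)
    obtain ⟨p, hp, hpx⟩ := Nat.exists_prime_and_dvd h4
    have h5 := eq_of_prime_dvd (m := m) (Or.inl rfl) (Or.inr h3) hp (hpx.trans hord) (hpx.trans h2)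
    have h6 : 2 ^ (m + 1) ≤ 2 ^ (2 * m + 1) := Nat.pow_le_pow_right (by norm_num) (by omega)
    have h7 : 1 < 2 ^ (m + 1) := Nat.one_lt_two_pow (by omega)
    have h8 : 2 ^ (m + 1) + 2 ≤ 2 * 2 ^ (m + 1) := by omega
    have h9 : 4 ≤ 2 ^ (m + 1) := by
      calc 4 = 2 ^ 2 := by norm_num
        _ ≤ 2 ^ (m + 1) := Nat.pow_le_pow_right (by norm_num) (by omega)
    rcases h3 with h3 | h3
    · have h3' : Nat.card (Subgroup.centralizer ({x} : Set (Cfsg.Sz F m))) =
        2 ^ (2 * m + 1) + 2 ^ (m + 1) + 1 := h3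
      rw [h3'] at h5
      omega
    · have h3' : Nat.card (Subgroup.centralizer ({x} : Set (Cfsg.Sz F m))) =
        2 ^ (2 * m + 1) - 2 ^ (m + 1) + 1 := h3
      rw [h3'] at h5
      omega
  · have h1 : sol x = _ := H.card_sol_two hd (H.card_normalizer hd (norm_free hm hF)) hx hab ha hb
    rw [h1]
    ring

open Cfsg.Agent.H98.SzPartition in
theorem sol_free {x : Cfsg.Sz F m} (hx : x ≠ 1) {n : ℕ}
    (hn : n = 2 ^ (2 * m + 1) + 2 ^ (m + 1) + 1 ∨ n = 2 ^ (2 * m + 1) - 2 ^ (m + 1) + 1)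
    (hord : orderOf x ∣ n) :
    sol x = 4 * n := by
  haveI := finite_ovoid F m
  have H := hyp hm hF
  have hd := one_lt_d hm hF
  have hodd : Odd (orderOf x) := Odd.of_dvd_nat (odd_of_mem (Or.inr hn)) hord
  have h4 : orderOf x ≠ 1 := fun h => hx (orderOf_eq_one_iff.1 h)
  obtain ⟨p, hp, hpx⟩ := Nat.exists_prime_and_dvd h4
  have h9 : 4 ≤ 2 ^ (m + 1) := by
    calc 4 = 2 ^ 2 := by norm_num
      _ ≤ 2 ^ (m + 1) := Nat.pow_le_pow_right (by norm_num) (by omega)
  have h6 : 2 ^ (m + 1) ≤ 2 ^ (2 * m + 1) := Nat.pow_le_pow_right (by norm_num) (by omega)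
  rcases exists_torus_order hm hF hx hodd with ⟨h1, h2⟩ | ⟨h1, a, b, hab, ha, hb⟩
  · have h3 := card_centralizer_free hm hF (free_iff.1 h1)
    have h5 := eq_of_prime_dvd (m := m) (Or.inr hn) (Or.inr h3) hp (hpx.trans hord) (hpx.trans h2)
    have h10 : sol x = _ := H.card_sol_free (H.card_normalizer hd (norm_free hm hF)) h1
    rw [h10, norm_free hm hF x h1, ← h5]
    norm_num
  · exfalso
    have h5 := eq_of_prime_dvd (m := m) (Or.inl rfl) (Or.inr hn) hp (hpx.trans h1) (hpx.trans hord)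
    rcases hn with hn | hn
    · omega
    · omega

end two

theorem sol_equiv {G K : Type*} [Group G] [Group K] (e : G ≃* K) (x : G) : sol (e x) = sol x := by
  symm
  apply Nat.card_congr
  refine e.toEquiv.subtypeEquiv ?_
  intro y
  have h1 : Subgroup.closure ({e x, e y} : Set K) =
      (Subgroup.closure ({x, y} : Set G)).map e.toMonoidHom := by
    rw [MonoidHom.map_closure]
    congr 1
    ext z
    simp [eq_comm]
  have e2 : Subgroup.closure ({x, y} : Set G) ≃* Subgroup.closure ({e x, e y} : Set K) := by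
    rw [h1]
    exact (Subgroup.closure ({x, y} : Set G)).equivMapOfInjective _ e.injective
  constructor
  · intro h
    exact Group.isSolvable_of_isSolvable_injective (f := e2.symm.toMonoidHom) e2.symm.injective
  · intro h
    haveI : Group.IsSolvable ↥(Subgroup.closure ({e x, e y} : Set K)) := h
    exact Group.isSolvable_of_isSolvable_injective (f := e2.toMonoidHom) e2.injective

end Cfsg.Agent.H102.SzSol
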